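import Groth.Prelude.Def_Smoothing
import Mathlib.RingTheory.Smooth.Basic
import Mathlib.RingTheory.Localization.Away.Basic
import Mathlib.RingTheory.Localization.Ideal

set_option autoImplicit false
set_option backward.isDefEq.respectTransparency false

open MvPolynomial

namespace Smoothing

universe u

theorem exists_conormal_retraction_aux {R A : Type u} [CommRing R] [CommRing A] [Algebra R A] {N : ℕ}
    (φ : MvPolynomial (Fin N) R →ₐ[R] A) (hφ : Function.Surjective φ)
    (hfg : (RingHom.ker φ.toRingHom).FG) (a : A)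
    (a' : MvPolynomial (Fin N) R) (ha : φ a' = a)
    (PA : Type u) [CommRing PA] [Algebra (MvPolynomial (Fin N) R) PA]
    [IsLocalization (Submonoid.powers a') PA] [Algebra R PA] [IsScalarTower R (MvPolynomial (Fin N) R) PA]
    (S : Type u) [CommRing S] [Algebra A S] [IsLocalization.Away a S] [Algebra R S]
    [IsScalarTower R A S] [Algebra.FormallySmooth R S] :
    ∃ (e : ℕ) (h : Fin N → MvPolynomial (Fin N) R), (∀ k, h k ∈ RingHom.ker φ.toRingHom) ∧
      ∀ x ∈ RingHom.ker φ.toRingHom,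
        a' ^ e * x - ∑ k, pderiv k x * h k ∈ RingHom.ker φ.toRingHom ^ 2 := by
  classical
  let I := RingHom.ker φ.toRingHom
  let M : Submonoid (MvPolynomial (Fin N) R) := Submonoid.powers a'
  let IA : Ideal PA := I.map (algebraMap _ PA)
  have hu₀ : ∀ s : M, IsUnit (((IsScalarTower.toAlgHom R A S).comp φ) (s : MvPolynomial (Fin N) R)) := by
    rintro ⟨_, j, rfl⟩
    show IsUnit (algebraMap A S (φ (a' ^ j)))
    rw [map_pow, ha, map_pow]
    exact (IsLocalization.Away.algebraMap_isUnit a).pow j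
  let π₀ : PA →ₐ[R] S := IsLocalization.liftAlgHom (M := M) hu₀
  have hπalg : ∀ x, π₀ (algebraMap _ PA x) = algebraMap A S (φ x) := fun x =>
    IsLocalization.lift_eq _ x
  have hπ₀ : Function.Surjective π₀ := by
    intro y
    obtain ⟨x, ⟨_, j, rfl⟩, rfl⟩ := IsLocalization.exists_mk'_eq (Submonoid.powers a) y
    obtain ⟨x', rfl⟩ := hφ x
    refine ⟨IsLocalization.mk' _ x' (⟨a' ^ j, j, rfl⟩ : M), ?_⟩
    rw [IsLocalization.eq_mk'_iff_mul_eq, show algebraMap A S (a ^ j) = algebraMap A S (φ (a' ^ j)) by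
      rw [map_pow φ, ha], ← hπalg, ← hπalg, ← map_mul]
    congr 1
    exact IsLocalization.mk'_spec PA x' (⟨a' ^ j, j, rfl⟩ : M)
  have hker₀ : RingHom.ker π₀.toRingHom = IA := by
    refine le_antisymm (fun z hz => ?_) ?_
    · obtain ⟨x, s, rfl⟩ := IsLocalization.exists_mk'_eq M z
      have h : algebraMap A S (φ x) = 0 := by
        rw [← hπalg, ← IsLocalization.mk'_spec PA x s, map_mul]
        rw [show π₀ (IsLocalization.mk' PA x s) = 0 from hz, zero_mul]
      obtain ⟨⟨_, j, rfl⟩, h⟩ := (IsLocalization.map_eq_zero_iff (Submonoid.powers a) S _).1 h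
      rw [IsLocalization.mk'_mem_map_algebraMap_iff M]
      refine ⟨a' ^ j, ⟨j, rfl⟩, ?_⟩
      rw [RingHom.mem_ker, map_mul, map_pow]
      show φ a' ^ j * φ x = 0
      rw [ha]
      exact h
    · rw [Ideal.map_le_iff_le_comap]
      intro x hx
      show π₀ (algebraMap _ PA x) = 0
      rw [hπalg, show φ x = 0 from hx, map_zero]
  have hIA2 : ∀ x ∈ IA ^ 2, π₀ x = 0 := fun x hx => by
    have : x ∈ RingHom.ker π₀.toRingHom := hker₀ ▸ Ideal.pow_le_self two_ne_zero hx
    exact this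
  let γ : MvPolynomial (Fin N) R →ₐ[R] PA ⧸ IA ^ 2 :=
    (Ideal.Quotient.mkₐ R (IA ^ 2)).comp (IsScalarTower.toAlgHom R _ PA)
  let ε : (PA ⧸ IA ^ 2) →ₐ[R] S := Ideal.Quotient.liftₐ (IA ^ 2) π₀ hIA2
  have hε : Function.Surjective ε := fun y => by
    obtain ⟨x, rfl⟩ := hπ₀ y
    exact ⟨Ideal.Quotient.mk _ x, rfl⟩
  let K : Ideal (PA ⧸ IA ^ 2) := RingHom.ker ε.toRingHom
  have hK : K = IA.map (Ideal.Quotient.mk _) := by
    ext b
    obtain ⟨x, rfl⟩ := Ideal.Quotient.mk_surjective b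
    show π₀.toRingHom x = 0 ↔ _
    rw [← RingHom.mem_ker, hker₀, Ideal.mem_map_iff_of_surjective _ Ideal.Quotient.mk_surjective]
    refine ⟨fun h => ⟨x, h, rfl⟩, fun ⟨x', h', he⟩ => ?_⟩
    have := Ideal.pow_le_self two_ne_zero (Ideal.Quotient.eq.1 he)
    simpa using sub_mem h' this
  have hK2 : K ^ 2 = ⊥ := by
    rw [hK]
    exact (Ideal.map_pow _ IA 2).symm.trans (Ideal.map_quotient_self (IA ^ 2))
  let s : S →ₐ[R] PA ⧸ IA ^ 2 :=
    Algebra.FormallySmooth.liftOfSurjective (AlgHom.id R S) ε hε ⟨2, hK2⟩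
  have hs : ∀ y, ε (s y) = y := fun y =>
    Algebra.FormallySmooth.liftOfSurjective_apply (AlgHom.id R S) ε hε ⟨2, hK2⟩ y
  let σ : MvPolynomial (Fin N) R →ₐ[R] PA ⧸ IA ^ 2 := s.comp (ε.comp γ)
  have hσK : ∀ p, γ p - σ p ∈ K := fun p => by
    show ε (γ p - s (ε (γ p))) = 0
    rw [map_sub, hs, sub_self]
  have hKK : ∀ x y, x ∈ K → y ∈ K → x * y = 0 := fun x y hx hy => by
    have : x * y ∈ K ^ 2 := pow_two K ▸ Ideal.mul_mem_mul hx hy
    simpa [hK2] using this
  have hδ : ∀ p, γ p - σ p = ∑ k, γ (pderiv k p) * (γ (X k) - σ (X k)) := by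
    intro p
    induction p using MvPolynomial.induction_on with
    | C r => simp [← MvPolynomial.algebraMap_eq]
    | add p q hp hq =>
      simp only [map_add, add_mul, Finset.sum_add_distrib, ← hp, ← hq]
      ring
    | mul_X p i hp =>
      have h0 := hKK _ _ (hσK p) (hσK (X i))
      have hsum : ∑ k, γ (pderiv k (p * X i)) * (γ (X k) - σ (X k)) =
          γ (X i) * (γ p - σ p) + γ p * (γ (X i) - σ (X i)) := by
        rw [hp, Finset.mul_sum]
        simp only [pderiv_mul, map_add, map_mul, add_mul, Finset.sum_add_distrib]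
        congr 1
        · exact Finset.sum_congr rfl fun k _ => by ring
        · simp [pderiv_X, Pi.single_apply, apply_ite γ]
      rw [hsum, map_mul, map_mul]
      linear_combination -h0
  -- write `ξ k` with denominators
  have hrep : ∀ k, ∃ (j : ℕ) (h : MvPolynomial (Fin N) R), h ∈ I ∧
      γ (a' ^ j) * (γ (X k) - σ (X k)) = γ h := by
    intro k
    have hm := hσK (X k)
    rw [hK, Ideal.mem_map_iff_of_surjective _ Ideal.Quotient.mk_surjective] at hm
    obtain ⟨z, hz, hz'⟩ := hm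
    obtain ⟨x, t, rfl⟩ := IsLocalization.exists_mk'_eq M z
    rw [IsLocalization.mk'_mem_map_algebraMap_iff M] at hz
    obtain ⟨_, ⟨j₂, rfl⟩, hx⟩ := hz
    obtain ⟨_, j₁, rfl⟩ := t
    refine ⟨j₂ + j₁, a' ^ j₂ * x, hx, ?_⟩
    show γ (a' ^ (j₂ + j₁)) * (γ (X k) - σ (X k)) =
      Ideal.Quotient.mk (IA ^ 2) (algebraMap _ PA (a' ^ j₂ * x))
    rw [← hz']
    show Ideal.Quotient.mk (IA ^ 2) (algebraMap _ PA (a' ^ (j₂ + j₁))) *
      Ideal.Quotient.mk (IA ^ 2) _ = _
    rw [← map_mul]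
    congr 1
    rw [pow_add, map_mul, map_mul, mul_assoc]
    congr 1
    exact IsLocalization.mk'_spec' PA x (⟨a' ^ j₁, j₁, rfl⟩ : M)
  choose j h hhI hh using hrep
  let e₀ := ∑ k, j k
  let h₀ : Fin N → MvPolynomial (Fin N) R := fun k => a' ^ (e₀ - j k) * h k
  have hh₀ : ∀ k, γ (a' ^ e₀) * (γ (X k) - σ (X k)) = γ (h₀ k) := fun k => by
    have hle : j k ≤ e₀ := Finset.single_le_sum (fun i _ => Nat.zero_le (j i)) (Finset.mem_univ k)
    rw [map_mul, ← hh k, ← mul_assoc, ← map_mul, ← pow_add, Nat.sub_add_cancel hle]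
  have hx2 : ∀ x ∈ I, ∃ t : ℕ, a' ^ t * (a' ^ e₀ * x - ∑ k, pderiv k x * h₀ k) ∈ I ^ 2 := by
    intro x hx
    have hσx : σ x = 0 := by
      show s (π₀ (algebraMap _ PA x)) = 0
      rw [hπalg, show φ x = 0 from hx, map_zero, map_zero]
    have h1 : γ (a' ^ e₀ * x - ∑ k, pderiv k x * h₀ k) = 0 := by
      have h2 := hδ x
      rw [hσx, sub_zero] at h2
      rw [map_sub, map_mul, h2, map_sum, Finset.mul_sum, sub_eq_zero]
      refine Finset.sum_congr rfl fun k _ => ?_
      rw [map_mul, ← hh₀]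
      ring
    have h3 : algebraMap _ PA (a' ^ e₀ * x - ∑ k, pderiv k x * h₀ k) ∈ (I ^ 2).map (algebraMap _ PA) := by
      rw [Ideal.map_pow]
      exact Ideal.Quotient.eq_zero_iff_mem.1 h1
    rw [IsLocalization.algebraMap_mem_map_algebraMap_iff M] at h3
    obtain ⟨_, ⟨t, rfl⟩, ht⟩ := h3
    exact ⟨t, ht⟩
  obtain ⟨G, hG⟩ := hfg
  have hGI : ∀ g ∈ G, g ∈ I := fun g hg => by
    show g ∈ RingHom.ker φ.toRingHom
    rw [← hG]
    exact Ideal.subset_span hg
  choose t ht using hx2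
  let T := ∑ g : G, t g.1 (hGI g.1 g.2)
  let e := T + e₀
  let h₁ : Fin N → MvPolynomial (Fin N) R := fun k => a' ^ T * h₀ k
  have hh₁ : ∀ k, h₁ k ∈ I := fun k => I.mul_mem_left _ (I.mul_mem_left _ (hhI k))
  refine ⟨e, h₁, hh₁, fun x hx => ?_⟩
  have hx' : x ∈ Ideal.span (G : Set (MvPolynomial (Fin N) R)) := hG ▸ hx
  clear hx
  induction hx' using Submodule.span_induction with
  | mem g hg =>
    have h1 := ht g (hGI g hg)
    have hle : t g (hGI g hg) ≤ T :=
      Finset.single_le_sum (f := fun g : G => t g.1 (hGI g.1 g.2)) (fun i _ => Nat.zero_le _)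
        (Finset.mem_univ (⟨g, hg⟩ : G))
    obtain ⟨d, hd⟩ := Nat.exists_eq_add_of_le hle
    have : a' ^ e * g - ∑ k, pderiv k g * h₁ k =
        a' ^ d * (a' ^ t g (hGI g hg) * (a' ^ e₀ * g - ∑ k, pderiv k g * h₀ k)) := by
      simp only [e, h₁, hd, mul_sub, Finset.mul_sum, pow_add]
      congr 1
      · ring
      · exact Finset.sum_congr rfl fun k _ => by ring
    rw [this]
    exact Ideal.mul_mem_left _ _ h1
  | zero => simp
  | add x y _ _ hx hy =>
    convert Ideal.add_mem _ hx hy using 1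
    simp only [map_add, add_mul, Finset.sum_add_distrib, mul_add]
    ring
  | smul r x hx ih =>
    have hxI : x ∈ I := by
      show x ∈ RingHom.ker φ.toRingHom
      rw [← hG]
      exact hx
    have : a' ^ e * (r • x) - ∑ k, pderiv k (r • x) * h₁ k =
        r * (a' ^ e * x - ∑ k, pderiv k x * h₁ k) - x * ∑ k, pderiv k r * h₁ k := by
      simp only [smul_eq_mul, pderiv_mul, add_mul, Finset.sum_add_distrib, mul_sub, Finset.mul_sum]
      have e1 : ∑ k, pderiv k r * x * h₁ k = ∑ k, x * (pderiv k r * h₁ k) :=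
        Finset.sum_congr rfl fun k _ => by ring
      have e2 : ∑ k, r * pderiv k x * h₁ k = ∑ k, r * (pderiv k x * h₁ k) :=
        Finset.sum_congr rfl fun k _ => by ring
      rw [e1, e2]
      ring
    rw [this]
    refine sub_mem (Ideal.mul_mem_left _ _ ih) ?_
    rw [pow_two]
    exact Ideal.mul_mem_mul hxI (I.sum_mem fun k _ => I.mul_mem_left _ (hh₁ k))

/-- If `A[1/a]` is formally smooth, the conormal sequence splits up to a power of a lift of `a`. -/
theorem exists_conormal_retraction {R A : Type u} [CommRing R] [CommRing A] [Algebra R A] {N : ℕ}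
    (φ : MvPolynomial (Fin N) R →ₐ[R] A) (hφ : Function.Surjective φ)
    (hfg : (RingHom.ker φ.toRingHom).FG) (a : A)
    [Algebra.FormallySmooth R (Localization.Away a)] (a' : MvPolynomial (Fin N) R) (ha : φ a' = a) :
    ∃ (e : ℕ) (h : Fin N → MvPolynomial (Fin N) R), (∀ k, h k ∈ RingHom.ker φ.toRingHom) ∧
      ∀ x ∈ RingHom.ker φ.toRingHom,
        a' ^ e * x - ∑ k, pderiv k x * h k ∈ RingHom.ker φ.toRingHom ^ 2 :=
  exists_conormal_retraction_aux φ hφ hfg a a' ha (Localization (Submonoid.powers a'))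
    (Localization.Away a)

end Smoothing
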