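import Mathlib.RingTheory.Kaehler.Basic
import Mathlib.RingTheory.Smooth.Basic
import Mathlib.RingTheory.FinitePresentation
import Mathlib.Algebra.TrivSqZeroExt.Basic
import Mathlib.LinearAlgebra.Pi

set_option autoImplicit false
set_option backward.isDefEq.respectTransparency false

/-! The symmetric algebra of the image of an idempotent endomorphism of a finite free module. -/

open MvPolynomial

namespace Smoothing

universe u

variable {S : Type u} [CommRing S] {n : ℕ} (Cm : (Fin n → S) →ₗ[S] (Fin n → S))

/-- the defining linear relations -/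
noncomputable def projRel : Fin n → MvPolynomial (Fin n) S :=
  fun k => X k - ∑ j, MvPolynomial.C (Cm (Pi.single k 1) j) * X j

/-- the symmetric algebra of the image of the idempotent `Cm` -/
abbrev SymProj : Type u := MvPolynomial (Fin n) S ⧸ Ideal.span (Set.range (projRel Cm))

/-- the generators -/
noncomputable def symT (k : Fin n) : SymProj Cm := Ideal.Quotient.mk _ (X k)

lemma symT_eq (k : Fin n) :
    symT Cm k = ∑ j, algebraMap S (SymProj Cm) (Cm (Pi.single k 1) j) * symT Cm j := by
  have h : Ideal.Quotient.mk (Ideal.span (Set.range (projRel Cm))) (projRel Cm k) = 0 :=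
    Ideal.Quotient.eq_zero_iff_mem.2 (Ideal.subset_span ⟨k, rfl⟩)
  rw [projRel, map_sub, map_sum, sub_eq_zero] at h
  refine h.trans (Finset.sum_congr rfl fun j _ => ?_)
  rw [map_mul]
  rfl

variable {Cm} (hCm : ∀ v, Cm (Cm v) = Cm v)
include hCm

lemma proj_matrix_idem (k i : Fin n) :
    ∑ j, Cm (Pi.single k 1) j * Cm (Pi.single j 1) i = Cm (Pi.single k 1) i := by
  conv_rhs => rw [← hCm, pi_eq_sum_univ' (Cm (Pi.single k 1)), map_sum, Finset.sum_apply]
  simp [map_smul]

/-- lift to the polynomial ring -/
noncomputable def symSection : SymProj Cm →ₐ[S] MvPolynomial (Fin n) S :=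
  Ideal.Quotient.liftₐ _
    (aeval fun k => ∑ j, MvPolynomial.C (Cm (Pi.single k 1) j) * X j) (by
      intro x hx
      refine (show Ideal.span (Set.range (projRel Cm)) ≤ RingHom.ker
        (aeval fun k => ∑ j, MvPolynomial.C (Cm (Pi.single k 1) j) * X j :
          MvPolynomial (Fin n) S →ₐ[S] MvPolynomial (Fin n) S).toRingHom from
        Ideal.span_le.2 ?_) hx
      rintro _ ⟨k, rfl⟩
      simp only [projRel, SetLike.mem_coe, RingHom.mem_ker, AlgHom.toRingHom_eq_coe, RingHom.coe_coe,
        map_sub, aeval_X, map_sum, map_mul, aeval_C, MvPolynomial.algebraMap_eq, Finset.mul_sum]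
      rw [sub_eq_zero, Finset.sum_comm]
      refine Finset.sum_congr rfl fun i _ => ?_
      simp only [← mul_assoc, ← map_mul, ← Finset.sum_mul, ← map_sum, proj_matrix_idem hCm])

theorem formallySmooth_symProj : Algebra.FormallySmooth S (SymProj Cm) := by
  refine Algebra.FormallySmooth.iff_comp_surjective.2 fun B _ _ I hI f => ?_
  obtain ⟨g, hg⟩ := Algebra.FormallySmooth.comp_surjective S (MvPolynomial (Fin n) S) I hI
    (f.comp (Ideal.Quotient.mkₐ S _))
  refine ⟨g.comp (symSection hCm), AlgHom.ext fun x => ?_⟩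
  obtain ⟨x, rfl⟩ := Ideal.Quotient.mk_surjective x
  have h1 : ∀ z, Ideal.Quotient.mk I (g z) = f (Ideal.Quotient.mk _ z) := fun z =>
    AlgHom.congr_fun hg z
  show Ideal.Quotient.mk I (g (symSection hCm (Ideal.Quotient.mk _ x))) = _
  rw [h1]
  congr 1
  have : (Ideal.Quotient.mkₐ S (Ideal.span (Set.range (projRel Cm)))).comp
      (aeval fun k => ∑ j, MvPolynomial.C (Cm (Pi.single k 1) j) * X j) =
      Ideal.Quotient.mkₐ S _ := by
    refine MvPolynomial.algHom_ext fun k => ?_
    simp only [AlgHom.comp_apply, aeval_X, map_sum, map_mul]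
    exact ((symT_eq Cm k).trans rfl).symm
  exact AlgHom.congr_fun this x

variable {R : Type u} [CommRing R] [Algebra R S] {Q : Type u} [CommRing Q] [Algebra S Q] [Algebra R Q]
  [IsScalarTower R S Q]

/-- The differentials of the symmetric algebra are free, with explicit coordinates. -/
theorem exists_kaehler_symProj (π : MvPolynomial (Fin n) S →ₐ[S] Q) (hπ : Function.Surjective π)
    (hker : RingHom.ker π.toRingHom = Ideal.span (Set.range (projRel Cm))) (x : Fin n → S) (Θ : Ω[S⁄R] →ₗ[S] (Fin n → S))
    (G : (Fin n → S) →ₗ[S] Ω[S⁄R]) (hGΘ : ∀ ω, G (Θ ω) = ω) (hΘG : ∀ v, Θ (G v) = v - Cm v)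
    (hG : ∀ k, G (Pi.single k 1) = KaehlerDifferential.D R S (x k)) :
    ∃ (E : Ω[Q⁄R] ≃ₗ[Q] (Fin n → Q)),
      ∀ (ret : Q →ₐ[S] S), (∀ k, ret (π (X k)) = 0) → ∀ k j,
        ret (E (KaehlerDifferential.D R Q
          (algebraMap S Q (x k) + π (X k))) j) = Pi.single (M := fun _ => S) k 1 j := by
  classical
  let al : S →ₐ[R] Q := IsScalarTower.toAlgHom R S Q
  let t : Fin n → Q := fun k => π (X k)
  let M : Fin n → Fin n → S := fun k j => Cm (Pi.single k 1) j
  let up : (Fin n → S) → (Fin n → Q) := fun v j => al (v j)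
  let DS : S → (Fin n → Q) := fun s => up (Θ (KaehlerDifferential.D R S s))
  have hDSm : ∀ s s', DS (s * s') = al s • DS s' + al s' • DS s := fun s s' => by
    funext j
    simp [DS, up, Derivation.leibniz, map_smul]
  have hM : ∀ k i, ∑ j, M k j * M j i = M k i := proj_matrix_idem hCm
  have hrel0 : ∀ z ∈ Ideal.span (Set.range (projRel Cm)), π z = 0 := fun z hz => by
    rw [← hker] at hz
    exact hz
  have hT : ∀ k, t k = ∑ j, al (M k j) * t j := fun k => by
    have h := hrel0 _ (Ideal.subset_span ⟨k, rfl⟩)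
    rw [projRel, map_sub, map_sum, sub_eq_zero] at h
    refine h.trans (Finset.sum_congr rfl fun j _ => ?_)
    rw [map_mul, ← MvPolynomial.algebraMap_eq, π.commutes]
    rfl
  have hDM : ∀ k i, DS (M k i) = ∑ j, (al (M k j) • DS (M j i) + al (M j i) • DS (M k j)) := by
    intro k i
    conv_lhs => rw [← hM k i]
    simp only [DS, map_sum]
    funext l
    simp [up, Finset.sum_apply, map_sum, Derivation.leibniz, map_smul]
  -- the value of the derivation on the generators
  let w : Fin n → Fin n → Q := fun k => (∑ j, t j • DS (M k j)) + up (Cm (Pi.single k 1))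
  let F : MvPolynomial (Fin n) S →+* TrivSqZeroExt Q (Fin n → Q) :=
    MvPolynomial.eval₂Hom
      { toFun := fun s => TrivSqZeroExt.inl (al s) + TrivSqZeroExt.inr (DS s)
        map_one' := by
          ext <;> simp [DS, up]
        map_mul' := fun a b => by
          refine TrivSqZeroExt.ext (by simp) ?_
          simp only [TrivSqZeroExt.snd_add, TrivSqZeroExt.snd_inl, TrivSqZeroExt.snd_inr, zero_add,
            TrivSqZeroExt.snd_mul, TrivSqZeroExt.fst_add, TrivSqZeroExt.fst_inl,
            TrivSqZeroExt.fst_inr, add_zero, op_smul_eq_smul]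
          exact hDSm a b
        map_zero' := by
          ext <;> simp [DS, up]
        map_add' := fun a b => by
          ext <;> simp [DS, up]
      }
      fun k => TrivSqZeroExt.inl (t k) + TrivSqZeroExt.inr (w k)
  have hFfst : ∀ p, (F p).fst = π p := by
    intro p
    induction p using MvPolynomial.induction_on with
    | C s =>
      rw [← MvPolynomial.algebraMap_eq, π.commutes]
      simp [F]
      rfl
    | add a b ha hb => simp [ha, hb]
    | mul_X a i ha =>
      rw [map_mul, TrivSqZeroExt.fst_mul, ha, map_mul]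
      congr 1
      simp [F]
      rfl
  have hFrel : ∀ k, F (projRel Cm k) = 0 := by
    intro k
    refine TrivSqZeroExt.ext ?_ ?_
    · rw [hFfst]
      exact hrel0 _ (Ideal.subset_span ⟨k, rfl⟩)
    · rw [projRel, map_sub, map_sum]
      simp only [TrivSqZeroExt.snd_sub, TrivSqZeroExt.snd_zero, TrivSqZeroExt.snd_sum, map_mul,
        TrivSqZeroExt.snd_mul, op_smul_eq_smul]
      rw [sub_eq_zero]
      simp only [F, MvPolynomial.eval₂Hom_X', MvPolynomial.eval₂Hom_C, RingHom.coe_mk,
        MonoidHom.coe_mk, OneHom.coe_mk, TrivSqZeroExt.fst_add, TrivSqZeroExt.fst_inl,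
        TrivSqZeroExt.fst_inr, TrivSqZeroExt.snd_add, TrivSqZeroExt.snd_inl, TrivSqZeroExt.snd_inr,
        zero_add, add_zero]
      show w k = ∑ j, (al (M k j) • w j + t j • DS (M k j))
      have e1 : ∑ j, al (M k j) • up (Cm (Pi.single j 1)) = up (Cm (Pi.single k 1)) := by
        funext i
        simp only [Finset.sum_apply, Pi.smul_apply, smul_eq_mul, up, ← map_mul, ← map_sum]
        exact congrArg al (hM k i)
      have e2 : ∑ j, al (M k j) • ∑ i, t i • DS (M j i) + ∑ j, t j • DS (M k j) =
          ∑ i, t i • DS (M k i) := by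
        have h3 : ∑ i, t i • DS (M k i) =
            (∑ i, t i • ∑ j, al (M k j) • DS (M j i)) + ∑ i, t i • ∑ j, al (M j i) • DS (M k j) := by
          rw [← Finset.sum_add_distrib]
          refine Finset.sum_congr rfl fun i _ => ?_
          rw [← smul_add, ← Finset.sum_add_distrib, ← hDM]
        conv_rhs => rw [h3]
        congr 1
        · simp only [Finset.smul_sum, smul_smul]
          rw [Finset.sum_comm]
          simp only [mul_comm]
        · simp only [Finset.smul_sum, smul_smul]
          rw [Finset.sum_comm]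
          refine Finset.sum_congr rfl fun j _ => ?_
          rw [← Finset.sum_smul]
          congr 1
          rw [hT j]
          exact Finset.sum_congr rfl fun i _ => mul_comm _ _
      simp only [w, smul_add, Finset.sum_add_distrib, e1]
      rw [add_right_comm, e2]
  have hFker : RingHom.ker π.toRingHom ≤ RingHom.ker F := by
    rw [hker, Ideal.span_le]
    rintro _ ⟨k, rfl⟩
    exact hFrel k
  let F' : Q →+* TrivSqZeroExt Q (Fin n → Q) := RingHom.liftOfSurjective π.toRingHom hπ ⟨F, hFker⟩
  have hF'π : ∀ p, F' (π p) = F p := fun p =>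
    RingHom.liftOfRightInverse_comp_apply _ _ _ ⟨F, hFker⟩ p
  have hF'fst : ∀ q, (F' q).fst = q := fun q => by
    obtain ⟨p, rfl⟩ := hπ q
    rw [hF'π]
    exact hFfst p
  have hF'al : ∀ s, (F' (al s)).snd = DS s := fun s => by
    show (F' (algebraMap S Q s)).snd = _
    rw [← π.commutes, hF'π, MvPolynomial.algebraMap_eq]
    simp [F]
  have hF't : ∀ k, (F' (t k)).snd = w k := fun k => by
    show (F' (π (X k))).snd = _
    rw [hF'π]
    simp [F]
  let DQ : Derivation R Q (Fin n → Q) :=
    { toFun := fun q => (F' q).snd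
      map_add' := fun a b => by simp
      map_smul' := fun r q => by
        rw [Algebra.smul_def, map_mul, TrivSqZeroExt.snd_mul, IsScalarTower.algebraMap_apply R S Q,
          show algebraMap S Q (algebraMap R S r) = al (algebraMap R S r) from rfl, hF'fst, hF'al]
        have : DS (algebraMap R S r) = 0 := by funext j; simp [DS, up]
        rw [this, smul_zero, add_zero, RingHom.id_apply]
        show al (algebraMap R S r) • _ = _
        rw [show al (algebraMap R S r) = algebraMap R Q r from al.commutes r, algebraMap_smul]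
      map_one_eq_zero' := by simp
      leibniz' := fun a b => by
        show (F' (a * b)).snd = a • (F' b).snd + b • (F' a).snd
        rw [map_mul, TrivSqZeroExt.snd_mul, hF'fst, hF'fst, op_smul_eq_smul] }
  let dQ := KaehlerDifferential.D R Q
  let η : Fin n → Ω[Q⁄R] := fun k => dQ (t k) - ∑ j, t j • dQ (al (M k j))
  let Φ : (Fin n → Q) →ₗ[Q] Ω[Q⁄R] := Fintype.linearCombination Q fun k => dQ (al (x k)) + η k
  let Ψ : Ω[Q⁄R] →ₗ[Q] (Fin n → Q) := DQ.liftKaehlerDifferential
  have hΨd : ∀ q, Ψ (dQ q) = (F' q).snd := fun q => DQ.liftKaehlerDifferential_comp_D q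
  have hΨη : ∀ k, Ψ (η k) = up (Cm (Pi.single k 1)) := fun k => by
    simp only [η, map_sub, map_sum, map_smul, hΨd, hF't, hF'al, w, add_sub_cancel_left]
  have hΨx : ∀ k, Ψ (dQ (al (x k))) = up (Pi.single k 1 - Cm (Pi.single k 1)) := fun k => by
    rw [hΨd, hF'al]
    simp only [DS, ← hG, hΘG]
  have hΨΦ : Ψ ∘ₗ Φ = LinearMap.id := by
    refine LinearMap.pi_ext' fun k => LinearMap.ext_ring ?_
    show Ψ (Φ (Pi.single k 1)) = Pi.single k 1
    rw [show Φ (Pi.single k 1) = (1 : Q) • (dQ (al (x k)) + η k) from
      Fintype.linearCombination_apply_single Q _ k 1, one_smul, map_add, hΨx, hΨη]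
    funext j
    by_cases hjk : j = k
    · subst hjk; simp [up]
    · simp [up, hjk]
  -- `Φ` is a left inverse
  let ρ := KaehlerDifferential.map R R S Q
  have hρd : ∀ s, ρ (KaehlerDifferential.D R S s) = dQ (al s) := fun s =>
    KaehlerDifferential.map_D R R S Q s
  have hη : ∀ k, ∑ j, al (M k j) • η j = η k := by
    intro k
    have hd : ∀ k i, dQ (al (M k i)) =
        ∑ j, (al (M k j) • dQ (al (M j i)) + al (M j i) • dQ (al (M k j))) := fun k i => by
      conv_lhs => rw [← hM k i]
      simp [map_sum, Derivation.leibniz]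
    have h1 : dQ (t k) = ∑ j, (al (M k j) • dQ (t j) + t j • dQ (al (M k j))) := by
      conv_lhs => rw [hT k]
      rw [map_sum]
      exact Finset.sum_congr rfl fun j _ => Derivation.leibniz _ _ _
    have h2 : ∑ i, t i • dQ (al (M k i)) =
        (∑ j, al (M k j) • ∑ i, t i • dQ (al (M j i))) + ∑ j, t j • dQ (al (M k j)) := by
      conv_lhs => enter [2, i]; rw [hd k i]
      simp only [smul_add, Finset.smul_sum, Finset.sum_add_distrib, smul_smul]
      congr 1
      · rw [Finset.sum_comm]
        simp only [mul_comm]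
      · rw [Finset.sum_comm]
        refine Finset.sum_congr rfl fun j _ => ?_
        rw [← Finset.sum_smul]
        congr 1
        rw [hT j]
        exact Finset.sum_congr rfl fun i _ => mul_comm _ _
    simp only [η, smul_sub, Finset.sum_sub_distrib]
    have hX : ∑ j, al (M k j) • ∑ i, t i • dQ (al (M j i)) = 0 := add_eq_right.1 h2.symm
    rw [h1, Finset.sum_add_distrib, hX]
    abel
  have hΦup : ∀ v, Φ (up v) = ρ (G v) + ∑ j, al (v j) • η j := by
    intro v
    show ∑ j, up v j • (dQ (al (x j)) + η j) = _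
    simp only [smul_add, Finset.sum_add_distrib]
    congr 1
    conv_rhs => rw [pi_eq_sum_univ' v, map_sum, map_sum]
    refine Finset.sum_congr rfl fun j _ => ?_
    rw [map_smul, hG, map_smul, hρd, ← algebraMap_smul Q (v j)]
    rfl
  have hηG : ∀ v, ∑ j, al (v j) • η j = ∑ j, al (Cm v j) • η j := by
    intro v
    conv_rhs => rw [pi_eq_sum_univ' v]
    simp only [map_sum, map_smul, Finset.sum_apply, Pi.smul_apply, smul_eq_mul, map_mul,
      Finset.sum_smul]
    rw [Finset.sum_comm]
    refine Finset.sum_congr rfl fun j _ => ?_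
    simp only [← smul_smul, ← Finset.smul_sum]
    congr 1
    exact (hη j).symm
  have hGC : ∀ v, G (Cm v) = 0 := fun v => by
    have h1 := congrArg G (hΘG v)
    rw [hGΘ, map_sub] at h1
    exact sub_eq_self.1 h1.symm
  have hΦDS : ∀ s, Φ (DS s) = dQ (al s) := fun s => by
    let ω := KaehlerDifferential.D R S s
    have hC0 : Cm (Θ ω) = 0 := by
      have h1 := hΘG (Θ ω)
      rw [hGΘ] at h1
      exact sub_eq_self.1 h1.symm
    show Φ (up (Θ ω)) = _
    rw [hΦup, hGΘ, hηG, hC0, hρd]
    simp
  have hΦt : ∀ k, Φ (w k) = dQ (t k) := fun k => by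
    simp only [w, map_add, map_sum, map_smul, hΦDS]
    rw [hΦup, hGC, map_zero, zero_add]
    show _ + ∑ j, al (M k j) • η j = _
    rw [hη]
    simp only [η]
    abel
  have hΦΨ : Φ ∘ₗ Ψ = LinearMap.id := by
    refine Derivation.liftKaehlerDifferential_unique _ _ (Derivation.ext fun q => ?_)
    show Φ (Ψ (dQ q)) = dQ q
    obtain ⟨p, rfl⟩ := hπ q
    induction p using MvPolynomial.induction_on with
    | C s =>
      rw [show π (MvPolynomial.C s) = al s from π.commutes s, hΨd, hF'al, hΦDS]
    | add a b ha hb =>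
      simp only [map_add] at ha hb ⊢
      rw [ha, hb]
    | mul_X a i ha =>
      rw [map_mul, Derivation.leibniz, map_add, map_add, map_smul, map_smul, map_smul, map_smul, ha]
      congr 1
      rw [show π (X i) = t i from rfl, hΨd, hF't, hΦt]
  refine ⟨LinearEquiv.ofLinearMap Ψ Φ hΨΦ hΦΨ, fun ret hret k j => ?_⟩
  show ret (Ψ (dQ (al (x k) + t k)) j) = _
  rw [map_add, map_add, hΨx, hΨd, hF't]
  have hretal : ∀ s, ret (al s) = s := fun s => ret.commutes s
  simp only [w, up, Pi.add_apply, Finset.sum_apply, Pi.smul_apply, smul_eq_mul, map_add, map_sum,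
    map_mul, hretal, Pi.sub_apply]
  simp [t, hret]

end Smoothing
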