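import Groth.Agent.Lib.Smoothing.Gradient
import Groth.Agent.Lib.Smoothing.ConormalRetraction
import Groth.Agent.Lib.Smoothing.SymProj
import Mathlib.RingTheory.Smooth.StandardSmoothOfFree
import Mathlib.RingTheory.Localization.Module
import Mathlib.RingTheory.Localization.Integer
import Mathlib.LinearAlgebra.Determinant

set_option autoImplicit false
set_option backward.isDefEq.respectTransparency false

open MvPolynomial

namespace Smoothing

universe u

variable {R A : Type u} [CommRing R] [CommRing A] [Algebra R A]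

/-- the conormal projection attached to a presentation at an element with smooth localisation -/
theorem exists_conormal_proj {n m : ℕ} (φ : MvPolynomial (Fin n) R →ₐ[R] A)
    (hφ : Function.Surjective φ) (f : Fin m → MvPolynomial (Fin n) R)
    (hker : RingHom.ker φ.toRingHom = Ideal.span (Set.range f)) (a : A)
    [Algebra.FormallySmooth R (Localization.Away a)] :
    ∃ (Cm : (Fin n → Localization.Away a) →ₗ[Localization.Away a] (Fin n → Localization.Away a))
      (Θ : Ω[Localization.Away a⁄R] →ₗ[Localization.Away a] (Fin n → Localization.Away a))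
      (G : (Fin n → Localization.Away a) →ₗ[Localization.Away a] Ω[Localization.Away a⁄R]),
      (∀ v, Cm (Cm v) = Cm v) ∧
      (∀ l, Cm (grad ((IsScalarTower.toAlgHom R A (Localization.Away a)).comp φ) (f l)) =
        grad ((IsScalarTower.toAlgHom R A (Localization.Away a)).comp φ) (f l)) ∧
      (∀ v, Cm v ∈ Submodule.span (Localization.Away a) (Set.range fun l =>
        grad ((IsScalarTower.toAlgHom R A (Localization.Away a)).comp φ) (f l))) ∧
      (∀ ω, G (Θ ω) = ω) ∧ (∀ v, Θ (G v) = v - Cm v) ∧
      (∀ k, G (Pi.single k 1) =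
        KaehlerDifferential.D R (Localization.Away a) (algebraMap A _ (φ (X k)))) := by
  classical
  let S := Localization.Away a
  let χ : MvPolynomial (Fin n) R →ₐ[R] S := (IsScalarTower.toAlgHom R A S).comp φ
  obtain ⟨a', ha⟩ := hφ a
  obtain ⟨e₀, h, hh, hret⟩ := exists_conormal_retraction φ hφ ⟨Finset.univ.image f, by
    rw [Finset.coe_image, Finset.coe_univ, Set.image_univ]
    exact hker.symm⟩ a a' ha
  have hu : IsUnit (algebraMap A S a ^ e₀) := (IsLocalization.Away.algebraMap_isUnit a).pow e₀
  let C : (Fin n → S) →ₗ[S] (Fin n → S) :=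
    (↑hu.unit⁻¹ : S) • Fintype.linearCombination S fun k => grad χ (h k)
  have hχ0 : ∀ x, φ x = 0 → χ x = 0 := fun x hx => by
    show algebraMap A S (φ x) = 0
    rw [hx, map_zero]
  have hC : ∀ x, φ x = 0 → C (grad χ x) = grad χ x := by
    intro x hx
    have h1 := grad_eq_zero_of_mem_sq χ _ (fun y hy => hχ0 y hy) (hret x hx)
    rw [map_sub, map_sum, grad_mul, hχ0 x hx, zero_smul, add_zero, sub_eq_zero] at h1
    have e1 : χ (a' ^ e₀) = algebraMap A S a ^ e₀ := by
      show algebraMap A S (φ (a' ^ e₀)) = _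
      rw [map_pow, ha, map_pow]
    rw [e1] at h1
    show (↑hu.unit⁻¹ : S) • ∑ k, grad χ x k • grad χ (h k) = _
    have h2 : algebraMap A S a ^ e₀ • grad χ x = ∑ k, grad χ x k • grad χ (h k) := by
      rw [h1]
      refine Finset.sum_congr rfl fun k _ => ?_
      rw [grad_mul, hχ0 _ (hh k), zero_smul, add_zero, grad_apply]
    rw [← h2, smul_smul, IsUnit.val_inv_mul, one_smul]
  have hCC : ∀ v, C (C v) = C v := fun v => by
    show C ((↑hu.unit⁻¹ : S) • ∑ k, v k • grad χ (h k)) = _
    rw [map_smul, map_sum]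
    simp only [map_smul, hC _ (hh _)]
    rfl
  obtain ⟨Θ, G, hGΘ, hΘG, -, hG⟩ := kaehler_split (Submonoid.powers a) φ hφ (LinearMap.id - C)
    (fun x hx => by
      show grad χ x - C (grad χ x) = 0
      rw [hC x hx, sub_self])
    (fun v G hG => by
      show G (v - C v) = G v
      rw [map_sub, show G (C v) = 0 from ?_, sub_zero]
      show G ((↑hu.unit⁻¹ : S) • ∑ k, v k • grad χ (h k)) = 0
      rw [map_smul, map_sum]
      simp only [map_smul]
      simp [χ, hG _ (hh _)])
  have hspan : ∀ y, φ y = 0 → grad χ y ∈ Submodule.span S (Set.range fun l => grad χ (f l)) := by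
    intro y hy
    have hy' : y ∈ Ideal.span (Set.range f) := by
      rw [← hker, RingHom.mem_ker]; exact hy
    clear hy
    have key : ∀ y ∈ Ideal.span (Set.range f), χ y = 0 := fun y hy => hχ0 y (by
      rw [← hker] at hy
      exact hy)
    induction hy' using Submodule.span_induction with
    | mem y hy => obtain ⟨l, rfl⟩ := hy; exact Submodule.subset_span ⟨l, rfl⟩
    | zero => simp
    | add y z _ _ hy hz => rw [map_add]; exact add_mem hy hz
    | smul r y hy ih =>
      rw [smul_eq_mul, grad_mul, key y hy, zero_smul, add_zero]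
      exact Submodule.smul_mem _ _ ih
  refine ⟨C, Θ, G, hCC, fun l => hC _ ?_, fun v => ?_, hGΘ, fun v => hΘG v, hG⟩
  · have : f l ∈ RingHom.ker φ.toRingHom := hker ▸ Ideal.subset_span ⟨l, rfl⟩
    exact this
  · show (↑hu.unit⁻¹ : S) • ∑ k, v k • grad χ (h k) ∈ _
    exact Submodule.smul_mem _ _ (Submodule.sum_mem _ fun k _ => Submodule.smul_mem _ _ (hspan _ (hh k)))

lemma sum_sub_smul_eq {T M ι κ : Type*} [CommRing T] [AddCommGroup M] [Module T M] [Fintype ι]
    [Fintype κ] (g : ι → M) (c₀ : ι → T) (w : κ → T) (μ : κ → ι → T) :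
    ∑ l, (c₀ l - ∑ k, w k * μ k l) • g l = ∑ l, c₀ l • g l - ∑ k, w k • ∑ l, μ k l • g l := by
  simp only [sub_smul, Finset.sum_sub_distrib, Finset.sum_smul, mul_smul, Finset.smul_sum]
  rw [Finset.sum_comm]

lemma sum_mul_sum_comm {T ι κ : Type*} [CommRing T] [Fintype ι] [Fintype κ] (a : ι → T)
    (b : ι → κ → T) (t : κ → T) :
    ∑ i, a i * ∑ j, b i j * t j = ∑ j, (∑ i, a i * b i j) * t j := by
  simp only [Finset.mul_sum, Finset.sum_mul, ← mul_assoc]
  rw [Finset.sum_comm]

/-- relations among the gradients of the relations -/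
noncomputable def gradRelIdeal {n m : ℕ} (φ : MvPolynomial (Fin n) R →ₐ[R] A)
    (f : Fin m → MvPolynomial (Fin n) R) : Ideal (MvPolynomial (Fin m) A) :=
  Ideal.span {p | ∃ c : Fin m → A, ∑ l, c l • grad φ (f l) = 0 ∧ p = ∑ l, MvPolynomial.C (c l) * X l}

theorem exists_retract_free_kaehler [Algebra.FinitePresentation R A] :
    ∃ (C : Type u) (_ : CommRing C) (_ : Algebra A C) (_ : Algebra R C) (_ : IsScalarTower R A C),
      Algebra.FiniteType A C ∧ Nonempty (C →ₐ[A] A) ∧
      ∀ a : A, Algebra.Smooth R (Localization.Away a) →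
        Algebra.FormallySmooth R (Localization.Away (algebraMap A C a)) ∧
        Module.Free (Localization.Away (algebraMap A C a)) Ω[Localization.Away (algebraMap A C a)⁄R] := by
  classical
  obtain ⟨n, φ, hφ, ⟨s, hs⟩⟩ := Algebra.FinitePresentation.out (R := R) (A := A)
  let f : Fin s.card → MvPolynomial (Fin n) R := fun i => (s.equivFin.symm i : _)
  have hker : RingHom.ker φ.toRingHom = Ideal.span (Set.range f) := by
    have : Set.range f = (s : Set (MvPolynomial (Fin n) R)) := by
      ext x
      exact ⟨fun ⟨i, hi⟩ => hi ▸ (s.equivFin.symm i).2, fun hx => ⟨s.equivFin ⟨x, hx⟩, by simp [f]⟩⟩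
    rw [this]
    exact hs.symm
  let C := MvPolynomial (Fin s.card) A ⧸ gradRelIdeal φ f
  refine ⟨C, inferInstance, inferInstance, inferInstance, inferInstance, inferInstance,
    ⟨Ideal.Quotient.liftₐ _ (aeval fun _ => (0 : A)) fun x hx => ?_⟩, fun a ha => ?_⟩
  · refine (show gradRelIdeal φ f ≤ RingHom.ker (aeval fun _ => (0 : A) :
      MvPolynomial (Fin s.card) A →ₐ[A] A).toRingHom from Ideal.span_le.2 ?_) hx
    rintro _ ⟨c, -, rfl⟩
    simp
  let S := Localization.Away a
  let Ca := Localization.Away (algebraMap A C a)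
  let ι : A →ₐ[R] Ca := (IsScalarTower.toAlgHom R C Ca).comp (IsScalarTower.toAlgHom R A C)
  have hιu : ∀ y : Submonoid.powers a, IsUnit (ι (y : A)) := by
    rintro ⟨_, j, rfl⟩
    rw [map_pow]
    exact (IsLocalization.Away.algebraMap_isUnit (algebraMap A C a)).pow j
  letI : Algebra S Ca := (IsLocalization.liftAlgHom (M := Submonoid.powers a) hιu).toRingHom.toAlgebra
  haveI : IsScalarTower R S Ca := IsScalarTower.of_algebraMap_eq fun r =>
    ((IsLocalization.liftAlgHom (M := Submonoid.powers a) hιu : S →ₐ[R] Ca).commutes r).symm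
  have hSCa : ∀ x : A, algebraMap S Ca (algebraMap A S x) = ι x := fun x =>
    IsLocalization.lift_eq _ x
  obtain ⟨Cm, Θ, G, hCC, hCf, hCspan, hGΘ, hΘG, hG⟩ := exists_conormal_proj φ hφ f hker a
  let χ : MvPolynomial (Fin n) R →ₐ[R] S := (IsScalarTower.toAlgHom R A S).comp φ
  choose μ hμ using fun k : Fin n =>
    (Submodule.mem_span_range_iff_exists_fun S).1 (hCspan (Pi.single k 1))
  let tb : Fin s.card → Ca := fun l => algebraMap C Ca (Ideal.Quotient.mk _ (X l))
  let τ : Fin n → Ca := fun k => ∑ l, algebraMap S Ca (μ k l) * tb l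
  have hkill : ∀ c : Fin s.card → S, ∑ l, c l • grad χ (f l) = 0 →
      ∑ l, algebraMap S Ca (c l) * tb l = 0 := by
    intro c hc
    obtain ⟨⟨_, t, rfl⟩, hb⟩ :=
      IsLocalization.exist_integer_multiples_of_finite (Submonoid.powers a) c
    choose x hx using hb
    have h0 : ∀ k, algebraMap A S (∑ l, x l * φ (pderiv k (f l))) = 0 := by
      intro k
      have := congrFun hc k
      simp only [Finset.sum_apply, Pi.smul_apply, smul_eq_mul, grad_apply, Pi.zero_apply] at this
      rw [map_sum, ← mul_zero (algebraMap A S (a ^ t)), ← this, Finset.mul_sum]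
      refine Finset.sum_congr rfl fun l _ => ?_
      rw [map_mul, hx l, Algebra.smul_def, mul_assoc]
      rfl
    have h1 := fun k => (IsLocalization.map_eq_zero_iff (Submonoid.powers a) S _).1 (h0 k)
    choose y hy using h1
    let Y : Submonoid.powers a := ∏ k, y k
    have hY : ∑ l, ((Y : A) * x l) • grad φ (f l) = 0 := by
      funext k
      simp only [Finset.sum_apply, Pi.smul_apply, smul_eq_mul, grad_apply, Pi.zero_apply, mul_assoc,
        ← Finset.mul_sum]
      obtain ⟨d, hd⟩ : y k ∣ Y := Finset.dvd_prod_of_mem _ (Finset.mem_univ k)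
      rw [hd, Submonoid.coe_mul, mul_comm ((y k : A)), mul_assoc, hy k, mul_zero]
    have h2 : ∑ l, ι ((Y : A) * x l) * tb l = 0 := by
      have : Ideal.Quotient.mk (gradRelIdeal φ f) (∑ l, MvPolynomial.C ((Y : A) * x l) * X l) = 0 :=
        Ideal.Quotient.eq_zero_iff_mem.2 (Ideal.subset_span ⟨_, hY, rfl⟩)
      have := congrArg (algebraMap C Ca) this
      rw [map_zero, map_sum, map_sum] at this
      refine Eq.trans (Finset.sum_congr rfl fun l _ => ?_) this
      rw [map_mul (Ideal.Quotient.mk (gradRelIdeal φ f)), map_mul (algebraMap C Ca)]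
      rfl
    have hu : IsUnit (ι ((Y : A) * a ^ t)) := by
      rw [map_mul, map_pow]
      exact (hιu Y).mul ((hιu ⟨a, 1, pow_one a⟩).pow t)
    apply hu.mul_left_eq_zero.1
    rw [← h2, Finset.sum_mul]
    refine Finset.sum_congr rfl fun l _ => ?_
    rw [map_mul, map_mul, ← hSCa (x l), hx l, Algebra.smul_def, map_mul, hSCa]
    ring
  have htb : ∀ l, tb l = ∑ k, algebraMap S Ca (χ (pderiv k (f l))) * τ k := by
    intro l
    let c : Fin s.card → S := fun l' =>
      (Pi.single l 1 : Fin s.card → S) l' - ∑ k, χ (pderiv k (f l)) * μ k l'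
    have hc : ∑ l', c l' • grad χ (f l') = 0 := by
      refine (sum_sub_smul_eq (fun l' => grad χ (f l')) _ (fun k => χ (pderiv k (f l))) μ).trans ?_
      have e : (∑ k, χ (pderiv k (f l)) • Pi.single k (1 : S)) = grad χ (f l) :=
        (pi_eq_sum_univ' _).symm
      rw [Finset.sum_congr rfl fun k _ => congrArg (χ (pderiv k (f l)) • ·) (hμ k)]
      simp only [← map_smul, ← map_sum]
      rw [e, show Cm (grad χ (f l)) = grad χ (f l) from hCf l]
      simp [Pi.single_apply]
    have := hkill c hc
    simp only [c, map_sub, sub_mul, Finset.sum_sub_distrib, sub_eq_zero] at this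
    simp only [Pi.single_apply, apply_ite (algebraMap S Ca), map_one, map_zero, ite_mul, one_mul,
      zero_mul, Finset.sum_ite_eq', Finset.mem_univ, if_true] at this
    rw [this]
    simp only [map_sum, map_mul, Finset.sum_mul, τ, Finset.mul_sum]
    rw [Finset.sum_comm]
    exact Finset.sum_congr rfl fun k _ => Finset.sum_congr rfl fun l' _ => by ring
  let π : MvPolynomial (Fin n) S →ₐ[S] Ca := aeval τ
  have hπrel : ∀ k, π (projRel Cm k) = 0 := by
    intro k
    let c : Fin s.card → S := fun l => μ k l - ∑ j, Cm (Pi.single k 1) j * μ j l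
    have hc : ∑ l, c l • grad χ (f l) = 0 := by
      refine (sum_sub_smul_eq (fun l => grad χ (f l)) (μ k) (Cm (Pi.single k 1)) μ).trans ?_
      have e : (∑ j, Cm (Pi.single k 1) j • Pi.single j (1 : S)) = Cm (Pi.single k 1) :=
        (pi_eq_sum_univ' _).symm
      rw [Finset.sum_congr rfl fun j _ => congrArg (Cm (Pi.single k 1) j • ·) (hμ j)]
      simp only [← map_smul, ← map_sum]
      rw [e, hCC, show ∑ l, μ k l • grad χ (f l) = Cm (Pi.single k 1) from hμ k, sub_self]
    have := hkill c hc
    simp only [c, map_sub, sub_mul, Finset.sum_sub_distrib, sub_eq_zero] at this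
    simp only [π, projRel, map_sub, map_sum, map_mul, aeval_X, aeval_C, τ, sub_eq_zero]
    rw [this]
    simp only [map_sum, map_mul, Finset.sum_mul, Finset.mul_sum]
    rw [Finset.sum_comm]
    exact Finset.sum_congr rfl fun j _ => Finset.sum_congr rfl fun l' _ => by ring
  let Q := SymProj Cm
  let ρ₀ : MvPolynomial (Fin s.card) A →ₐ[A] Q :=
    aeval fun l => ∑ j, algebraMap S Q (χ (pderiv j (f l))) * symT Cm j
  have hρ₀ : ∀ z ∈ gradRelIdeal φ f, ρ₀ z = 0 := by
    intro z hz
    refine (show gradRelIdeal φ f ≤ RingHom.ker ρ₀.toRingHom from Ideal.span_le.2 ?_) hz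
    rintro _ ⟨c, hc, rfl⟩
    show ρ₀ _ = 0
    simp only [ρ₀, map_sum, map_mul, aeval_X, aeval_C]
    refine (sum_mul_sum_comm (fun l => algebraMap A Q (c l))
      (fun l j => algebraMap S Q (χ (pderiv j (f l)))) (symT Cm)).trans ?_
    refine Finset.sum_eq_zero fun j _ => ?_
    have h0 : ∑ l, c l * φ (pderiv j (f l)) = 0 := by
      simpa [Finset.sum_apply] using congrFun hc j
    have : ∑ l, algebraMap A Q (c l) * algebraMap S Q (χ (pderiv j (f l))) = 0 := by
      simp only [IsScalarTower.algebraMap_apply A S Q, ← map_mul, ← map_sum]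
      show algebraMap S Q (∑ l, algebraMap A S (c l) * algebraMap A S (φ (pderiv j (f l)))) = 0
      simp only [← map_mul, ← map_sum, h0, map_zero]
    rw [this, zero_mul]
  let ρ₁ : C →ₐ[A] Q := Ideal.Quotient.liftₐ _ ρ₀ hρ₀
  have hρ₁u : ∀ y : Submonoid.powers (algebraMap A C a), IsUnit (ρ₁ (y : C)) := by
    rintro ⟨_, j, rfl⟩
    rw [map_pow, AlgHom.commutes, IsScalarTower.algebraMap_apply A S Q]
    exact ((IsLocalization.Away.algebraMap_isUnit a).map _).pow j
  let ρ : Ca →+* Q := IsLocalization.lift hρ₁u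
  have hρC : ∀ c, ρ (algebraMap C Ca c) = ρ₁ c := fun c => IsLocalization.lift_eq _ c
  have hρS : ρ.comp (algebraMap S Ca) = algebraMap S Q := by
    refine IsLocalization.ringHom_ext (Submonoid.powers a) (RingHom.ext fun x => ?_)
    show ρ (algebraMap S Ca (algebraMap A S x)) = algebraMap S Q (algebraMap A S x)
    rw [hSCa, show ι x = algebraMap C Ca (algebraMap A C x) from rfl, hρC, AlgHom.commutes]
    exact IsScalarTower.algebraMap_apply A S Q x
  have hρtb : ∀ l, ρ (tb l) = ∑ j, algebraMap S Q (χ (pderiv j (f l))) * symT Cm j := fun l => by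
    rw [hρC]
    show ρ₀ (X l) = _
    simp [ρ₀]
  have hρπ : ∀ p, ρ (π p) = Ideal.Quotient.mk _ p := by
    intro p
    induction p using MvPolynomial.induction_on with
    | C c =>
      rw [← MvPolynomial.algebraMap_eq, π.commutes]
      exact RingHom.congr_fun hρS c
    | add p q hp hq => rw [map_add, map_add, hp, hq, map_add]
    | mul_X p k hp =>
      rw [map_mul, map_mul, hp, map_mul]
      congr 1
      show ρ (aeval τ (X k)) = symT Cm k
      rw [aeval_X]
      have e : ∀ j, ∑ l, μ k l * χ (pderiv j (f l)) = Cm (Pi.single k 1) j := fun j => by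
        rw [← hμ k]
        simp [χ]
        rfl
      simp only [τ, map_sum, map_mul, hρtb, show ∀ z, ρ (algebraMap S Ca z) = algebraMap S Q z from
        RingHom.congr_fun hρS, Finset.mul_sum, ← mul_assoc]
      rw [Finset.sum_comm, symT_eq Cm k]
      refine Finset.sum_congr rfl fun j _ => ?_
      rw [← e j, map_sum, Finset.sum_mul]
      simp only [map_mul]
      rfl
  have hkerπ : RingHom.ker π.toRingHom = Ideal.span (Set.range (projRel Cm)) := by
    refine le_antisymm (fun p hp => ?_) (Ideal.span_le.2 ?_)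
    · rw [← Ideal.Quotient.eq_zero_iff_mem, ← hρπ, show π p = 0 from hp, map_zero]
    · rintro _ ⟨k, rfl⟩
      exact hπrel k
  have hπsurj : Function.Surjective π := by
    intro z
    obtain ⟨z, ⟨_, j, rfl⟩, rfl⟩ := IsLocalization.exists_mk'_eq (Submonoid.powers (algebraMap A C a)) z
    have h1 : ∀ z : C, algebraMap C Ca z ∈ π.range := by
      intro z
      obtain ⟨p, rfl⟩ := Ideal.Quotient.mk_surjective z
      induction p using MvPolynomial.induction_on with
      | C x =>
        show ι x ∈ _
        rw [← hSCa]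
        exact Subalgebra.algebraMap_mem _ _
      | add p q hp hq => rw [map_add, map_add]; exact add_mem hp hq
      | mul_X p l hp =>
        rw [map_mul, map_mul]
        refine mul_mem hp ?_
        show tb l ∈ _
        rw [htb l]
        exact sum_mem fun k _ => mul_mem (Subalgebra.algebraMap_mem _ _) ⟨X k, aeval_X _ _⟩
    obtain ⟨p, hp⟩ := h1 z
    obtain ⟨w, hw⟩ := ((IsLocalization.Away.algebraMap_isUnit (S := S) a).pow j).exists_left_inv
    refine ⟨MvPolynomial.C w * p, ?_⟩
    rw [IsLocalization.eq_mk'_iff_mul_eq, map_mul, ← MvPolynomial.algebraMap_eq, π.commutes,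
      show π p = algebraMap C Ca z from hp]
    show algebraMap S Ca w * algebraMap C Ca z * algebraMap C Ca (algebraMap A C a ^ j) = _
    have : algebraMap C Ca (algebraMap A C a ^ j) = algebraMap S Ca (algebraMap A S a ^ j) := by
      rw [map_pow, map_pow, hSCa]
      rfl
    rw [this, mul_right_comm, ← map_mul, hw, map_one, one_mul]
  haveI : Algebra.FormallySmooth R S := ha.formallySmooth
  let eC : Q ≃ₐ[S] Ca :=
    (Ideal.quotientEquivAlgOfEq S hkerπ.symm).trans (Ideal.quotientKerAlgEquivOfSurjective hπsurj)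
  haveI : Algebra.FormallySmooth S Q := formallySmooth_symProj hCC
  haveI : Algebra.FormallySmooth S Ca := Algebra.FormallySmooth.of_equiv eC
  refine ⟨Algebra.FormallySmooth.comp R S Ca, ?_⟩
  obtain ⟨E, -⟩ := exists_kaehler_symProj hCC π hπsurj hkerπ (fun k => algebraMap A S (φ (X k)))
    Θ G hGΘ hΘG hG
  exact Module.Free.of_equiv E.symm

/-- the standard smooth retract -/
theorem exists_smooth_retract_isStandardSmooth [Algebra.Smooth R A] :
    ∃ (B : Type u) (_ : CommRing B) (_ : Algebra R B) (_ : Algebra A B) (_ : IsScalarTower R A B),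
      Algebra.Smooth A B ∧ Nonempty (B →ₐ[A] A) ∧ Algebra.IsStandardSmooth R B := by
  classical
  obtain ⟨n, φ, hφ, ⟨s, hs⟩⟩ := Algebra.FinitePresentation.out (R := R) (A := A)
  let f : Fin s.card → MvPolynomial (Fin n) R := fun i => (s.equivFin.symm i : _)
  have hker : RingHom.ker φ.toRingHom = Ideal.span (Set.range f) := by
    have : Set.range f = (s : Set (MvPolynomial (Fin n) R)) := by
      ext x
      exact ⟨fun ⟨i, hi⟩ => hi ▸ (s.equivFin.symm i).2, fun hx => ⟨s.equivFin ⟨x, hx⟩, by simp [f]⟩⟩
    rw [this]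
    exact hs.symm
  let S := Localization.Away (1 : A)
  haveI : Algebra.FormallySmooth R S :=
    inferInstanceAs (Algebra.FormallySmooth R (Localization (Submonoid.powers (1 : A))))
  let e : A ≃ₐ[A] S :=
    IsLocalization.atUnits A (Submonoid.powers (1 : A)) (by rintro _ ⟨j, rfl⟩; simp)
  obtain ⟨Cm, Θ, G, hCC, -, -, hGΘ, hΘG, hG⟩ := exists_conormal_proj φ hφ f hker (1 : A)
  let Q := SymProj Cm
  let π : MvPolynomial (Fin n) S →ₐ[S] Q := Ideal.Quotient.mkₐ S _
  obtain ⟨E, hE⟩ := exists_kaehler_symProj hCC π Ideal.Quotient.mk_surjective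
    (Ideal.mk_ker) (fun k => algebraMap A S (φ (X k))) Θ G hGΘ hΘG hG
  haveI : Algebra.FormallySmooth S Q := formallySmooth_symProj hCC
  haveI : Algebra.FinitePresentation S Q :=
    Algebra.FinitePresentation.quotient ⟨Finset.univ.image (projRel Cm), by simp⟩
  haveI : Algebra.Smooth S Q := ⟨inferInstance, inferInstance⟩
  haveI : Algebra.Smooth A S := Algebra.Smooth.of_isLocalization_Away (1 : A)
  haveI : Algebra.Smooth A Q := Algebra.Smooth.comp A S Q
  let ret : Q →ₐ[S] S := Ideal.Quotient.liftₐ _ (aeval fun _ => (0 : S)) fun x hx => by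
    refine (show Ideal.span (Set.range (projRel Cm)) ≤ RingHom.ker (aeval fun _ => (0 : S) :
      MvPolynomial (Fin n) S →ₐ[S] S).toRingHom from Ideal.span_le.2 ?_) hx
    rintro _ ⟨k, rfl⟩
    show aeval (fun _ => (0 : S)) (projRel Cm k) = 0
    simp only [projRel, map_sub, map_sum, map_mul, aeval_X, mul_zero, Finset.sum_const_zero, sub_zero]
  have hret : ∀ k, ret (π (X k)) = 0 := fun k => by
    show aeval (fun _ => (0 : S)) (X k) = 0
    simp
  let uk : Fin n → Q := fun k => algebraMap S Q (algebraMap A S (φ (X k))) + π (X k)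
  let bQ : Module.Basis (Fin n) Q Ω[Q⁄R] := (Pi.basisFun Q (Fin n)).map E.symm
  let v : Fin n → Ω[Q⁄R] := fun k => KaehlerDifferential.D R Q (uk k)
  let D := (bQ.toMatrix v).det
  have hD : ret D = 1 := by
    show ret _ = _
    rw [AlgHom.map_det]
    have : ret.mapMatrix (bQ.toMatrix v) = 1 := by
      refine Matrix.ext fun j k => ?_
      show ret (bQ.repr (v k) j) = _
      have : bQ.repr (v k) j = E (v k) j := by simp [bQ]
      rw [this, hE ret hret k j, Matrix.one_apply]
      simp [Pi.single_apply]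
    rw [this, Matrix.det_one]
  let B := Localization.Away D
  haveI : Algebra.Smooth Q B := Algebra.Smooth.of_isLocalization_Away D
  haveI : Algebra.Smooth A B := Algebra.Smooth.comp A Q B
  haveI : Algebra.Smooth R B := Algebra.Smooth.comp R A B
  have hretA : IsUnit (((e.symm.toAlgHom).comp (ret.restrictScalars A)) D) := by
    show IsUnit (e.symm (ret D))
    rw [hD, map_one]
    exact isUnit_one
  refine ⟨B, inferInstance, inferInstance, inferInstance, inferInstance, inferInstance,
    ⟨IsLocalization.liftAlgHom (M := Submonoid.powers D)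
      (f := (e.symm.toAlgHom).comp (ret.restrictScalars A)) (by
        rintro ⟨_, j, rfl⟩
        rw [map_pow]
        exact hretA.pow j)⟩, ?_⟩
  let km := KaehlerDifferential.map R R Q B
  haveI : IsLocalizedModule (Submonoid.powers D) km :=
    KaehlerDifferential.isLocalizedModule_map R Q B (Submonoid.powers D)
  let bB : Module.Basis (Fin n) B Ω[B⁄R] := bQ.ofIsLocalizedModule B (Submonoid.powers D) km
  let vB : Fin n → Ω[B⁄R] := fun k => KaehlerDifferential.D R B (algebraMap Q B (uk k))
  have hmat : bB.toMatrix vB = (bQ.toMatrix v).map (algebraMap Q B) := by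
    refine Matrix.ext fun j k => ?_
    show bB.repr (vB k) j = algebraMap Q B (bQ.repr (v k) j)
    have h1 : vB k = km (v k) := (KaehlerDifferential.map_D R R Q B (uk k)).symm
    have h2 : km (v k) = ∑ i, algebraMap Q B (bQ.repr (v k) i) • bB i := by
      conv_lhs => rw [← bQ.sum_repr (v k), map_sum]
      refine Finset.sum_congr rfl fun i _ => ?_
      rw [map_smul, Module.Basis.ofIsLocalizedModule_apply, algebraMap_smul]
    rw [h1, h2, Module.Basis.repr_sum_self]
  have hunit : IsUnit (bB.det vB) := by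
    rw [Module.Basis.det_apply, hmat, ← RingHom.mapMatrix_apply, ← RingHom.map_det]
    exact IsLocalization.Away.algebraMap_isUnit D
  obtain ⟨hli, hsp⟩ := (Module.Basis.is_basis_iff_det bB).2 hunit
  refine Algebra.IsStandardSmooth.of_basis_kaehlerDifferential (Module.Basis.mk hli hsp.ge) ?_
  rintro _ ⟨k, rfl⟩
  exact ⟨_, (Module.Basis.mk_apply hli hsp.ge k).symm⟩

end Smoothing
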