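import Groth.Prelude.Def_Smoothing
import Groth.Agent.Lib.Hensel.SmoothAlgLift
import Mathlib.RingTheory.Flat.EquationalCriterion
import Mathlib.RingTheory.Flat.Stability
import Mathlib.RingTheory.TensorProduct.Quotient
import Mathlib.RingTheory.Kaehler.Basic
import Mathlib.RingTheory.Smooth.Basic

set_option autoImplicit false
set_option backward.isDefEq.respectTransparency false

/-! Ind-smoothness and nilpotent deformations. -/

open scoped TensorProduct
open MvPolynomial

namespace Smoothing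

universe u

variable {R Λ : Type u} [CommRing R] [CommRing Λ] [Algebra R Λ]

/-- every map from a finitely presented algebra to `Λ/KΛ` factors through a smooth algebra
modulo `K` -/
def LiftsMod (K : Ideal R) (Λ : Type u) [CommRing Λ] [Algebra R Λ] : Prop :=
  ∀ (A : Type u) [CommRing A] [Algebra R A], Algebra.FinitePresentation R A →
    ∀ f : A →ₐ[R] Λ ⧸ K.map (algebraMap R Λ), ∃ (B : Type u) (_ : CommRing B) (_ : Algebra R B),
      Algebra.Smooth R B ∧ ∃ (g : A →ₐ[R] B ⧸ K.map (algebraMap R B))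
        (h : B →ₐ[R] Λ ⧸ K.map (algebraMap R Λ)), ∀ a b, Ideal.Quotient.mk _ b = g a → h b = f a

/-- ind-smoothness of the reduction gives lifting modulo `K` -/
theorem liftsMod_of_indSmooth (K : Ideal R) (R₀ Λ₀ : Type u) [CommRing R₀] [Algebra R R₀]
    (hR₀ : Function.Surjective (algebraMap R R₀)) (hK : RingHom.ker (algebraMap R R₀) = K)
    [CommRing Λ₀] [Algebra R Λ₀] [Algebra R₀ Λ₀] [IsScalarTower R R₀ Λ₀] (π : Λ →ₐ[R] Λ₀)
    (hπ : Function.Surjective π) (hπk : RingHom.ker π.toRingHom = K.map (algebraMap R Λ))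
    (h : IndSmooth R₀ Λ₀) : LiftsMod K Λ := by
  intro A _ _ hA f
  let eΛ : (Λ ⧸ K.map (algebraMap R Λ)) ≃ₐ[R] Λ₀ :=
    (Ideal.quotientEquivAlgOfEq R (show K.map (algebraMap R Λ) = RingHom.ker π from hπk.symm)).trans
      (Ideal.quotientKerAlgEquivOfSurjective hπ)
  haveI := hA
  let f₀ : R₀ ⊗[R] A →ₐ[R₀] Λ₀ :=
    Algebra.TensorProduct.lift (Algebra.ofId R₀ Λ₀) (eΛ.toAlgHom.comp f) fun _ _ => Commute.all _ _
  obtain ⟨B₀, _, _, hB₀, g₀, h₀, hgh⟩ := h (R₀ ⊗[R] A) inferInstance f₀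
  letI : Algebra R B₀ := ((algebraMap R₀ B₀).comp (algebraMap R R₀)).toAlgebra
  haveI : IsScalarTower R R₀ B₀ := IsScalarTower.of_algebraMap_eq fun _ => rfl
  letI : Algebra (R ⧸ K) R₀ :=
    (Ideal.Quotient.lift K (algebraMap R R₀) fun x hx => by rw [← hK] at hx; exact hx).toAlgebra
  letI : Algebra (R ⧸ K) B₀ := ((algebraMap R₀ B₀).comp (algebraMap (R ⧸ K) R₀)).toAlgebra
  haveI : IsScalarTower (R ⧸ K) R₀ B₀ := IsScalarTower.of_algebraMap_eq fun _ => rfl
  haveI : IsScalarTower R (R ⧸ K) B₀ := IsScalarTower.of_algebraMap_eq fun _ => rfl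
  have hbij : Function.Bijective (algebraMap (R ⧸ K) R₀) := by
    constructor
    · rw [injective_iff_map_eq_zero]
      intro x hx
      obtain ⟨x, rfl⟩ := Ideal.Quotient.mk_surjective x
      rw [Ideal.Quotient.eq_zero_iff_mem, ← hK]
      exact hx
    · intro y
      obtain ⟨x, rfl⟩ := hR₀ y
      exact ⟨Ideal.Quotient.mk K x, rfl⟩
  haveI : Algebra.Smooth (R ⧸ K) R₀ :=
    Algebra.Smooth.of_equiv (AlgEquiv.ofBijective (Algebra.ofId (R ⧸ K) R₀) hbij)
  haveI : Algebra.Smooth R₀ B₀ := hB₀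
  haveI : Algebra.Smooth (R ⧸ K) B₀ := Algebra.Smooth.comp (R ⧸ K) R₀ B₀
  obtain ⟨Z, _, _, φZ, hZ, hφZ, hkerZ⟩ := GrothLib.Hensel.exists_smooth_lift K B₀
  let eZ : (Z ⧸ K.map (algebraMap R Z)) ≃ₐ[R] B₀ :=
    (Ideal.quotientEquivAlgOfEq R (show K.map (algebraMap R Z) = RingHom.ker φZ from hkerZ.symm)).trans
      (Ideal.quotientKerAlgEquivOfSurjective hφZ)
  refine ⟨Z, inferInstance, inferInstance, hZ,
    eZ.symm.toAlgHom.comp ((g₀.restrictScalars R).comp Algebra.TensorProduct.includeRight),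
    eΛ.symm.toAlgHom.comp ((h₀.restrictScalars R).comp φZ), fun a b hb => ?_⟩
  have h1 : φZ b = g₀ (1 ⊗ₜ a) := by
    have := congrArg eZ hb
    simp only [AlgHom.comp_apply, AlgEquiv.toAlgHom_eq_coe, AlgEquiv.coe_toAlgHom,
      AlgEquiv.apply_symm_apply] at this
    exact this
  show eΛ.symm (h₀ (φZ b)) = f a
  rw [h1, show h₀ (g₀ (1 ⊗ₜ a)) = f₀ (1 ⊗ₜ a) from AlgHom.congr_fun hgh _]
  simp [f₀]

lemma exists_sum_of_mem_map {S : Type u} [CommRing S] [Algebra R S] (K : Ideal R) {x : S}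
    (hx : x ∈ K.map (algebraMap R S)) :
    ∃ (m : ℕ) (r : Fin m → R) (l : Fin m → S), (∀ j, r j ∈ K) ∧ x = ∑ j, r j • l j := by
  induction hx using Submodule.span_induction with
  | mem x hx =>
    obtain ⟨r, hr, rfl⟩ := hx
    exact ⟨1, fun _ => r, fun _ => 1, fun _ => hr, by simp [Algebra.algebraMap_eq_smul_one]⟩
  | zero => exact ⟨0, Fin.elim0, Fin.elim0, fun j => j.elim0, by simp⟩
  | add x y _ _ hx hy =>
    obtain ⟨m₁, r₁, l₁, h₁, rfl⟩ := hx
    obtain ⟨m₂, r₂, l₂, h₂, rfl⟩ := hy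
    refine ⟨m₁ + m₂, Fin.append r₁ r₂, Fin.append l₁ l₂, fun j => ?_, ?_⟩
    · refine Fin.addCases (fun i => ?_) (fun i => ?_) j <;> simp [h₁, h₂]
    · simp [Fin.sum_univ_add]
  | smul c x _ hx =>
    obtain ⟨m, r, l, h, rfl⟩ := hx
    exact ⟨m, r, fun j => c * l j, h, by simp [Finset.mul_sum, mul_smul_comm]⟩

lemma isNilpotent_map_of_sq {S : Type u} [CommRing S] [Algebra R S] (K : Ideal R) (hK : K ^ 2 = ⊥) :
    IsNilpotent (K.map (algebraMap R S)) :=
  ⟨2, by rw [← Ideal.map_pow, hK, Ideal.map_bot]; rfl⟩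

lemma smul_eq_zero_of_mem_map {S : Type u} [CommRing S] [Algebra R S] (K : Ideal R) (hK : K ^ 2 = ⊥)
    {r : R} (hr : r ∈ K) {x : S} (hx : x ∈ K.map (algebraMap R S)) : r • x = 0 := by
  rw [Algebra.smul_def]
  have : algebraMap R S r * x ∈ (K.map (algebraMap R S)) ^ 2 :=
    pow_two (K.map (algebraMap R S)) ▸ Ideal.mul_mem_mul (Ideal.mem_map_of_mem _ hr) hx
  rw [← Ideal.map_pow, hK, Ideal.map_bot] at this
  simpa using this

theorem lift_once_of_liftsMod (K : Ideal R) (hK : K ^ 2 = ⊥) (hL : LiftsMod K Λ) {A : Type u}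
    [CommRing A] [Algebra R A] [Algebra.FinitePresentation R A] (φ : A →ₐ[R] Λ) :
    ∃ (B : Type u) (_ : CommRing B) (_ : Algebra R B), Algebra.Smooth R B ∧
      ∃ J : Ideal B, J ≤ K.map (algebraMap R B) ∧ J.FG ∧
        ∃ (g : A →ₐ[R] B ⧸ J) (k : (B ⧸ J) →ₐ[R] Λ), k.comp g = φ := by
  classical
  obtain ⟨B, _, _, hB, g, h, hgh⟩ := hL A inferInstance ((Ideal.Quotient.mkₐ R _).comp φ)
  haveI := hB
  obtain ⟨n, φA, hφA, ⟨s, hs⟩⟩ := Algebra.FinitePresentation.out (R := R) (A := A)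
  choose b hb using fun i => Ideal.Quotient.mk_surjective (g (φA (X i)))
  obtain ⟨hl, hhl⟩ := Algebra.FormallySmooth.exists_lift _ (isNilpotent_map_of_sq (S := Λ) K hK) h
  have hmk : ∀ x, Ideal.Quotient.mk _ (hl x) = h x := fun x => AlgHom.congr_fun hhl x
  choose m r l hr hl' using fun i => exists_sum_of_mem_map K
    (x := hl (b i) - φ (φA (X i))) (Ideal.Quotient.eq.1 (by rw [hmk, hgh _ _ (hb i)]; rfl))
  let T := Σ i, Fin (m i)
  let B' := MvPolynomial T B
  let b' : Fin n → B' := fun i => MvPolynomial.C (b i) - ∑ j, r i j • X ⟨i, j⟩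
  let γ : MvPolynomial (Fin n) R →ₐ[R] B' := aeval b'
  let J : Ideal B' := Ideal.span (γ '' s)
  have hmem : ∀ p ∈ (s : Set (MvPolynomial (Fin n) R)), φA p = 0 := fun p hp => by
    have : p ∈ RingHom.ker φA.toRingHom := hs ▸ Ideal.subset_span hp
    exact this
  have hJK : J ≤ K.map (algebraMap R B') := by
    rw [Ideal.span_le]
    rintro _ ⟨p, hp, rfl⟩
    have h1 : ((Ideal.Quotient.mkₐ R (K.map (algebraMap R B'))).comp γ) =
        ((Ideal.Quotient.mkₐ R (K.map (algebraMap R B'))).comp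
          ((IsScalarTower.toAlgHom R B B').comp (aeval b))) := by
      refine MvPolynomial.algHom_ext fun i => ?_
      simp only [AlgHom.comp_apply, γ, aeval_X]
      refine Ideal.Quotient.eq.2 ?_
      have : b' i - algebraMap B B' (b i) = -∑ j, r i j • (X ⟨i, j⟩ : B') :=
        sub_sub_cancel_left (MvPolynomial.C (b i)) _
      show b' i - algebraMap B B' (b i) ∈ _
      rw [this]
      refine neg_mem (Submodule.sum_mem _ fun j _ => ?_)
      rw [Algebra.smul_def]
      exact Ideal.mul_mem_right _ _ (Ideal.mem_map_of_mem _ (hr i j))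
    have h2 : aeval b p ∈ K.map (algebraMap R B) := by
      have : (Ideal.Quotient.mkₐ R (K.map (algebraMap R B))).comp (aeval b) = g.comp φA := by
        refine MvPolynomial.algHom_ext fun i => ?_
        simp [hb]
      refine Ideal.Quotient.eq_zero_iff_mem.1 ((AlgHom.congr_fun this p).trans ?_)
      rw [AlgHom.comp_apply, hmem p hp, map_zero]
    have h3 := Ideal.mem_map_of_mem (algebraMap B B') h2
    rw [Ideal.map_map, ← IsScalarTower.algebraMap_eq] at h3
    exact Ideal.Quotient.eq_zero_iff_mem.1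
      ((AlgHom.congr_fun h1 p).trans (Ideal.Quotient.eq_zero_iff_mem.2 h3))
  let k₀ : B' →ₐ[R] Λ :=
    MvPolynomial.aevalTower hl fun x : T => l x.1 x.2
  have hk₀ : k₀.comp γ = φ.comp φA := by
    refine MvPolynomial.algHom_ext fun i => ?_
    have hC : ∀ x, k₀ (MvPolynomial.C x) = hl x := MvPolynomial.aevalTower_C _ _
    have hX : ∀ t : T, k₀ (X t) = l t.1 t.2 := MvPolynomial.aevalTower_X _ _
    show k₀ (γ (X i)) = _
    simp only [γ, aeval_X, b', map_sub, map_sum, map_smul]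
    rw [hC, Finset.sum_congr rfl fun j _ => congrArg (r i j • ·) (hX ⟨i, j⟩), ← hl' i,
      sub_sub_cancel]
    rfl
  have hJk : J ≤ RingHom.ker k₀.toRingHom := by
    rw [Ideal.span_le]
    rintro _ ⟨p, hp, rfl⟩
    show k₀ (γ p) = 0
    rw [← AlgHom.comp_apply, hk₀, AlgHom.comp_apply, hmem p hp, map_zero]
  have hγJ : RingHom.ker φA.toRingHom ≤ RingHom.ker ((Ideal.Quotient.mkₐ R J).comp γ).toRingHom := by
    rw [← show Ideal.span (s : Set _) = RingHom.ker φA.toRingHom from hs, Ideal.span_le]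
    intro p hp
    exact Ideal.Quotient.eq_zero_iff_mem.2 (Ideal.subset_span ⟨p, hp, rfl⟩)
  haveI : Algebra.Smooth B B' := ⟨inferInstance, inferInstance⟩
  refine ⟨B', inferInstance, inferInstance, Algebra.Smooth.comp R B B', J, hJK,
    ⟨s.image γ, by rw [Finset.coe_image]⟩,
    AlgHom.liftOfSurjective φA hφA _ hγJ, Ideal.Quotient.liftₐ J k₀ hJk, AlgHom.ext fun a => ?_⟩
  obtain ⟨p, rfl⟩ := hφA a
  rw [AlgHom.comp_apply, AlgHom.liftOfSurjective_apply]
  exact AlgHom.congr_fun hk₀ p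

theorem lift_twice_of_liftsMod [Module.Flat R Λ] (K : Ideal R) (hK : K ^ 2 = ⊥) (hL : LiftsMod K Λ)
    {B : Type u} [CommRing B] [Algebra R B] [Algebra.Smooth R B] (φ : B →ₐ[R] Λ) (J : Ideal B)
    (hJ : J ≤ K.map (algebraMap R B)) (hJfg : J.FG) (hφJ : ∀ x ∈ J, φ x = 0) :
    ∃ (B' : Type u) (_ : CommRing B') (_ : Algebra R B'), Algebra.Smooth R B' ∧
      ∃ (α : B →ₐ[R] B') (β : B' →ₐ[R] Λ), (∀ x ∈ J, α x = 0) ∧
        ∀ b : B, β (α b) - φ b ∈ K.map (algebraMap R Λ) := by
  classical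
  obtain ⟨G, hG⟩ := hJfg
  choose m r bb hr hbb using fun x : G => exists_sum_of_mem_map K (hJ (hG ▸ Ideal.subset_span x.2))
  have hrel : ∀ x : G, ∑ j, r x j • φ (bb x j) = 0 := fun x => by
    simp only [← map_smul, ← map_sum, ← hbb x]
    exact hφJ _ (hG ▸ Ideal.subset_span x.2)
  choose k a y hy hay using fun x : G => Module.Flat.isTrivialRelation_of_sum_smul_eq_zero (hrel x)
  let T := Σ i : Fin G.card, Fin (k (G.equivFin.symm i))
  let S := Σ i : Fin G.card, Fin (m (G.equivFin.symm i))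
  let q : S → MvPolynomial T B := fun z =>
    MvPolynomial.C (bb (G.equivFin.symm z.1) z.2) -
      ∑ j, a (G.equivFin.symm z.1) z.2 j • (X ⟨z.1, j⟩ : MvPolynomial T B)
  let I₁ := Ideal.span (Set.range q)
  let ψ : MvPolynomial T B →ₐ[R] Λ :=
    MvPolynomial.aevalTower φ fun t : T => y (G.equivFin.symm t.1) t.2
  have hψ : I₁ ≤ RingHom.ker ψ.toRingHom := by
    rw [Ideal.span_le]
    rintro _ ⟨z, rfl⟩
    show ψ (q z) = 0
    simp only [q, ψ, map_sub, map_sum, map_smul, MvPolynomial.aevalTower_C,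
      MvPolynomial.aevalTower_X, ← hy, sub_self]
  haveI : Algebra.FinitePresentation R (MvPolynomial T B) :=
    Algebra.FinitePresentation.trans R B (MvPolynomial T B)
  haveI : Algebra.FinitePresentation R (MvPolynomial T B ⧸ I₁) :=
    Algebra.FinitePresentation.quotient ⟨Finset.univ.image q, by simp [I₁]⟩
  let f₁ : (MvPolynomial T B ⧸ I₁) →ₐ[R] Λ ⧸ K.map (algebraMap R Λ) :=
    Ideal.Quotient.liftₐ I₁ ((Ideal.Quotient.mkₐ R _).comp ψ) fun x hx => by
      show Ideal.Quotient.mk _ (ψ x) = 0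
      rw [show ψ x = 0 from hψ hx, map_zero]
  obtain ⟨B', _, _, hB', g, h, hgh⟩ := hL _ inferInstance f₁
  haveI := hB'
  let ι : B →ₐ[R] MvPolynomial T B ⧸ I₁ :=
    (Ideal.Quotient.mkₐ R I₁).comp (IsScalarTower.toAlgHom R B (MvPolynomial T B))
  obtain ⟨α, hα⟩ := Algebra.FormallySmooth.exists_lift _ (isNilpotent_map_of_sq (S := B') K hK)
    (g.comp ι)
  obtain ⟨β, hβ⟩ := Algebra.FormallySmooth.exists_lift _ (isNilpotent_map_of_sq (S := Λ) K hK) h
  refine ⟨B', inferInstance, inferInstance, hB', α, β, fun x hx => ?_, fun b => ?_⟩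
  · rw [← hG] at hx
    induction hx using Submodule.span_induction with
    | mem x hx =>
      obtain ⟨i, hi⟩ : ∃ i, G.equivFin.symm i = ⟨x, hx⟩ := ⟨G.equivFin ⟨x, hx⟩, by simp⟩
      have hbi := hbb (G.equivFin.symm i)
      have hx' : x = ((G.equivFin.symm i : G) : B) := by rw [hi]
      rw [hx', hbi, map_sum]
      choose yh hyh using fun j : Fin (k (G.equivFin.symm i)) =>
        Ideal.Quotient.mk_surjective (g (Ideal.Quotient.mk I₁ (X ⟨i, j⟩)))
      have hαb : ∀ j, α (bb (G.equivFin.symm i) j) - ∑ p, a (G.equivFin.symm i) j p • yh p ∈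
          K.map (algebraMap R B') := fun j => by
        refine Ideal.Quotient.eq_zero_iff_mem.1 ?_
        rw [map_sub, map_sum, show Ideal.Quotient.mk _ (α (bb (G.equivFin.symm i) j)) =
          g (ι (bb (G.equivFin.symm i) j)) from AlgHom.congr_fun hα _, sub_eq_zero]
        have h0 : Ideal.Quotient.mk I₁ (q ⟨i, j⟩) = 0 :=
          Ideal.Quotient.eq_zero_iff_mem.2 (Ideal.subset_span ⟨_, rfl⟩)
        simp only [q, map_sub, sub_eq_zero] at h0
        show g (Ideal.Quotient.mk I₁ (algebraMap B _ (bb (G.equivFin.symm i) j))) = _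
        rw [MvPolynomial.algebraMap_eq, h0, map_sum, map_sum]
        refine Finset.sum_congr rfl fun p _ => ?_
        rw [← Ideal.Quotient.mkₐ_eq_mk R, ← Ideal.Quotient.mkₐ_eq_mk R, map_smul, map_smul, map_smul,
          Ideal.Quotient.mkₐ_eq_mk, Ideal.Quotient.mkₐ_eq_mk, hyh p]
      calc ∑ j, α (r (G.equivFin.symm i) j • bb (G.equivFin.symm i) j)
          = ∑ j, r (G.equivFin.symm i) j • ∑ p, a (G.equivFin.symm i) j p • yh p :=
            Finset.sum_congr rfl fun j _ => by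
              rw [map_smul, ← sub_eq_zero, ← smul_sub]
              exact smul_eq_zero_of_mem_map K hK (hr _ j) (hαb j)
        _ = 0 := by
              simp only [Finset.smul_sum, smul_smul]
              rw [Finset.sum_comm]
              simp [← Finset.sum_smul, hay]
    | zero => simp
    | add x y _ _ hx hy => rw [map_add, hx, hy, add_zero]
    | smul c x _ hx => rw [smul_eq_mul, map_mul, hx, mul_zero]
  · refine Ideal.Quotient.eq.1 ?_
    rw [show Ideal.Quotient.mk _ (β (α b)) = h (α b) from AlgHom.congr_fun hβ _,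
      hgh (ι b) (α b) (AlgHom.congr_fun hα b)]
    show Ideal.Quotient.mk _ (ψ (algebraMap B _ b)) = _
    simp [ψ, MvPolynomial.algebraMap_eq]

/-- perturbation by a derivation into a square-zero ideal -/
theorem exists_perturb (K : Ideal R) (hK : K ^ 2 = ⊥) {B B' : Type u} [CommRing B] [Algebra R B]
    [Algebra.Smooth R B] [CommRing B'] [Algebra R B'] [Algebra.Smooth R B'] (φ : B →ₐ[R] Λ)
    (J : Ideal B) (hJ : J ≤ K.map (algebraMap R B)) (α : B →ₐ[R] B') (β : B' →ₐ[R] Λ)
    (hαJ : ∀ x ∈ J, α x = 0) (hβα : ∀ b, β (α b) - φ b ∈ K.map (algebraMap R Λ)) :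
    ∃ (B'' : Type u) (_ : CommRing B'') (_ : Algebra R B''), Algebra.Smooth R B'' ∧
      ∃ (α' : B →ₐ[R] B'') (β' : B'' →ₐ[R] Λ), (∀ x ∈ J, α' x = 0) ∧ β'.comp α' = φ := by
  classical
  letI : Algebra B Λ := (β.comp α).toRingHom.toAlgebra
  haveI : IsScalarTower R B Λ :=
    IsScalarTower.of_algebraMap_eq fun r => ((β.comp α).commutes r).symm
  have halg : ∀ (b : B) (x : Λ), b • x = β (α b) * x := fun b x => Algebra.smul_def b x
  have hzero : ∀ x y : Λ, x ∈ K.map (algebraMap R Λ) → y ∈ K.map (algebraMap R Λ) → x * y = 0 :=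
    fun x y hx hy => by
      have h1 : x * y ∈ K.map (algebraMap R Λ) ^ 2 :=
        pow_two (K.map (algebraMap R Λ)) ▸ Ideal.mul_mem_mul hx hy
      rw [← Ideal.map_pow, hK, Ideal.map_bot] at h1
      simpa using h1
  let δ : Derivation R B Λ :=
    { toFun := fun b => φ b - β (α b)
      map_add' := fun x y => by simp only [map_add]; ring
      map_smul' := fun c x => by simp [smul_sub]
      map_one_eq_zero' := by simp
      leibniz' := fun x y => by
        show φ (x * y) - β (α (x * y)) = x • (φ y - β (α y)) + y • (φ x - β (α x))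
        have := hzero _ _ (hβα x) (hβα y)
        rw [halg, halg]
        simp only [map_mul] at this ⊢
        linear_combination this }
  let L := δ.liftKaehlerDifferential
  obtain ⟨n, G, hG⟩ := Module.Finite.exists_fin' B Ω[B⁄R]
  obtain ⟨Θ, hΘ⟩ := Module.projective_lifting_property G LinearMap.id hG
  have hδK : ∀ ω, L ω ∈ K.map (algebraMap R Λ) := by
    intro ω
    have hω : ω ∈ Submodule.span B (Set.range (KaehlerDifferential.D R B)) := by
      rw [KaehlerDifferential.span_range_derivation]; trivial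
    induction hω using Submodule.span_induction with
    | mem x hx =>
      obtain ⟨b, rfl⟩ := hx
      rw [show L (KaehlerDifferential.D R B b) = δ b from δ.liftKaehlerDifferential_comp_D b]
      show φ b - β (α b) ∈ _
      rw [← neg_sub]
      exact neg_mem (hβα b)
    | zero => simp
    | add x y _ _ hx hy => rw [map_add]; exact add_mem hx hy
    | smul c x _ hx => rw [map_smul, halg]; exact Ideal.mul_mem_left _ _ hx
  choose m r l hr hl using fun i => exists_sum_of_mem_map K (hδK (G (Pi.single i 1)))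
  let T := Σ i, Fin (m i)
  let B'' := MvPolynomial T B'
  haveI : Algebra.Smooth B' B'' := ⟨inferInstance, inferInstance⟩
  let αC : B →ₐ[R] B'' := (IsScalarTower.toAlgHom R B' B'').comp α
  let D : B → B'' := fun b =>
    ∑ i, αC (Θ (KaehlerDifferential.D R B b) i) * ∑ j, r i j • (X ⟨i, j⟩ : B'')
  have hDK : ∀ b, D b ∈ K.map (algebraMap R B'') := fun b =>
    Submodule.sum_mem _ fun i _ => Ideal.mul_mem_left _ _ (Submodule.sum_mem _ fun j _ => by
      rw [Algebra.smul_def]
      exact Ideal.mul_mem_right _ _ (Ideal.mem_map_of_mem _ (hr i j)))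
  have hzero' : ∀ x y : B'', x ∈ K.map (algebraMap R B'') → y ∈ K.map (algebraMap R B'') → x * y = 0 :=
    fun x y hx hy => by
      have h1 : x * y ∈ K.map (algebraMap R B'') ^ 2 :=
        pow_two (K.map (algebraMap R B'')) ▸ Ideal.mul_mem_mul hx hy
      rw [← Ideal.map_pow, hK, Ideal.map_bot] at h1
      simpa using h1
  have hDadd : ∀ x y, D (x + y) = D x + D y := fun x y => by
    simp [D, add_mul, Finset.sum_add_distrib]
  have hDmul : ∀ x y, D (x * y) = αC x * D y + αC y * D x := fun x y => by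
    simp only [D, Derivation.leibniz, map_add, map_smul, Pi.add_apply, Pi.smul_apply, smul_eq_mul,
      map_mul, add_mul, Finset.sum_add_distrib, mul_assoc]
    rw [Finset.mul_sum, Finset.mul_sum]
  have hDalg : ∀ c : R, D (algebraMap R B c) = 0 := fun c => by simp [D]
  let α' : B →ₐ[R] B'' :=
    { toFun := fun b => αC b + D b
      map_one' := by
        rw [← map_one (algebraMap R B), hDalg, AlgHom.commutes, map_one, add_zero]
      map_mul' := fun x y => by
        rw [map_mul, hDmul]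
        linear_combination -(hzero' _ _ (hDK x) (hDK y))
      map_zero' := by
        rw [← map_zero (algebraMap R B), hDalg, AlgHom.commutes, map_zero, add_zero]
      map_add' := fun x y => by rw [map_add, hDadd]; ring
      commutes' := fun c => by
        show αC (algebraMap R B c) + D (algebraMap R B c) = _
        rw [hDalg, add_zero, AlgHom.commutes] }
  let β' : B'' →ₐ[R] Λ := MvPolynomial.aevalTower β fun x : T => l x.1 x.2
  refine ⟨B'', inferInstance, inferInstance, Algebra.Smooth.comp R B' B'', α', β',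
    fun x hx => ?_, AlgHom.ext fun b => ?_⟩
  · obtain ⟨p, rr, bb, hrr, rfl⟩ := exists_sum_of_mem_map K (hJ hx)
    show αC _ + D _ = 0
    have hD0 : D (∑ j, rr j • bb j) = 0 := by
      have hsmul : ∀ (c : R) b, D (c • b) = c • D b := fun c b => by
        rw [Algebra.smul_def, hDmul, hDalg, mul_zero, add_zero, AlgHom.commutes, ← Algebra.smul_def]
      have hsum : D (∑ j, rr j • bb j) = ∑ j, rr j • D (bb j) := by
        rw [show D (∑ j, rr j • bb j) = (AddMonoidHom.mk' D hDadd) (∑ j, rr j • bb j) from rfl,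
          map_sum]
        simp [hsmul]
      rw [hsum]
      exact Finset.sum_eq_zero fun j _ => smul_eq_zero_of_mem_map K hK (hrr j) (hDK _)
    rw [hD0, add_zero, show αC (∑ j, rr j • bb j) = algebraMap B' B'' (α (∑ j, rr j • bb j)) from rfl,
      hαJ _ hx, map_zero]
  · show β' (αC b + D b) = φ b
    have hα'' : ∀ c, β' (αC c) = β (α c) := fun c => MvPolynomial.aevalTower_C _ _ (α c)
    have hX : ∀ t : T, β' (X t) = l t.1 t.2 := MvPolynomial.aevalTower_X _ _
    have e1 : β' (αC b) = β (α b) := hα'' b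
    have e2 : β' (D b) = L (KaehlerDifferential.D R B b) := by
      have hω : KaehlerDifferential.D R B b =
          ∑ i, Θ (KaehlerDifferential.D R B b) i • G (Pi.single i 1) := by
        conv_lhs => rw [← LinearMap.id_apply (R := B) (KaehlerDifferential.D R B b), ← hΘ,
          LinearMap.comp_apply, pi_eq_sum_univ' (Θ (KaehlerDifferential.D R B b)), map_sum]
        simp only [map_smul]
      conv_rhs => rw [hω, map_sum]
      simp only [D, map_sum, map_mul, map_smul, hα'', hl, halg]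
      exact Finset.sum_congr rfl fun i _ => congrArg _
        (Finset.sum_congr rfl fun j _ => congrArg (r i j • ·) (hX ⟨i, j⟩))
    rw [map_add, e1, e2, show L (KaehlerDifferential.D R B b) = δ b from
      δ.liftKaehlerDifferential_comp_D b]
    show β (α b) + (φ b - β (α b)) = φ b
    ring

/-- one square-zero step -/
theorem indSmooth_of_liftsMod [Module.Flat R Λ] (K : Ideal R) (hK : K ^ 2 = ⊥) (hL : LiftsMod K Λ) :
    IndSmooth R Λ := by
  intro A _ _ hA f
  haveI := hA
  obtain ⟨B, _, _, hB, J, hJ, hJfg, g, k, hkg⟩ := lift_once_of_liftsMod K hK hL f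
  haveI := hB
  let φB : B →ₐ[R] Λ := k.comp (Ideal.Quotient.mkₐ R J)
  have hφJ : ∀ x ∈ J, φB x = 0 := fun x hx => by
    show k (Ideal.Quotient.mk J x) = 0
    rw [Ideal.Quotient.eq_zero_iff_mem.2 hx, map_zero]
  obtain ⟨B', _, _, hB', α, β, hαJ, hβα⟩ := lift_twice_of_liftsMod K hK hL φB J hJ hJfg hφJ
  haveI := hB'
  obtain ⟨B'', _, _, hB'', α', β', hα'J, hβ'⟩ := exists_perturb K hK φB J hJ α β hαJ hβα
  refine ⟨B'', inferInstance, inferInstance, hB'', (Ideal.Quotient.liftₐ J α' hα'J).comp g, β',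
    AlgHom.ext fun a => ?_⟩
  obtain ⟨b, hb⟩ := Ideal.Quotient.mk_surjective (g a)
  show β' (Ideal.Quotient.liftₐ J α' hα'J (g a)) = f a
  rw [← hb]
  show (β'.comp α') b = f a
  rw [hβ', ← AlgHom.congr_fun hkg a]
  show k (Ideal.Quotient.mk J b) = k (g a)
  rw [hb]

theorem flat_quotient_map [Module.Flat R Λ] (K : Ideal R) :
    Module.Flat (R ⧸ K) (Λ ⧸ K.map (algebraMap R Λ)) := by
  let e : ((R ⧸ K) ⊗[R] Λ) ≃ₗ[R] Λ ⧸ K.map (algebraMap R Λ) :=
    ((TensorProduct.comm R (R ⧸ K) Λ).trans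
      (((Algebra.TensorProduct.quotIdealMapEquivTensorQuot Λ K).symm.restrictScalars R).toLinearEquiv))
  let e' : ((R ⧸ K) ⊗[R] Λ) ≃ₗ[R ⧸ K] Λ ⧸ K.map (algebraMap R Λ) :=
    LinearEquiv.extendScalarsOfSurjective Ideal.Quotient.mk_surjective e
  exact Module.Flat.of_linearEquiv e'.symm

theorem indSmooth_of_nilpotent_aux (N : ℕ) : ∀ (R Λ R₀ Λ₀ : Type u) [CommRing R] [CommRing Λ]
    [Algebra R Λ] [Module.Flat R Λ] [CommRing R₀] [Algebra R R₀] [CommRing Λ₀] [Algebra R Λ₀]
    [Algebra R₀ Λ₀] [IsScalarTower R R₀ Λ₀] (I : Ideal R) (π : Λ →ₐ[R] Λ₀),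
    Function.Surjective (algebraMap R R₀) → RingHom.ker (algebraMap R R₀) = I →
    Function.Surjective π → RingHom.ker π.toRingHom = I.map (algebraMap R Λ) →
    I ^ (2 ^ N) = ⊥ → IndSmooth R₀ Λ₀ → IndSmooth R Λ := by
  induction N with
  | zero =>
    intro R Λ R₀ Λ₀ _ _ _ _ _ _ _ _ _ _ I π hR₀ hI hπ hπk hN h
    refine indSmooth_of_liftsMod I ?_ (liftsMod_of_indSmooth I R₀ Λ₀ hR₀ hI π hπ hπk h)
    rw [pow_zero, pow_one] at hN
    rw [hN]
    exact bot_le.antisymm' (Ideal.pow_le_self two_ne_zero)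
  | succ N ih =>
    intro R Λ R₀ Λ₀ _ _ _ _ _ _ _ _ _ _ I π hR₀ hI hπ hπk hN h
    let K := I ^ (2 ^ N)
    have hK2 : K ^ 2 = ⊥ := by rw [← pow_mul, ← pow_succ, hN]
    have hKI : K ≤ I := Ideal.pow_le_self (pow_pos two_pos N).ne'
    have hKalg : ∀ x ∈ K, algebraMap R R₀ x = 0 := fun x hx => by
      have := hKI hx
      rw [← hI] at this
      exact this
    have hKΛ : ∀ x ∈ K.map (algebraMap R Λ), π x = 0 := fun x hx => by
      have := Ideal.map_mono hKI hx
      rw [← hπk] at this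
      exact this
    letI : Algebra (R ⧸ K) R₀ := (Ideal.Quotient.lift K (algebraMap R R₀) hKalg).toAlgebra
    letI : Algebra (R ⧸ K) Λ₀ :=
      ((algebraMap R₀ Λ₀).comp (algebraMap (R ⧸ K) R₀)).toAlgebra
    haveI : IsScalarTower (R ⧸ K) R₀ Λ₀ := IsScalarTower.of_algebraMap_eq fun _ => rfl
    haveI : IsScalarTower R (R ⧸ K) Λ₀ :=
      IsScalarTower.of_algebraMap_eq fun x => IsScalarTower.algebraMap_apply R R₀ Λ₀ x
    let π₁ : (Λ ⧸ K.map (algebraMap R Λ)) →ₐ[R ⧸ K] Λ₀ :=
      AlgHom.extendScalarsOfSurjective Ideal.Quotient.mk_surjective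
        (Ideal.Quotient.liftₐ (K.map (algebraMap R Λ)) π hKΛ)
    haveI := flat_quotient_map (Λ := Λ) K
    have hIS : IndSmooth (R ⧸ K) (Λ ⧸ K.map (algebraMap R Λ)) := by
      refine ih (R ⧸ K) (Λ ⧸ K.map (algebraMap R Λ)) R₀ Λ₀ (I.map (Ideal.Quotient.mk K)) π₁
        (fun y => ?_) ?_ (fun y => ?_) ?_ ?_ h
      · obtain ⟨x, rfl⟩ := hR₀ y
        exact ⟨Ideal.Quotient.mk K x, rfl⟩
      · refine le_antisymm (fun z hz => ?_) (Ideal.map_le_iff_le_comap.2 fun x hx => ?_)
        · obtain ⟨x, rfl⟩ := Ideal.Quotient.mk_surjective z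
          refine Ideal.mem_map_of_mem _ ?_
          rw [← hI]
          exact hz
        · show algebraMap R R₀ x = 0
          rw [← hI] at hx
          exact hx
      · obtain ⟨x, rfl⟩ := hπ y
        exact ⟨Ideal.Quotient.mk _ x, rfl⟩
      · have hmap : (I.map (Ideal.Quotient.mk K)).map
            (algebraMap (R ⧸ K) (Λ ⧸ K.map (algebraMap R Λ))) =
            (I.map (algebraMap R Λ)).map (Ideal.Quotient.mk (K.map (algebraMap R Λ))) := by
          rw [Ideal.map_map, Ideal.map_map]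
          rfl
        refine le_antisymm (fun z hz => ?_) (hmap.le.trans (Ideal.map_le_iff_le_comap.2 fun x hx => ?_))
        · obtain ⟨x, rfl⟩ := Ideal.Quotient.mk_surjective z
          refine hmap.ge (Ideal.mem_map_of_mem _ ?_)
          rw [← hπk]
          exact hz
        · show π x = 0
          rw [← hπk] at hx
          exact hx
      · rw [← Ideal.map_pow]
        exact Ideal.map_quotient_self K
    exact indSmooth_of_liftsMod K hK2 (liftsMod_of_indSmooth K (R ⧸ K) (Λ ⧸ K.map (algebraMap R Λ))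
      Ideal.Quotient.mk_surjective Ideal.mk_ker (Ideal.Quotient.mkₐ R _)
      Ideal.Quotient.mk_surjective Ideal.mk_ker hIS)

theorem indSmooth_of_nilpotent_flat_deformation (I : Ideal R) (hI : IsNilpotent I) [Module.Flat R Λ]
    (h : IndSmooth (R ⧸ I) (Λ ⧸ I.map (algebraMap R Λ))) : IndSmooth R Λ := by
  obtain ⟨n, hn⟩ := hI
  refine indSmooth_of_nilpotent_aux n R Λ (R ⧸ I) (Λ ⧸ I.map (algebraMap R Λ)) I
    (Ideal.Quotient.mkₐ R _) Ideal.Quotient.mk_surjective Ideal.mk_ker
    Ideal.Quotient.mk_surjective Ideal.mk_ker ?_ h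
  refine le_bot_iff.1 ((Ideal.pow_le_pow_right (Nat.lt_two_pow_self).le).trans ?_)
  rw [hn]
  rfl

end Smoothing
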