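import Groth.Agent.Lib.Smoothing.Standard
import Groth.Agent.Lib.Smoothing.Retract
import Mathlib.RingTheory.MvPolynomial.Localization
import Mathlib.RingTheory.Localization.BaseChange
import Mathlib.RingTheory.Localization.Integer

set_option autoImplicit false
set_option backward.isDefEq.respectTransparency false

open scoped TensorProduct
open MvPolynomial

namespace Smoothing

universe u

variable {R Rₛ : Type u} [CommRing R] (S : Submonoid R) [CommRing Rₛ] [Algebra R Rₛ]
  [IsLocalization S Rₛ]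

attribute [local instance] MvPolynomial.algebraMvPolynomial in
lemma exists_C_mul_mem {N : ℕ} (J : Ideal (MvPolynomial (Fin N) R)) (p : MvPolynomial (Fin N) R)
    (hp : MvPolynomial.map (algebraMap R Rₛ) p ∈ J.map (MvPolynomial.map (algebraMap R Rₛ))) :
    ∃ s ∈ S, MvPolynomial.C s * p ∈ J := by
  have h : algebraMap (MvPolynomial (Fin N) R) (MvPolynomial (Fin N) Rₛ) p ∈
      J.map (algebraMap (MvPolynomial (Fin N) R) (MvPolynomial (Fin N) Rₛ)) := hp
  rw [IsLocalization.algebraMap_mem_map_algebraMap_iff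
    (S.map (MvPolynomial.C : R →+* MvPolynomial (Fin N) R))] at h
  obtain ⟨_, ⟨s, hs, rfl⟩, hm⟩ := h
  exact ⟨s, hs, hm⟩

attribute [local instance] MvPolynomial.algebraMvPolynomial in
lemma exists_integer_poly {N : ℕ} {ι : Type*} [Finite ι] (p : ι → MvPolynomial (Fin N) Rₛ) :
    ∃ s ∈ S, ∀ i, ∃ q : MvPolynomial (Fin N) R,
      MvPolynomial.map (algebraMap R Rₛ) q = MvPolynomial.C (algebraMap R Rₛ s) * p i := by
  obtain ⟨⟨_, s, hs, rfl⟩, hb⟩ := IsLocalization.exist_integer_multiples_of_finite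
    (S.map (MvPolynomial.C : R →+* MvPolynomial (Fin N) R)) p
  refine ⟨s, hs, fun i => ?_⟩
  obtain ⟨q, hq⟩ := hb i
  refine ⟨q, ?_⟩
  rw [Algebra.smul_def] at hq
  refine hq.trans ?_
  congr 1
  exact MvPolynomial.map_C _ s

variable {A Λ B' : Type u} [CommRing A] [Algebra R A] [CommRing Λ] [Algebra R Λ]
  [CommRing B'] [Algebra Rₛ B']

lemma exists_tmul_one_eq {ι : Type*} [Finite ι] (z : ι → Rₛ ⊗[R] Λ) :
    ∃ s ∈ S, ∀ i, ∃ l : Λ, algebraMap R Rₛ s • z i = 1 ⊗ₜ l := by
  classical
  haveI : Fintype ι := Fintype.ofFinite ι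
  have h : ∀ i, ∃ (s : S) (l : Λ), algebraMap R Rₛ (s : R) • z i = 1 ⊗ₜ l := fun i => by
    obtain ⟨⟨l, s⟩, hls⟩ := IsLocalizedModule.surj S (TensorProduct.mk R Rₛ Λ 1) (z i)
    refine ⟨s, l, ?_⟩
    rw [algebraMap_smul]
    exact hls
  choose s l hl using h
  refine ⟨(∏ i, s i : S), (∏ i, s i).2, fun i => ?_⟩
  obtain ⟨d, hd⟩ : s i ∣ ∏ i, s i := Finset.dvd_prod_of_mem _ (Finset.mem_univ i)
  refine ⟨(d : R) • l i, ?_⟩
  rw [hd, Submonoid.coe_mul, mul_comm, map_mul, mul_smul, hl, algebraMap_smul, TensorProduct.tmul_smul]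

theorem delocalize_core {n m q c : ℕ} (cols : Fin c ↪ Fin n)
    (π : MvPolynomial (Fin n) Rₛ →ₐ[Rₛ] B') (hπ : Function.Surjective π)
    (F : Fin c → MvPolynomial (Fin n) R)
    (hker : RingHom.ker π.toRingHom =
      Ideal.span (Set.range fun k => MvPolynomial.map (algebraMap R Rₛ) (F k)))
    (hdet : IsUnit (Matrix.of fun i k =>
      π (MvPolynomial.map (algebraMap R Rₛ) (pderiv (cols k) (F i)))).det)
    (lam : Fin n → Λ) (hF : ∀ k, aeval lam (F k) = 0)
    (φA : MvPolynomial (Fin m) R →ₐ[R] A) (hφA : Function.Surjective φA)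
    (rA : Fin q → MvPolynomial (Fin m) R)
    (hkerA : RingHom.ker φA.toRingHom = Ideal.span (Set.range rA))
    (φ : A →ₐ[R] Λ) (g : Rₛ ⊗[R] A →ₐ[Rₛ] B') (h : B' →ₐ[Rₛ] Rₛ ⊗[R] Λ)
    (hh : ∀ i, h (π (X i)) = 1 ⊗ₜ lam i)
    (hgh : h.comp g = Algebra.TensorProduct.map (AlgHom.id Rₛ Rₛ) φ) :
    ∃ (B : Type u) (_ : CommRing B) (_ : Algebra R B) (α : A →ₐ[R] B) (β : B →ₐ[R] Λ),
      β.comp α = φ ∧ ∃ s ∈ S, IsElementaryStandard R B (algebraMap R B s) := by
  classical
  letI : Algebra R B' := ((algebraMap Rₛ B').comp (algebraMap R Rₛ)).toAlgebra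
  haveI : IsScalarTower R Rₛ B' := IsScalarTower.of_algebraMap_eq fun _ => rfl
  let mp : ∀ N : ℕ, MvPolynomial (Fin N) R →+* MvPolynomial (Fin N) Rₛ :=
    fun _ => MvPolynomial.map (algebraMap R Rₛ)
  -- clear the denominators of the images of the generators of `A`
  choose P hP using fun j => hπ (g (1 ⊗ₜ φA (X j)))
  obtain ⟨s₁, hs₁, hH⟩ := exists_integer_poly S P
  choose H hH using hH
  have hs₂ : ∀ j, ∃ s₂ : S, (s₂ : R) • (s₁ • φ (φA (X j)) - aeval lam (H j)) = 0 := by
    intro j
    have h1 : h (π (mp n (H j))) = 1 ⊗ₜ aeval lam (H j) := by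
      have : ((h.comp π).restrictScalars R).comp
          (MvPolynomial.mapAlgHom (Algebra.ofId R Rₛ)) =
          (Algebra.TensorProduct.includeRight : Λ →ₐ[R] Rₛ ⊗[R] Λ).comp (aeval lam) := by
        refine MvPolynomial.algHom_ext fun i => ?_
        simp [hh]
      exact AlgHom.congr_fun this (H j)
    have h2 : (1 : Rₛ) ⊗ₜ[R] (s₁ • φ (φA (X j)) - aeval lam (H j)) = 0 := by
      rw [TensorProduct.tmul_sub, ← h1, show mp n (H j) = _ from hH j, map_mul, ← MvPolynomial.algebraMap_eq,
        π.commutes, map_mul, h.commutes, hP, ← AlgHom.comp_apply h g, hgh,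
        Algebra.TensorProduct.map_tmul, AlgHom.id_apply, TensorProduct.tmul_smul, ← algebraMap_smul Rₛ s₁,
        Algebra.smul_def, sub_self]
    exact (IsLocalizedModule.eq_zero_iff S (TensorProduct.mk R Rₛ Λ 1)).1 h2
  choose s₂ hs₂ using hs₂
  let T : R := (∏ j, s₂ j : S)
  have hT : T ∈ S := (∏ j, s₂ j).2
  have hTE : ∀ j, T • (s₁ • φ (φA (X j)) - aeval lam (H j)) = 0 := fun j => by
    obtain ⟨d, hd⟩ : s₂ j ∣ ∏ j, s₂ j := Finset.dvd_prod_of_mem _ (Finset.mem_univ j)
    show ((∏ j, s₂ j : S) : R) • _ = 0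
    rw [hd, Submonoid.coe_mul, mul_comm, mul_smul, hs₂ j, smul_zero]
  -- the algebra
  let lead : Fin (c + m) → MvPolynomial (Fin (n + m)) R :=
    Fin.append (fun k => rename (Fin.castAdd m) (F k))
      (fun j => MvPolynomial.C (T * s₁) * X (Fin.natAdd n j) -
        MvPolynomial.C T * rename (Fin.castAdd m) (H j))
  let rel : Fin ((c + m) + q) → MvPolynomial (Fin (n + m)) R :=
    Fin.append lead fun l => rename (Fin.natAdd n) (rA l)
  let I := Ideal.span (Set.range rel)
  let J := Ideal.span (Set.range lead)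
  let B := MvPolynomial (Fin (n + m)) R ⧸ I
  let mkB : MvPolynomial (Fin (n + m)) R →ₐ[R] B := Ideal.Quotient.mkₐ R I
  -- the maps
  let β₀ : MvPolynomial (Fin (n + m)) R →ₐ[R] Λ := aeval (Fin.append lam fun j => φ (φA (X j)))
  have hβl : ∀ p, β₀ (rename (Fin.castAdd m) p) = aeval lam p := fun p => by
    simp only [β₀, aeval_rename]
    congr 1
    exact congrArg aeval (funext fun i => Fin.append_left _ _ i)
  have hβr : ∀ p, β₀ (rename (Fin.natAdd n) p) = φ (φA p) := fun p => by
    have : β₀.comp (rename (Fin.natAdd n)) = φ.comp φA := by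
      refine MvPolynomial.algHom_ext fun i => ?_
      simp [β₀]
    exact AlgHom.congr_fun this p
  have hrA : ∀ l, φA (rA l) = 0 := fun l => by
    have : rA l ∈ RingHom.ker φA.toRingHom := hkerA ▸ Ideal.subset_span ⟨l, rfl⟩
    exact this
  have hβI : I ≤ RingHom.ker β₀.toRingHom := by
    rw [Ideal.span_le]
    rintro _ ⟨i, rfl⟩
    show β₀ (rel i) = 0
    refine Fin.addCases (fun i => ?_) (fun l => ?_) i
    · simp only [rel, Fin.append_left]
      refine Fin.addCases (fun k => ?_) (fun j => ?_) i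
      · simp only [lead, Fin.append_left, hβl, hF]
      · simp only [lead, Fin.append_right, map_sub, map_mul, hβl]
        rw [show β₀ (X (Fin.natAdd n j)) = φ (φA (X j)) by simp [β₀],
          ← MvPolynomial.algebraMap_eq, β₀.commutes, β₀.commutes]
        have h := hTE j
        simp only [Algebra.smul_def] at h
        linear_combination h
    · simp only [rel, Fin.append_right, hβr, hrA, map_zero]
  let β : B →ₐ[R] Λ := Ideal.Quotient.liftₐ I β₀ hβI
  have hαI : RingHom.ker φA.toRingHom ≤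
      RingHom.ker (mkB.comp (rename (Fin.natAdd n))).toRingHom := by
    rw [hkerA, Ideal.span_le]
    rintro _ ⟨l, rfl⟩
    exact Ideal.Quotient.eq_zero_iff_mem.2 (Ideal.subset_span ⟨Fin.natAdd _ l, by simp [rel]⟩)
  let α : A →ₐ[R] B := AlgHom.liftOfSurjective φA hφA (mkB.comp (rename (Fin.natAdd n))) hαI
  have hα : ∀ p, α (φA p) = mkB (rename (Fin.natAdd n) p) := fun p =>
    AlgHom.liftOfSurjective_apply φA hφA _ hαI p
  refine ⟨B, inferInstance, inferInstance, α, β, AlgHom.ext fun a => ?_, ?_⟩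
  · obtain ⟨p, rfl⟩ := hφA a
    rw [AlgHom.comp_apply, hα]
    exact hβr p
  -- the map to `B'`
  let θ : MvPolynomial (Fin (n + m)) Rₛ →ₐ[Rₛ] MvPolynomial (Fin n) Rₛ := aeval (Fin.append X P)
  let π₂ := π.comp θ
  have hu : IsUnit (algebraMap R Rₛ (T * s₁)) :=
    IsLocalization.map_units Rₛ (⟨T * s₁, S.mul_mem hT hs₁⟩ : S)
  have hθl : ∀ p, θ (rename (Fin.castAdd m) p) = p := fun p => by
    simp only [θ, aeval_rename]
    rw [show (Fin.append X P) ∘ Fin.castAdd m = X from funext fun i => Fin.append_left _ _ i,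
      aeval_X_left, AlgHom.id_apply]
  have hlead_eq : ∀ j, mp _ (lead (Fin.natAdd c j)) = MvPolynomial.C (algebraMap R Rₛ (T * s₁)) *
      (X (Fin.natAdd n j) - rename (Fin.castAdd m) (P j)) := fun j => by
    simp only [lead, Fin.append_right, mp, map_sub, map_mul, map_C, map_X, map_rename]
    rw [hH j, map_mul, rename_C]
    ring
  have hker₂ : ∀ p : MvPolynomial (Fin (n + m)) R, π₂ (mp _ p) = 0 →
      ∃ s ∈ S, MvPolynomial.C s * p ∈ J := by
    intro p hp
    refine exists_C_mul_mem (Rₛ := Rₛ) S J p ?_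
    let J' := J.map (mp (n + m))
    have hy : ∀ j, X (Fin.natAdd n j) - rename (Fin.castAdd m) (P j) ∈ J' := fun j => by
      refine (Ideal.unit_mul_mem_iff_mem _ (hu.map MvPolynomial.C)).1 ?_
      rw [← hlead_eq]
      exact Ideal.mem_map_of_mem _ (Ideal.subset_span ⟨_, rfl⟩)
    have h1 : mp _ p - rename (Fin.castAdd m) (θ (mp _ p)) ∈ J' := by
      have : (Ideal.Quotient.mkₐ Rₛ J') =
          (Ideal.Quotient.mkₐ Rₛ J').comp ((rename (Fin.castAdd m)).comp θ) := by
        refine MvPolynomial.algHom_ext fun i => ?_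
        refine Fin.addCases (fun k => ?_) (fun j => ?_) i
        · simp [θ]
        · simp only [AlgHom.comp_apply, θ, aeval_X, Fin.append_right]
          exact Ideal.Quotient.eq.2 (hy j)
      exact Ideal.Quotient.eq.1 (AlgHom.congr_fun this (mp _ p))
    have h2 : θ (mp _ p) ∈ RingHom.ker π.toRingHom := hp
    rw [hker] at h2
    have h3 := Ideal.mem_map_of_mem
      (rename (R := Rₛ) (Fin.castAdd m : Fin n → Fin (n + m))).toRingHom h2
    rw [Ideal.map_span, ← Set.range_comp] at h3
    have h4 : rename (Fin.castAdd m) (θ (mp _ p)) ∈ J' := by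
      refine Ideal.span_le.2 ?_ h3
      rintro _ ⟨k, rfl⟩
      have : rename (Fin.castAdd m) (MvPolynomial.map (algebraMap R Rₛ) (F k)) =
          mp _ (lead (Fin.castAdd m k)) := by
        simp [lead, mp, map_rename]
      show rename (Fin.castAdd m) (MvPolynomial.map (algebraMap R Rₛ) (F k)) ∈ J'
      rw [this]
      exact Ideal.mem_map_of_mem _ (Ideal.subset_span ⟨_, rfl⟩)
    have h5 := add_mem h1 h4
    rwa [sub_add_cancel] at h5
  have hrel₂ : ∀ l, π₂ (mp _ (rename (Fin.natAdd n) (rA l))) = 0 := fun l => by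
    have : ((π₂.restrictScalars R).comp (MvPolynomial.mapAlgHom (Algebra.ofId R Rₛ))).comp
        (rename (Fin.natAdd n)) =
        ((g.restrictScalars R).comp Algebra.TensorProduct.includeRight).comp φA := by
      refine MvPolynomial.algHom_ext fun j => ?_
      simp [π₂, θ, hP]
    have h1 := AlgHom.congr_fun this (rA l)
    refine h1.trans ?_
    simp [hrA]
  choose σ hσS hσ using fun l => hker₂ _ (hrel₂ l)
  let cols' : Fin (c + m) ↪ Fin (n + m) :=
    ⟨Fin.append (Fin.castAdd m ∘ cols) (Fin.natAdd n), by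
      intro i j hij
      revert hij
      refine Fin.addCases (fun i => ?_) (fun i => ?_) i <;>
        refine Fin.addCases (fun j => ?_) (fun j => ?_) j <;>
        simp only [Fin.append_left, Fin.append_right, Function.comp_apply] <;> intro hij
      · exact congrArg _ (cols.injective (Fin.castAdd_injective _ _ hij))
      · have h1 := congrArg Fin.val hij
        simp at h1
        omega
      · have h1 := congrArg Fin.val hij
        simp at h1
        omega
      · exact congrArg _ (Fin.natAdd_injective m n hij)⟩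
  let Δ := jacobianMinor lead id cols'
  have hΔ : IsUnit (π₂ (mp _ Δ)) := by
    show IsUnit ((π₂.toRingHom.comp (mp (n + m))) Δ)
    simp only [Δ, jacobianMinor, RingHom.map_det]
    rw [← Matrix.det_reindex_self finSumFinEquiv.symm,
      ← Matrix.fromBlocks_toBlocks (Matrix.reindex _ _ _)]
    have hz : ∀ (k : Fin c) (j : Fin m), pderiv (Fin.natAdd n j)
        (rename (Fin.castAdd m) (F k)) = 0 := fun k j => by
      induction F k using MvPolynomial.induction_on with
      | C r => simp
      | add a b ha hb => simp [ha, hb]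
      | mul_X a i ha =>
        have hne : Fin.castAdd m i ≠ Fin.natAdd n j := fun h => by
          have h1 := congrArg Fin.val h
          simp at h1
          omega
        simp [pderiv_mul, ha, pderiv_X_of_ne hne]
    rw [show Matrix.toBlocks₁₂ _ = 0 from Matrix.ext fun k j => ?_, Matrix.det_fromBlocks_zero₁₂]
    · refine IsUnit.mul ?_ ?_
      · refine IsUnit.of_mul_eq_one (↑hdet.unit⁻¹ : B') ?_
        convert! IsUnit.mul_val_inv hdet using 2
        refine congrArg Matrix.det (Matrix.ext fun i k => ?_)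
        simp only [Matrix.toBlocks₁₁, Matrix.of_apply, Matrix.reindex_apply, Equiv.symm_symm,
          Matrix.submatrix_apply, finSumFinEquiv_apply_left, RingHom.mapMatrix_apply, Matrix.map_apply,
          id_eq, cols', Function.Embedding.coeFn_mk, Fin.append_left, Function.comp_apply, lead,
          pderiv_rename (Fin.castAdd_injective n m)]
        show π (θ (MvPolynomial.map _ (rename _ _))) = _
        rw [map_rename, hθl]
      · have : ∀ i k : Fin m, pderiv (Fin.natAdd n k) (lead (Fin.natAdd c i)) =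
            if i = k then MvPolynomial.C (T * s₁) else 0 := fun i k => by
          have hz' : pderiv (Fin.natAdd n k) (rename (Fin.castAdd m) (H i)) = 0 := by
            induction H i using MvPolynomial.induction_on with
            | C r => simp
            | add a b ha hb => simp [ha, hb]
            | mul_X a i ha =>
              have hne : Fin.castAdd m i ≠ Fin.natAdd n k := fun h => by
                have h1 := congrArg Fin.val h
                simp at h1
                omega
              simp [pderiv_mul, ha, pderiv_X_of_ne hne]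
          by_cases hik : i = k
          · subst hik
            simp [lead, hz']
          · have hne : Fin.natAdd n i ≠ Fin.natAdd n k := fun h => hik (Fin.natAdd_injective m n h)
            simp [lead, hz', hik, pderiv_X_of_ne hne]
        have hM : IsUnit (Matrix.diagonal fun _ : Fin m => π₂ (mp _ (MvPolynomial.C (T * s₁)))).det := by
          rw [Matrix.det_diagonal, Finset.prod_const]
          refine IsUnit.pow _ ?_
          rw [show π₂ (mp _ (MvPolynomial.C (T * s₁))) = algebraMap Rₛ B' (algebraMap R Rₛ (T * s₁)) by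
            simp only [mp, MvPolynomial.map_C]; exact π₂.commutes _]
          exact hu.map _
        convert! hM using 2
        refine Matrix.ext fun i k => ?_
        simp only [Matrix.toBlocks₂₂, Matrix.of_apply, Matrix.reindex_apply, Equiv.symm_symm,
          Matrix.submatrix_apply, finSumFinEquiv_apply_right, RingHom.mapMatrix_apply, Matrix.map_apply,
          id_eq, cols', Function.Embedding.coeFn_mk, Fin.append_right, this]
        by_cases hik : i = k
        · subst hik; simp
        · simp [hik]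
    · simp only [Matrix.toBlocks₁₂, Matrix.of_apply, Matrix.reindex_apply, Equiv.symm_symm,
        Matrix.submatrix_apply, finSumFinEquiv_apply_left, finSumFinEquiv_apply_right,
        RingHom.mapMatrix_apply, Matrix.map_apply, id_eq, cols', Function.Embedding.coeFn_mk,
        Fin.append_left, Fin.append_right, lead, hz, map_zero, Matrix.zero_apply]
  -- an inverse of the minor
  obtain ⟨pv, hpv⟩ : ∃ pv, π₂ pv = (↑hΔ.unit⁻¹ : B') := by
    obtain ⟨p, hp⟩ := hπ (↑hΔ.unit⁻¹ : B')
    exact ⟨rename (Fin.castAdd m) p, by simp [π₂, hθl, hp]⟩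
  obtain ⟨t, ht, hw⟩ := exists_integer_poly S (fun _ : Unit => pv)
  obtain ⟨w, hw⟩ := hw ()
  obtain ⟨s₃, hs₃, hmem⟩ := hker₂ (w * Δ - MvPolynomial.C t) (by
    rw [map_sub, map_mul, map_sub, map_mul, show mp _ w = _ from hw, map_mul, hpv, mul_assoc,
      IsUnit.val_inv_mul, mul_one]
    simp only [mp, map_C, sub_self])
  let σT : R := ∏ l, σ l
  refine ⟨s₃ * t * σT, S.mul_mem (S.mul_mem hs₃ ht) (S.prod_mem fun l _ => hσS l), ?_⟩
  have hJI : J ≤ I := Ideal.span_mono (by
    rintro _ ⟨i, rfl⟩
    exact ⟨Fin.castAdd q i, by simp [rel]⟩)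
  refine isElementaryStandard_of_rows_cols rel mkB Ideal.Quotient.mk_surjective Ideal.mk_ker
    (algebraMap R B (s₃ * t * σT)) (mkB (MvPolynomial.C (s₃ * σT) * w))
    (Fin.castAddEmb q) cols' ?_ fun a₁ ha₁ ℓ hℓ => ?_
  · have hj : jacobianMinor rel (Fin.castAddEmb q) cols' = Δ := by
      simp [Δ, jacobianMinor, rel]
    rw [hj, ← map_mul, ← mkB.commutes, MvPolynomial.algebraMap_eq]
    refine Eq.symm (Ideal.Quotient.eq.2 ?_)
    have : MvPolynomial.C (s₃ * σT) * w * Δ - MvPolynomial.C (s₃ * t * σT) =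
        MvPolynomial.C σT * (MvPolynomial.C s₃ * (w * Δ - MvPolynomial.C t)) := by
      simp only [map_mul]; ring
    rw [this]
    exact Ideal.mul_mem_left _ _ (hJI hmem)
  · revert hℓ
    refine Fin.addCases (fun i => ?_) (fun l => ?_) ℓ
    · intro hℓ
      exact absurd rfl (hℓ i)
    · intro _
      have h1 : a₁ - MvPolynomial.C (s₃ * t * σT) ∈ I := Ideal.Quotient.eq.1 (by
        rw [← MvPolynomial.algebraMap_eq]
        exact ha₁.trans (mkB.commutes _).symm)
      have h2 : rel (Fin.natAdd _ l) = rename (Fin.natAdd n) (rA l) := by simp [rel]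
      have hrng : Set.range (rel ∘ Fin.castAddEmb q) = Set.range lead := by
        congr 1
        funext i
        simp [rel]
      rw [h2, hrng]
      obtain ⟨d, hd⟩ : σ l ∣ σT := Finset.dvd_prod_of_mem _ (Finset.mem_univ l)
      have : a₁ * rename (Fin.natAdd n) (rA l) =
          (a₁ - MvPolynomial.C (s₃ * t * σT)) * rename (Fin.natAdd n) (rA l) +
          MvPolynomial.C (s₃ * t * d) * (MvPolynomial.C (σ l) * rename (Fin.natAdd n) (rA l)) := by
        simp only [hd, map_mul]; ring
      rw [this]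
      refine add_mem (Ideal.mem_sup_right ?_) (Ideal.mem_sup_left (Ideal.mul_mem_left _ _ (hσ l)))
      rw [pow_two]
      exact Ideal.mul_mem_mul h1 (h2 ▸ Ideal.subset_span ⟨_, rfl⟩)

theorem delocalize_base [Algebra.FinitePresentation R A] (φ : A →ₐ[R] Λ) [Algebra.Smooth Rₛ B']
    (g : Rₛ ⊗[R] A →ₐ[Rₛ] B') (h : B' →ₐ[Rₛ] Rₛ ⊗[R] Λ)
    (hgh : h.comp g = Algebra.TensorProduct.map (AlgHom.id Rₛ Rₛ) φ) :
    ∃ (B : Type u) (_ : CommRing B) (_ : Algebra R B) (α : A →ₐ[R] B) (β : B →ₐ[R] Λ),
      β.comp α = φ ∧ ∃ s ∈ S, IsElementaryStandard R B (algebraMap R B s) := by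
  classical
  obtain ⟨B₂, _, _, _, _, -, ⟨ret⟩, hstd⟩ :=
    exists_smooth_retract_isStandardSmooth (R := Rₛ) (A := B')
  obtain ⟨ι, σ, _, _, ⟨P₀⟩⟩ := hstd.out
  let n := Nat.card ι
  let c := Nat.card σ
  let P : Algebra.SubmersivePresentation Rₛ B₂ (Fin n) (Fin c) :=
    P₀.reindex (Finite.equivFin ι).symm (Finite.equivFin σ).symm
  let g₂ : Rₛ ⊗[R] A →ₐ[Rₛ] B₂ := (IsScalarTower.toAlgHom Rₛ B' B₂).comp g
  let h₂ : B₂ →ₐ[Rₛ] Rₛ ⊗[R] Λ := h.comp (ret.restrictScalars Rₛ)
  have hgh₂ : h₂.comp g₂ = Algebra.TensorProduct.map (AlgHom.id Rₛ Rₛ) φ := by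
    rw [← hgh]
    refine AlgHom.ext fun x => ?_
    show h (ret (algebraMap B' B₂ (g x))) = h (g x)
    rw [ret.commutes]
    rfl
  -- scale the variables
  obtain ⟨s, hs, hlam⟩ := exists_tmul_one_eq S fun i => h₂ (P.val i)
  choose lam hlam using hlam
  let u : Rₛ := algebraMap R Rₛ s
  have hu : IsUnit u := IsLocalization.map_units Rₛ (⟨s, hs⟩ : S)
  let v : Rₛ := ↑hu.unit⁻¹
  have huv : u * v = 1 := IsUnit.mul_val_inv hu
  let π : MvPolynomial (Fin n) Rₛ →ₐ[Rₛ] B₂ := aeval fun i => u • P.val i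
  let τ : MvPolynomial (Fin n) Rₛ →ₐ[Rₛ] MvPolynomial (Fin n) Rₛ :=
    aeval fun i => MvPolynomial.C v * X i
  let τ' : MvPolynomial (Fin n) Rₛ →ₐ[Rₛ] MvPolynomial (Fin n) Rₛ :=
    aeval fun i => MvPolynomial.C u * X i
  have hττ' : ∀ p, τ (τ' p) = p := fun p => by
    have : τ.comp τ' = AlgHom.id _ _ := by
      refine MvPolynomial.algHom_ext fun i => ?_
      show τ (τ' (X i)) = X i
      simp only [τ, τ', aeval_X, map_mul, aeval_C, MvPolynomial.algebraMap_eq]
      rw [← mul_assoc, ← map_mul, huv, map_one, one_mul]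
    exact AlgHom.congr_fun this p
  have hπτ : ∀ p, π (τ p) = aeval P.val p := fun p => by
    have : π.comp τ = aeval P.val := by
      refine MvPolynomial.algHom_ext fun i => ?_
      simp [π, τ, ← Algebra.smul_def, smul_smul, mul_comm v, huv]
    exact AlgHom.congr_fun this p
  have hπ : Function.Surjective π := fun x => ⟨τ (P.σ x), by rw [hπτ, P.aeval_val_σ]⟩
  have hkerP : RingHom.ker (aeval (R := Rₛ) P.val).toRingHom = Ideal.span (Set.range P.relation) := by
    rw [P.span_range_relation_eq_ker]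
    exact (P.toPresentation.ker_eq_ker_aeval_val).symm
  have hkerπ : RingHom.ker π.toRingHom = Ideal.span (Set.range fun k => τ (P.relation k)) := by
    refine le_antisymm (fun p hp => ?_) (Ideal.span_le.2 ?_)
    · have h1 : τ' p ∈ Ideal.span (Set.range P.relation) := by
        rw [← hkerP, RingHom.mem_ker]
        show aeval P.val (τ' p) = 0
        rw [← hπτ, hττ']
        exact hp
      have h2 := Ideal.mem_map_of_mem τ.toRingHom h1
      rw [Ideal.map_span, ← Set.range_comp] at h2
      simpa [Function.comp_def, hττ'] using h2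
    · rintro _ ⟨k, rfl⟩
      show π (τ (P.relation k)) = 0
      rw [hπτ, P.aeval_val_relation]
  obtain ⟨s', hs', hq⟩ := exists_integer_poly S fun k => τ (P.relation k)
  choose q hq using hq
  have hh : ∀ i, h₂ (π (X i)) = 1 ⊗ₜ lam i := fun i => by
    simp only [π, aeval_X, map_smul]
    exact hlam i
  have hq0 : ∀ k, ∃ t : S, (t : R) • aeval lam (q k) = 0 := by
    intro k
    have h1 : h₂ (π (MvPolynomial.map (algebraMap R Rₛ) (q k))) = 1 ⊗ₜ aeval lam (q k) := by
      letI : Algebra R B₂ := ((algebraMap Rₛ B₂).comp (algebraMap R Rₛ)).toAlgebra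
      haveI : IsScalarTower R Rₛ B₂ := IsScalarTower.of_algebraMap_eq fun _ => rfl
      have : ((h₂.comp π).restrictScalars R).comp
          (MvPolynomial.mapAlgHom (Algebra.ofId R Rₛ)) =
          (Algebra.TensorProduct.includeRight : Λ →ₐ[R] Rₛ ⊗[R] Λ).comp (aeval lam) := by
        refine MvPolynomial.algHom_ext fun i => ?_
        simp [hh]
      exact AlgHom.congr_fun this (q k)
    rw [hq k, map_mul π, hπτ, P.aeval_val_relation, mul_zero, map_zero] at h1
    exact (IsLocalizedModule.eq_zero_iff S (TensorProduct.mk R Rₛ Λ 1)).1 h1.symm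
  choose t ht using hq0
  let T : R := (∏ k, t k : S)
  have hT : T ∈ S := (∏ k, t k).2
  let F : Fin c → MvPolynomial (Fin n) R := fun k => MvPolynomial.C T * q k
  let w : Rₛ := algebraMap R Rₛ (T * s')
  have hw : IsUnit w := IsLocalization.map_units Rₛ (⟨T * s', S.mul_mem hT hs'⟩ : S)
  have hF : ∀ k, MvPolynomial.map (algebraMap R Rₛ) (F k) = MvPolynomial.C w * τ (P.relation k) :=
    fun k => by
      simp only [F, w, map_mul, MvPolynomial.map_C, hq k, mul_assoc]
  have hker : RingHom.ker π.toRingHom =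
      Ideal.span (Set.range fun k => MvPolynomial.map (algebraMap R Rₛ) (F k)) := by
    rw [hkerπ]
    refine le_antisymm (Ideal.span_le.2 ?_) (Ideal.span_le.2 ?_) <;> rintro _ ⟨k, rfl⟩
    · refine (Ideal.unit_mul_mem_iff_mem _ (hw.map MvPolynomial.C)).1 ?_
      rw [← hF]
      exact Ideal.subset_span ⟨k, rfl⟩
    · show MvPolynomial.map (algebraMap R Rₛ) (F k) ∈ _
      rw [hF]
      exact Ideal.mul_mem_left _ _ (Ideal.subset_span ⟨k, rfl⟩)
  have hpd : ∀ j p, pderiv j (τ p) = MvPolynomial.C v * τ (pderiv j p) := by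
    intro j p
    induction p using MvPolynomial.induction_on with
    | C r => simp [τ]
    | add a b ha hb => simp [ha, hb, mul_add]
    | mul_X a i ha =>
      simp only [map_mul, pderiv_mul, map_add, ha, τ, aeval_X]
      by_cases hij : i = j
      · subst hij; simp; ring
      · simp [pderiv_X_of_ne hij, hij]; ring
  let cols : Fin c ↪ Fin n := ⟨P.map, P.map_inj⟩
  have hdet : IsUnit (Matrix.of fun i k =>
      π (MvPolynomial.map (algebraMap R Rₛ) (pderiv (cols k) (F i)))).det := by
    have : (Matrix.of fun i k => π (MvPolynomial.map (algebraMap R Rₛ) (pderiv (cols k) (F i)))) =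
        algebraMap Rₛ B₂ (w * v) • (P.jacobiMatrix.map (aeval P.val)).transpose := by
      refine Matrix.ext fun i k => ?_
      simp only [Matrix.of_apply, Matrix.smul_apply, Matrix.transpose_apply, Matrix.map_apply,
        P.jacobiMatrix_apply, smul_eq_mul, ← pderiv_map, hF, pderiv_C_mul, hpd, map_mul,
        MvPolynomial.C_mul', map_smul, hπτ]
      rw [Derivation.map_smul, hpd, map_smul, MvPolynomial.C_mul', map_smul, hπτ,
        Algebra.smul_def, Algebra.smul_def, mul_assoc]
      rfl
    rw [this, Matrix.det_smul, Matrix.det_transpose]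
    refine IsUnit.mul (((hw.mul ⟨hu.unit⁻¹, rfl⟩).map (algebraMap Rₛ B₂)).pow _) ?_
    have hj := P.jacobian_isUnit
    rw [Algebra.PreSubmersivePresentation.jacobian_eq_jacobiMatrix_det, P.algebraMap_apply,
      AlgHom.map_det] at hj
    exact hj
  obtain ⟨m, φA, hφA, ⟨sA, hsA⟩⟩ := Algebra.FinitePresentation.out (R := R) (A := A)
  let rA : Fin sA.card → MvPolynomial (Fin m) R := fun i => (sA.equivFin.symm i : _)
  have hkerA : RingHom.ker φA.toRingHom = Ideal.span (Set.range rA) := by
    have : Set.range rA = (sA : Set (MvPolynomial (Fin m) R)) := by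
      ext x
      exact ⟨fun ⟨i, hi⟩ => hi ▸ (sA.equivFin.symm i).2, fun hx => ⟨sA.equivFin ⟨x, hx⟩, by simp [rA]⟩⟩
    rw [this]
    exact hsA.symm
  refine delocalize_core S cols π hπ F hker hdet lam (fun k => ?_) φA hφA rA hkerA φ g₂ h₂ hh hgh₂
  obtain ⟨d, hd⟩ : t k ∣ ∏ k, t k := Finset.dvd_prod_of_mem _ (Finset.mem_univ k)
  simp only [F, MvPolynomial.C_mul', map_smul]
  show ((∏ k, t k : S) : R) • _ = 0
  rw [hd, Submonoid.coe_mul, mul_comm, mul_smul, ht, smul_zero]

end Smoothing
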