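import Groth.Prelude.Def_Smoothing
import Mathlib.RingTheory.TensorProduct.MvPolynomial
import Mathlib.LinearAlgebra.TensorProduct.RightExactness

set_option autoImplicit false
set_option backward.isDefEq.respectTransparency false

open scoped TensorProduct
open MvPolynomial

namespace Smoothing

universe u

lemma map_jacobianMinor {R R' : Type u} [CommRing R] [CommRing R'] (φ : R →+* R') {n m c : ℕ}
    (f : Fin m → MvPolynomial (Fin n) R) (rows : Fin c → Fin m) (cols : Fin c → Fin n) :
    MvPolynomial.map φ (jacobianMinor f rows cols) =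
      jacobianMinor (fun j => MvPolynomial.map φ (f j)) rows cols := by
  rw [jacobianMinor, jacobianMinor, RingHom.map_det]
  congr 1
  ext j k
  simp [pderiv_map]

variable {R A R' : Type u} [CommRing R] [CommRing A] [Algebra R A] [CommRing R'] [Algebra R R']

/-- base change of the structure map of a presentation -/
noncomputable def bcHom {n : ℕ} (φ : MvPolynomial (Fin n) R →ₐ[R] A) :
    MvPolynomial (Fin n) R' →ₐ[R'] R' ⊗[R] A :=
  (Algebra.TensorProduct.map (AlgHom.id R' R') φ).comp (algebraTensorAlgEquiv R R').symm.toAlgHom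

lemma bcHom_map {n : ℕ} (φ : MvPolynomial (Fin n) R →ₐ[R] A) (p : MvPolynomial (Fin n) R) :
    bcHom (R' := R') φ (MvPolynomial.map (algebraMap R R') p) = 1 ⊗ₜ φ p := by
  show Algebra.TensorProduct.map (AlgHom.id R' R') φ
    ((algebraTensorAlgEquiv R R').symm (MvPolynomial.map (algebraMap R R') p)) = _
  rw [algebraTensorAlgEquiv_symm_map]
  rfl

lemma bcHom_surjective {n : ℕ} (φ : MvPolynomial (Fin n) R →ₐ[R] A) (hφ : Function.Surjective φ) :
    Function.Surjective (bcHom (R' := R') φ) :=
  (Algebra.TensorProduct.map_surjective (f := AlgHom.id R' R') (g := φ)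
    (fun x => ⟨x, rfl⟩) hφ).comp (algebraTensorAlgEquiv R R').symm.surjective

lemma ker_bcHom {n : ℕ} (φ : MvPolynomial (Fin n) R →ₐ[R] A) (hφ : Function.Surjective φ) :
    RingHom.ker (bcHom (R' := R') φ).toRingHom =
      (RingHom.ker φ.toRingHom).map (MvPolynomial.map (algebraMap R R')) := by
  have h := Algebra.TensorProduct.lTensor_ker (A := R') φ hφ
  have hk : RingHom.ker (Algebra.TensorProduct.map (AlgHom.id R' R') φ).toRingHom =
      RingHom.ker (Algebra.TensorProduct.map (AlgHom.id R R') φ) := by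
    ext x; rfl
  let e := (algebraTensorAlgEquiv (σ := Fin n) R R').toRingEquiv
  have e1 : (MvPolynomial.map (algebraMap R R') : MvPolynomial (Fin n) R →+* _) =
      (e : _ →+* _).comp (Algebra.TensorProduct.includeRight :
        MvPolynomial (Fin n) R →ₐ[R] R' ⊗[R] MvPolynomial (Fin n) R).toRingHom := by
    refine RingHom.ext fun p => ?_
    show _ = algebraTensorAlgEquiv R R' ((1 : R') ⊗ₜ p)
    rw [algebraTensorAlgEquiv_tmul, one_smul]
  rw [e1, ← Ideal.map_map]
  have e2 : (bcHom (R' := R') φ).toRingHom =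
      (Algebra.TensorProduct.map (AlgHom.id R' R') φ).toRingHom.comp (e.symm : _ →+* _) := rfl
  rw [e2, ← RingHom.comap_ker, hk, h, Ideal.map_comap_of_equiv]
  rfl

/-- base change of a marked presentation -/
noncomputable def MarkedPresentation.baseChange (P : MarkedPresentation R A) :
    MarkedPresentation R' (R' ⊗[R] A) where
  n := P.n
  m := P.m
  c := P.c
  hcn := P.hcn
  hcm := P.hcm
  rel j := MvPolynomial.map (algebraMap R R') (P.rel j)
  hom := bcHom P.hom
  surj := bcHom_surjective _ P.surj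
  ker_eq := by
    rw [ker_bcHom _ P.surj, P.ker_eq, Ideal.map_span, ← Set.range_comp]
    rfl

lemma killsTail_baseChange (P : MarkedPresentation R A) {a : A} (h : KillsTail P a) :
    KillsTail (P.baseChange (R' := R')) ((1 : R') ⊗ₜ[R] a) := by
  intro (a'' : MvPolynomial (Fin P.n) R') ha'' (j : Fin P.m) hj
  obtain ⟨a', rfl⟩ := P.surj a
  let μ := MvPolynomial.map (σ := Fin P.n) (algebraMap R R')
  let I' : Ideal (MvPolynomial (Fin P.n) R') := Ideal.span (Set.range fun i => μ (P.rel i))
  have hdiff : a'' - μ a' ∈ I' := by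
    have hker : RingHom.ker (bcHom (R' := R') P.hom).toRingHom = I' :=
      (P.baseChange (R' := R')).ker_eq
    rw [← hker, RingHom.mem_ker]
    show bcHom P.hom (a'' - μ a') = 0
    rw [map_sub, bcHom_map, sub_eq_zero]
    exact ha''
  have h1 : (a'' - μ a') * μ (P.rel j) ∈ I' ^ 2 := by
    rw [pow_two]
    exact Ideal.mul_mem_mul hdiff (Ideal.subset_span ⟨j, rfl⟩)
  have h2 := Ideal.mem_map_of_mem μ (h a' rfl j hj)
  rw [map_mul, Ideal.map_sup, Ideal.map_pow, Ideal.map_span, Ideal.map_span, Set.image_image,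
    ← Set.range_comp] at h2
  show a'' * μ (P.rel j) ∈
    Ideal.span ((fun i => μ (P.rel i)) '' {j' : Fin P.m | (j' : ℕ) < P.c}) ⊔ I' ^ 2
  have : a'' * μ (P.rel j) = (a'' - μ a') * μ (P.rel j) + μ a' * μ (P.rel j) := by ring
  rw [this]
  exact add_mem (Ideal.mem_sup_right h1) h2

theorem isStandard_baseChange (a : A) :
    (IsElementaryStandard R A a → IsElementaryStandard R' (R' ⊗[R] A) ((1 : R') ⊗ₜ[R] a)) ∧
      (IsStrictlyStandard R A a → IsStrictlyStandard R' (R' ⊗[R] A) ((1 : R') ⊗ₜ[R] a)) := by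
  constructor
  · rintro ⟨P, ⟨a', ha'⟩, hk⟩
    refine ⟨P.baseChange, ⟨(1 : R') ⊗ₜ a', ?_⟩, killsTail_baseChange P hk⟩
    show _ = _ * bcHom P.hom (jacobianMinor (fun j => MvPolynomial.map (algebraMap R R') (P.rel j))
      (Fin.castLE P.hcm) (Fin.castLE P.hcn))
    rw [← map_jacobianMinor, bcHom_map, Algebra.TensorProduct.tmul_mul_tmul, one_mul, ha']
  · rintro ⟨P, hmem, hk⟩
    refine ⟨P.baseChange, ?_, killsTail_baseChange P hk⟩
    have h := Ideal.mem_map_of_mem
      (Algebra.TensorProduct.includeRight : A →ₐ[R] R' ⊗[R] A).toRingHom hmem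
    rw [Ideal.map_span, ← Set.range_comp] at h
    refine Ideal.span_mono ?_ h
    rintro _ ⟨cols, rfl⟩
    refine ⟨cols, ?_⟩
    show bcHom P.hom (jacobianMinor (fun j => MvPolynomial.map (algebraMap R R') (P.rel j))
      (Fin.castLE P.hcm) cols) = _
    rw [← map_jacobianMinor, bcHom_map]
    rfl

end Smoothing
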