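import Groth.Prelude.Def_Smoothing
import Mathlib.RingTheory.Smooth.Locus
import Mathlib.RingTheory.LocalRing.ResidueField.Ideal
import Mathlib.LinearAlgebra.Matrix.Determinant.Basic
import Mathlib.LinearAlgebra.Matrix.NonsingularInverse
import Mathlib.LinearAlgebra.FiniteDimensional.Lemmas
import Mathlib.RingTheory.Nakayama
import Mathlib.LinearAlgebra.Matrix.Rank

set_option autoImplicit false
set_option backward.isDefEq.respectTransparency false

open MvPolynomial

namespace Smoothing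

universe u

lemma exists_fraction_residueField {P : Type*} [CommRing P] (Q : Ideal P) [Q.IsPrime]
    (x : Q.ResidueField) : ∃ num den : P, den ∉ Q ∧
      algebraMap P Q.ResidueField num = algebraMap P Q.ResidueField den * x := by
  obtain ⟨a, ⟨b, hb⟩, rfl⟩ := IsLocalization.exists_mk'_eq (nonZeroDivisors (P ⧸ Q)) x
  obtain ⟨a, rfl⟩ := Ideal.Quotient.mk_surjective a
  obtain ⟨b, rfl⟩ := Ideal.Quotient.mk_surjective b
  refine ⟨a, b, fun h => ?_, ?_⟩
  · exact nonZeroDivisors.ne_zero hb (Ideal.Quotient.eq_zero_iff_mem.2 h)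
  · exact (IsLocalization.mk'_spec' Q.ResidueField (Ideal.Quotient.mk Q a)
      ⟨Ideal.Quotient.mk Q b, hb⟩).symm

/-- rows and columns of a non-vanishing maximal minor -/
lemma exists_minor {κ : Type*} [Field κ] {m n : ℕ} (w : Fin m → Fin n → κ) :
    ∃ (c : ℕ) (rows : Fin c ↪ Fin m) (cols : Fin c ↪ Fin n),
      (∀ l, w l ∈ Submodule.span κ (Set.range fun i => w (rows i))) ∧
      Matrix.det (Matrix.of fun j k => w (rows j) (cols k)) ≠ 0 := by
  classical
  obtain ⟨ι, a, ha, hspan, hli⟩ := exists_linearIndependent' κ w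
  haveI : Finite ι := Finite.of_injective a ha
  let c := Nat.card ι
  let e : Fin c ≃ ι := (Finite.equivFin ι).symm
  let rows : Fin c ↪ Fin m := ⟨a ∘ e, ha.comp e.injective⟩
  have hli' : LinearIndependent κ fun i => w (rows i) := hli.comp e e.injective
  let M : Matrix (Fin c) (Fin n) κ := Matrix.of fun j k => w (rows j) k
  have hrank : Submodule.span κ (Set.range fun k j => w (rows j) k) = ⊤ := by
    apply Submodule.eq_top_of_finrank_eq
    have h1 := LinearIndependent.rank_matrix (M := M) hli'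
    rw [Matrix.rank_eq_finrank_span_cols] at h1
    rw [Module.finrank_fintype_fun_eq_card]
    exact h1
  obtain ⟨ι', b, hb, hspan', hli2⟩ := exists_linearIndependent' κ fun k j => w (rows j) k
  haveI : Finite ι' := Finite.of_injective b hb
  haveI := Fintype.ofFinite ι'
  rw [hrank] at hspan'
  have hc : Fintype.card ι' = c := by
    have := finrank_span_eq_card hli2
    rw [hspan', finrank_top, Module.finrank_fintype_fun_eq_card, Fintype.card_fin] at this
    exact this.symm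
  let e' : Fin c ≃ ι' := (Fintype.equivFinOfCardEq hc).symm
  refine ⟨c, rows, ⟨b ∘ e', hb.comp e'.injective⟩, fun l => ?_, ?_⟩
  · have : Set.range (fun i => w (rows i)) = Set.range (w ∘ a) := by
      rw [← e.surjective.range_comp (w ∘ a)]
      rfl
    rw [this, hspan]
    exact Submodule.subset_span ⟨l, rfl⟩
  · have h := Matrix.linearIndependent_cols_iff_isUnit.1
      (show LinearIndependent κ (Matrix.of fun j k => w (rows j) (b (e' k))).col from
        hli2.comp e' e'.injective)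
    exact ((Matrix.isUnit_iff_isUnit_det _).1 h).ne_zero

lemma le_map_span_rows {R B : Type u} [CommRing R] [CommRing B] [Algebra R B] [IsLocalRing B]
    {n m c : ℕ} (f : Fin m → MvPolynomial (Fin n) R) (rows : Fin c ↪ Fin m)
    (Q : Ideal (MvPolynomial (Fin n) R)) [Q.IsPrime] (hIQ : ∀ l, f l ∈ Q)
    (hrows : ∀ l, (fun k => algebraMap _ Q.ResidueField (pderiv k (f l))) ∈
      Submodule.span Q.ResidueField (Set.range fun i k =>
        algebraMap _ Q.ResidueField (pderiv k (f (rows i)))))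
    (γ σ : MvPolynomial (Fin n) R →ₐ[R] B) (K : Ideal B) (hK2 : K ^ 2 = ⊥)
    (hK : K = Ideal.span (Set.range fun l => γ (f l))) (hσK : ∀ p, γ p - σ p ∈ K)
    (hσ : ∀ l, σ (f l) = 0) (hγQ : ∀ x ∈ Q, γ x ∈ IsLocalRing.maximalIdeal B)
    (hu : ∀ x ∉ Q, IsUnit (γ x)) :
    K ≤ Ideal.span (Set.range fun i => γ (f (rows i))) := by
  classical
  let ρ : MvPolynomial (Fin n) R →+* Q.ResidueField := algebraMap _ _
  have hKK : ∀ x y, x ∈ K → y ∈ K → x * y = 0 := fun x y hx hy => by
    have : x * y ∈ K ^ 2 := pow_two K ▸ Ideal.mul_mem_mul hx hy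
    simpa [hK2] using this
  have hδ : ∀ p, γ p - σ p = ∑ k, γ (pderiv k p) * (γ (X k) - σ (X k)) := by
    intro p
    induction p using MvPolynomial.induction_on with
    | C r => simp [← MvPolynomial.algebraMap_eq]
    | add p q hp hq =>
      simp only [map_add, add_mul, Finset.sum_add_distrib, ← hp, ← hq]
      ring
    | mul_X p i hp =>
      have h0 := hKK _ _ (hσK p) (hσK (X i))
      have hsum : ∑ k, γ (pderiv k (p * X i)) * (γ (X k) - σ (X k)) =
          γ (X i) * (γ p - σ p) + γ p * (γ (X i) - σ (X i)) := by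
        rw [hp, Finset.mul_sum]
        simp only [pderiv_mul, map_add, map_mul, add_mul, Finset.sum_add_distrib]
        congr 1
        · exact Finset.sum_congr rfl fun k _ => by ring
        · simp [pderiv_X, Pi.single_apply, apply_ite γ]
      rw [hsum, map_mul, map_mul]
      linear_combination -h0
  apply Submodule.le_of_le_smul_of_le_jacobson_bot (I := IsLocalRing.maximalIdeal B)
  · exact ⟨Finset.univ.image fun l => γ (f l), by simp [hK]⟩
  · rw [IsLocalRing.jacobson_eq_maximalIdeal _ bot_ne_top]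
  conv_lhs => rw [hK]
  rw [Ideal.span_le]
  rintro _ ⟨l, rfl⟩
  obtain ⟨ν, hν⟩ := (Submodule.mem_span_range_iff_exists_fun _).1 (hrows l)
  choose num den hden hfrac using fun i : Fin c => exists_fraction_residueField Q (ν i)
  let μ := ∏ i, den i
  have hμ : μ ∉ Q := Q.primeCompl.prod_mem fun i _ => hden i
  let lam : Fin c → MvPolynomial (Fin n) R := fun i => num i * ∏ j ∈ Finset.univ.erase i, den j
  have hlam : ∀ i, ρ (lam i) = ρ μ * ν i := fun i => by
    show ρ (num i * _) = ρ (∏ j, den j) * ν i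
    rw [← Finset.mul_prod_erase _ _ (Finset.mem_univ i), map_mul, map_mul, hfrac i]
    ring
  let h := μ * f l - ∑ i, lam i * f (rows i)
  have hdh : ∀ k, pderiv k h ∈ Q := fun k => by
    have hρ : ∀ j, ρ (f j) = 0 := fun j => Ideal.algebraMap_residueField_eq_zero.2 (hIQ j)
    rw [← Ideal.algebraMap_residueField_eq_zero]
    show ρ (pderiv k h) = 0
    simp only [h, map_sub, map_sum, pderiv_mul, map_add, map_mul, hρ, hlam, mul_zero, zero_add]
    have h2 := congrFun hν k
    simp only [Finset.sum_apply, Pi.smul_apply, smul_eq_mul] at h2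
    rw [← h2, Finset.mul_sum, sub_eq_zero]
    exact Finset.sum_congr rfl fun i _ => by ring
  have hγh : γ h ∈ IsLocalRing.maximalIdeal B • K := by
    have h3 : σ h = 0 := by simp [h, map_sum, hσ]
    rw [← sub_zero (γ h), ← h3, hδ h]
    exact Submodule.sum_mem _ fun k _ => Submodule.smul_mem_smul (hγQ _ (hdh k)) (hσK _)
  have hsum : ∑ i, γ (lam i) * γ (f (rows i)) ∈ Ideal.span (Set.range fun i => γ (f (rows i))) :=
    Submodule.sum_mem _ fun i _ => Ideal.mul_mem_left _ _ (Ideal.subset_span ⟨i, rfl⟩)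
  have : γ μ * γ (f l) = γ h + ∑ i, γ (lam i) * γ (f (rows i)) := by
    simp [h, map_sum]
  refine (Ideal.unit_mul_mem_iff_mem _ (hu μ hμ)).1 ?_
  rw [this, add_comm]
  exact Submodule.add_mem_sup hsum hγh

lemma exists_split_thickening {R P A : Type u} [CommRing R] [CommRing P] [Algebra R P] [CommRing A]
    [Algebra R A] (φ : P →ₐ[R] A) (hφ : Function.Surjective φ) (q : Ideal A) [q.IsPrime]
    (Q : Ideal P) [Q.IsPrime] (hQ : Q = q.comap φ.toRingHom)
    (PQ : Type u) [CommRing PQ] [Algebra P PQ] [IsLocalization.AtPrime PQ Q] [Algebra R PQ]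
    [IsScalarTower R P PQ]
    (Aq : Type u) [CommRing Aq] [Algebra A Aq] [IsLocalization.AtPrime Aq q] [Algebra R Aq]
    [IsScalarTower R A Aq] [Algebra.FormallySmooth R Aq] :
    ∃ (B : Type u) (_ : CommRing B) (_ : Algebra R B) (γ σ : P →ₐ[R] B) (K : Ideal B),
      IsLocalRing B ∧ K ^ 2 = ⊥ ∧ K = (RingHom.ker φ.toRingHom).map γ.toRingHom ∧
      (∀ p, γ p - σ p ∈ K) ∧ (∀ p, φ p = 0 → σ p = 0) ∧
      (∀ x ∈ Q, ¬ IsUnit (γ x)) ∧ (∀ x ∉ Q, IsUnit (γ x)) ∧
      (∀ (J : Ideal P) (x : P), γ x ∈ J.map γ.toRingHom →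
        ∃ t ∉ Q, t * x ∈ J ⊔ RingHom.ker φ.toRingHom ^ 2) := by
  let I := RingHom.ker φ.toRingHom
  let IQ : Ideal PQ := I.map (algebraMap _ PQ)
  have hu₀ : ∀ s : Q.primeCompl, IsUnit (((IsScalarTower.toAlgHom R A Aq).comp φ) (s : P)) :=
    fun s => IsLocalization.map_units Aq (⟨φ s, fun h => s.2 (hQ ▸ h)⟩ : q.primeCompl)
  let π₀ : PQ →ₐ[R] Aq := IsLocalization.liftAlgHom (M := Q.primeCompl) hu₀
  have hπalg : ∀ x, π₀ (algebraMap P PQ x) = algebraMap A Aq (φ x) := fun x =>
    IsLocalization.lift_eq _ x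
  have hπ₀ : Function.Surjective π₀ := by
    intro y
    obtain ⟨x, s, rfl⟩ := IsLocalization.exists_mk'_eq q.primeCompl y
    obtain ⟨x', rfl⟩ := hφ x
    obtain ⟨s', hs'⟩ := hφ s
    have hs'' : s' ∈ Q.primeCompl := fun h => s.2 (by
      rw [← hs']; rw [hQ] at h; exact h)
    refine ⟨IsLocalization.mk' _ x' ⟨s', hs''⟩, ?_⟩
    rw [IsLocalization.eq_mk'_iff_mul_eq, ← hs', ← hπalg, ← hπalg, ← map_mul]
    congr 1
    exact IsLocalization.mk'_spec PQ x' ⟨s', hs''⟩
  have hker₀ : RingHom.ker π₀.toRingHom = IQ := by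
    refine le_antisymm (fun z hz => ?_) ?_
    · obtain ⟨x, s, rfl⟩ := IsLocalization.exists_mk'_eq Q.primeCompl z
      have h : algebraMap A Aq (φ x) = 0 := by
        rw [← hπalg, ← IsLocalization.mk'_spec PQ x s, map_mul]
        rw [show π₀ (IsLocalization.mk' PQ x s) = 0 from hz, zero_mul]
      obtain ⟨⟨t, ht⟩, h⟩ := (IsLocalization.map_eq_zero_iff q.primeCompl Aq _).1 h
      obtain ⟨t', rfl⟩ := hφ t
      rw [IsLocalization.mk'_mem_map_algebraMap_iff Q.primeCompl]
      refine ⟨t', fun h' => ht ?_, ?_⟩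
      · rw [hQ] at h'; exact h'
      rw [RingHom.mem_ker, map_mul]
      exact h
    · rw [Ideal.map_le_iff_le_comap]
      intro x hx
      show π₀ (algebraMap P PQ x) = 0
      rw [hπalg, show φ x = 0 from hx, map_zero]
  have hIQ2 : ∀ x ∈ IQ ^ 2, π₀ x = 0 := fun x hx => by
    have : x ∈ RingHom.ker π₀.toRingHom := hker₀ ▸ Ideal.pow_le_self two_ne_zero hx
    exact this
  let γ : P →ₐ[R] PQ ⧸ IQ ^ 2 :=
    (Ideal.Quotient.mkₐ R (IQ ^ 2)).comp (IsScalarTower.toAlgHom R P PQ)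
  let ε : (PQ ⧸ IQ ^ 2) →ₐ[R] Aq := Ideal.Quotient.liftₐ (IQ ^ 2) π₀ hIQ2
  have hε : Function.Surjective ε := fun y => by
    obtain ⟨x, rfl⟩ := hπ₀ y
    exact ⟨Ideal.Quotient.mk _ x, rfl⟩
  let K : Ideal (PQ ⧸ IQ ^ 2) := RingHom.ker ε.toRingHom
  have hK : K = IQ.map (Ideal.Quotient.mk _) := by
    ext b
    obtain ⟨x, rfl⟩ := Ideal.Quotient.mk_surjective b
    show π₀.toRingHom x = 0 ↔ _
    rw [← RingHom.mem_ker, hker₀, Ideal.mem_map_iff_of_surjective _ Ideal.Quotient.mk_surjective]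
    refine ⟨fun h => ⟨x, h, rfl⟩, fun ⟨x', h', he⟩ => ?_⟩
    have := Ideal.pow_le_self two_ne_zero (Ideal.Quotient.eq.1 he)
    simpa using sub_mem h' this
  have hK2 : K ^ 2 = ⊥ := by
    rw [hK]
    exact (Ideal.map_pow _ IQ 2).symm.trans (Ideal.map_quotient_self (IQ ^ 2))
  let s : Aq →ₐ[R] PQ ⧸ IQ ^ 2 :=
    Algebra.FormallySmooth.liftOfSurjective (AlgHom.id R Aq) ε hε ⟨2, hK2⟩
  have hs : ∀ y, ε (s y) = y := fun y =>
    Algebra.FormallySmooth.liftOfSurjective_apply (AlgHom.id R Aq) ε hε ⟨2, hK2⟩ y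
  haveI : IsLocalRing PQ := IsLocalization.AtPrime.isLocalRing PQ Q
  haveI : Nontrivial Aq := (IsLocalization.AtPrime.isLocalRing Aq q).toNontrivial
  haveI : Nontrivial (PQ ⧸ IQ ^ 2) := ε.toRingHom.domain_nontrivial
  haveI : IsLocalHom (Ideal.Quotient.mk (IQ ^ 2)) :=
    Function.Surjective.isLocalHom _ Ideal.Quotient.mk_surjective
  refine ⟨PQ ⧸ IQ ^ 2, inferInstance, inferInstance, γ, s.comp (ε.comp γ), K,
    IsLocalRing.of_surjective' (Ideal.Quotient.mk _) Ideal.Quotient.mk_surjective, hK2,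
    hK.trans (Ideal.map_map _ _), fun p => ?_, fun p hp => ?_, fun x hx h => ?_, fun x hx => ?_,
    fun J x hx => ?_⟩
  · show ε (γ p - s (ε (γ p))) = 0
    rw [map_sub, hs, sub_self]
  · show s (π₀ (algebraMap P PQ p)) = 0
    rw [hπalg, hp, map_zero, map_zero]
  · exact (IsLocalization.AtPrime.isUnit_to_map_iff PQ Q x).1
      (isUnit_of_map_unit (Ideal.Quotient.mk (IQ ^ 2)) _ h) hx
  · exact (IsLocalization.map_units PQ (⟨x, hx⟩ : Q.primeCompl)).map (Ideal.Quotient.mk _)
  · have hx' : Ideal.Quotient.mk (IQ ^ 2) (algebraMap P PQ x) ∈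
        (J.map (algebraMap P PQ)).map (Ideal.Quotient.mk (IQ ^ 2)) := by
      rw [Ideal.map_map]
      exact hx
    rw [← Ideal.mem_comap, Ideal.comap_map_of_surjective' _ Ideal.Quotient.mk_surjective,
      Ideal.mk_ker, ← Ideal.map_pow, ← Ideal.map_sup,
      IsLocalization.algebraMap_mem_map_algebraMap_iff Q.primeCompl] at hx'
    obtain ⟨t, ht, h⟩ := hx'
    exact ⟨t, ht, h⟩

theorem exists_standard_element {R A : Type u} [CommRing R] [CommRing A] [Algebra R A] {n m : ℕ}
    (f : Fin m → MvPolynomial (Fin n) R) (φ : MvPolynomial (Fin n) R →ₐ[R] A)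
    (hφ : Function.Surjective φ) (hker : RingHom.ker φ.toRingHom = Ideal.span (Set.range f))
    (q : Ideal A) [q.IsPrime] [Algebra.IsSmoothAt R q] :
    ∃ a : A, a ∉ q ∧ ∃ (c : ℕ) (rows : Fin c ↪ Fin m) (cols : Fin c ↪ Fin n) (a' : A),
      a = a' * φ (jacobianMinor f rows cols) ∧
      ∀ a₁ : MvPolynomial (Fin n) R, φ a₁ = a → ∀ ℓ : Fin m,
        a₁ * f ℓ ∈ Ideal.span (Set.range (f ∘ rows)) ⊔ Ideal.span (Set.range f) ^ 2 := by
  classical
  let I := Ideal.span (Set.range f)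
  let Q : Ideal (MvPolynomial (Fin n) R) := q.comap φ.toRingHom
  have hIQ : I ≤ Q := by
    intro x hx
    rw [← show RingHom.ker φ.toRingHom = I from hker, RingHom.mem_ker] at hx
    show φ.toRingHom x ∈ q
    rw [hx]
    exact q.zero_mem
  let κ := Q.ResidueField
  let ρ : MvPolynomial (Fin n) R →+* κ := algebraMap _ κ
  obtain ⟨c, rows, cols, hrows, hdet⟩ := exists_minor fun l k => ρ (pderiv k (f l))
  have hΔ : jacobianMinor f rows cols ∉ Q := by
    intro h
    apply hdet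
    rw [← Ideal.algebraMap_residueField_eq_zero, jacobianMinor, RingHom.map_det] at h
    exact h
  haveI : Algebra.FormallySmooth R (Localization.AtPrime q) := ‹Algebra.IsSmoothAt R q›
  obtain ⟨B, _, _, γ, σ, K, hB, hK2, hK, hσK, hσ, hγQ, hu, hback⟩ :=
    exists_split_thickening φ hφ q Q rfl (Localization.AtPrime Q) (Localization.AtPrime q)
  let Jr := Ideal.span (Set.range (f ∘ rows))
  have hKsp : K = Ideal.span (Set.range fun l => γ (f l)) := by
    rw [hK, hker, Ideal.map_span, ← Set.range_comp]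
    rfl
  have hfl : ∀ l, φ (f l) = 0 := fun l => by
    have : f l ∈ RingHom.ker φ.toRingHom := hker ▸ Ideal.subset_span ⟨l, rfl⟩
    exact this
  have hnak := le_map_span_rows f rows Q (fun l => hIQ (Ideal.subset_span ⟨l, rfl⟩)) hrows
    γ σ K hK2 hKsp hσK (fun l => hσ _ (hfl l)) (fun x hx => hγQ x hx) hu
  have ht : ∀ l, ∃ t ∉ Q, t * f l ∈ Jr ⊔ I ^ 2 := fun l => by
    have h1 := hnak (hKsp ▸ Ideal.subset_span ⟨l, rfl⟩ : γ (f l) ∈ K)
    have h2 : γ (f l) ∈ Jr.map γ.toRingHom := by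
      rw [Ideal.map_span, ← Set.range_comp]
      exact h1
    have := hback Jr (f l) h2
    rwa [hker] at this
  choose t ht hmem using ht
  let T := ∏ l, t l
  have hT : T ∉ Q := Q.primeCompl.prod_mem fun l _ => ht l
  refine ⟨φ T * φ (jacobianMinor f rows cols), ?_, c, rows, cols, φ T, rfl, fun a₁ ha₁ ℓ => ?_⟩
  · exact fun h => (‹q.IsPrime›.mem_or_mem h).elim hT hΔ
  · have hd : a₁ - T * jacobianMinor f rows cols ∈ I := by
      rw [← show RingHom.ker φ.toRingHom = I from hker, RingHom.mem_ker]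
      show φ _ = 0
      rw [map_sub, map_mul, ha₁, sub_self]
    have h1 : (a₁ - T * jacobianMinor f rows cols) * f ℓ ∈ I ^ 2 :=
      pow_two I ▸ Ideal.mul_mem_mul hd (Ideal.subset_span ⟨ℓ, rfl⟩)
    obtain ⟨d, hd'⟩ : t ℓ ∣ T := Finset.dvd_prod_of_mem _ (Finset.mem_univ ℓ)
    have : a₁ * f ℓ = (a₁ - T * jacobianMinor f rows cols) * f ℓ +
        (d * jacobianMinor f rows cols) * (t ℓ * f ℓ) := by
      rw [hd']; ring
    rw [this]
    exact add_mem (Ideal.mem_sup_right h1) (Ideal.mul_mem_left _ _ (hmem ℓ))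

end Smoothing
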