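import Groth.Agent.Lib.Smoothing.Lifting
import Groth.Agent.Lib.Smoothing.StandardAt
import Groth.Agent.Lib.Smoothing.BaseChange

set_option autoImplicit false
set_option backward.isDefEq.respectTransparency false

/-! The lifting lemma, assembled. -/

open MvPolynomial

namespace Smoothing

universe u

lemma exists_sum_mul_sum_of_mem_sq {P : Type*} [CommRing P] {m : ℕ} (f : Fin m → P) {x : P}
    (hx : x ∈ Ideal.span (Set.range f) ^ 2) :
    ∃ w : Fin m → Fin m → P, ∑ j, ∑ k, w j k * (f j * f k) = x := by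
  rw [pow_two, Ideal.span_mul_span'] at hx
  have hx' : x ∈ Ideal.span (Set.range fun z : Fin m × Fin m => f z.1 * f z.2) := by
    refine Ideal.span_mono ?_ hx
    rintro _ ⟨_, ⟨j, rfl⟩, _, ⟨k, rfl⟩, rfl⟩
    exact ⟨(j, k), rfl⟩
  obtain ⟨c, hc⟩ := (Submodule.mem_span_range_iff_exists_fun _).1 hx'
  refine ⟨fun j k => c (j, k), ?_⟩
  rw [← hc, Fintype.sum_prod_type]
  rfl

lemma eq_C_mul_of_map_eq_zero {R : Type u} [CommRing R] {n : ℕ} (π : R) (x : MvPolynomial (Fin n) R)
    (hx : MvPolynomial.map (Ideal.Quotient.mk (Ideal.span {π ^ 2})) x = 0) :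
    ∃ h, x = MvPolynomial.C (π ^ 2) * h := by
  have h1 : x ∈ RingHom.ker (MvPolynomial.map (σ := Fin n) (Ideal.Quotient.mk (Ideal.span {π ^ 2}))) := hx
  rw [MvPolynomial.ker_map, Ideal.mk_ker, Ideal.map_span, Set.image_singleton] at h1
  obtain ⟨h, rfl⟩ := Ideal.mem_span_singleton'.1 h1
  exact ⟨h, mul_comm _ _⟩

/-- the map from `C` to the lift modulo `π` -/
lemma exists_lift_psi {R C D : Type u} [CommRing R] [CommRing C] [Algebra R C] [CommRing D] [Algebra R D]
    (π : R) {n m : ℕ} (f : Fin m → MvPolynomial (Fin n) R)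
    (φC : MvPolynomial (Fin n) R →ₐ[R] C) (hφCs : Function.Surjective φC)
    (hker : ∀ x, φC x = 0 → ∃ (c : Fin m → MvPolynomial (Fin n) R) (h : MvPolynomial (Fin n) R),
      x = ∑ j, c j * f j + MvPolynomial.C (π ^ 2) * h)
    (mkD : MvPolynomial (Fin (n + m)) R →ₐ[R] D)
    (hE : ∀ j, mkD (rename (Fin.castAdd m) (f j)) = algebraMap R D π * mkD (X (Fin.natAdd n j))) :
    ∃ ψ : C →ₐ[R] D ⧸ Ideal.span {algebraMap R D π}, ∀ x,
      ψ (φC x) = Ideal.Quotient.mk _ (mkD (rename (Fin.castAdd m) x)) := by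
  let ψ₀ : MvPolynomial (Fin n) R →ₐ[R] D ⧸ Ideal.span {algebraMap R D π} :=
    (Ideal.Quotient.mkₐ R (Ideal.span {algebraMap R D π})).comp (mkD.comp (rename (Fin.castAdd m)))
  have hψker : RingHom.ker φC.toRingHom ≤ RingHom.ker ψ₀.toRingHom := by
    intro x hx
    obtain ⟨c, h, rfl⟩ := hker x hx
    rw [RingHom.mem_ker]
    refine Ideal.Quotient.eq_zero_iff_mem.2 ?_
    show mkD (rename (Fin.castAdd m) _) ∈ Ideal.span {algebraMap R D π}
    rw [map_add, map_sum, map_add, map_sum]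
    refine add_mem (Submodule.sum_mem _ fun j _ => ?_) ?_
    · rw [map_mul, map_mul, hE j]
      exact Ideal.mul_mem_left _ _ (Ideal.mul_mem_right _ _ (Ideal.mem_span_singleton_self _))
    · rw [map_mul, map_mul, rename_C, ← MvPolynomial.algebraMap_eq, mkD.commutes, map_pow, pow_two,
        mul_assoc]
      exact Ideal.mul_mem_right _ _ (Ideal.mem_span_singleton_self _)
  exact ⟨AlgHom.liftOfSurjective φC hφCs ψ₀ hψker,
    fun x => AlgHom.liftOfSurjective_apply φC hφCs ψ₀ hψker x⟩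

/-- the data at a point of the special fibre -/
lemma exists_lift_data {R C : Type u} [CommRing R] (π : R) [CommRing C]
    [Algebra (R ⧸ Ideal.span {π ^ 2}) C] {n m : ℕ}
    (φb : MvPolynomial (Fin n) (R ⧸ Ideal.span {π ^ 2}) →ₐ[R ⧸ Ideal.span {π ^ 2}] C)
    (hφb : Function.Surjective φb) (f : Fin m → MvPolynomial (Fin n) R)
    (hkerb : RingHom.ker φb.toRingHom = Ideal.span (Set.range fun j =>
      MvPolynomial.map (Ideal.Quotient.mk (Ideal.span {π ^ 2})) (f j)))
    (q : Ideal C) [q.IsPrime] [Algebra.IsSmoothAt (R ⧸ Ideal.span {π ^ 2}) q] :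
    ∃ (c d : ℕ) (σ : (Fin c ⊕ Fin d) ≃ Fin m) (cols : Fin c ↪ Fin n) (a : MvPolynomial (Fin n) R)
      (uu : Fin d → Fin c → MvPolynomial (Fin n) R)
      (w : Fin d → Fin m → Fin m → MvPolynomial (Fin n) R) (hh : Fin d → MvPolynomial (Fin n) R),
      φb (MvPolynomial.map (Ideal.Quotient.mk (Ideal.span {π ^ 2})) a) ∉ q ∧
      φb (MvPolynomial.map (Ideal.Quotient.mk (Ideal.span {π ^ 2}))
        (jacobianMinor f (σ ∘ Sum.inl) cols)) ∉ q ∧
      ∀ l, a * f (σ (Sum.inr l)) = ∑ i, uu l i * f (σ (Sum.inl i)) +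
        ∑ j, ∑ k, w l j k * (f j * f k) + MvPolynomial.C (π ^ 2) * hh l := by
  classical
  let μ : MvPolynomial (Fin n) R →+* MvPolynomial (Fin n) (R ⧸ Ideal.span {π ^ 2}) :=
    MvPolynomial.map (Ideal.Quotient.mk (Ideal.span {π ^ 2}))
  have hμ : Function.Surjective μ := MvPolynomial.map_surjective _ Ideal.Quotient.mk_surjective
  obtain ⟨a₀, ha₀, c, rows, cols, a', ha', hkill⟩ :=
    exists_standard_element (fun j => μ (f j)) φb hφb hkerb q
  obtain ⟨a₀', rfl⟩ := hφb a₀
  obtain ⟨a, rfl⟩ := hμ a₀'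
  have hcm : c ≤ m := by simpa using Fintype.card_le_of_embedding rows
  obtain ⟨ρ, hρ⟩ := exists_perm_castLE hcm rows
  let σ : (Fin c ⊕ Fin (m - c)) ≃ Fin m :=
    (finSumFinEquiv.trans (finCongr (Nat.add_sub_cancel' hcm))).trans ρ
  have hσ : ∀ i, σ (Sum.inl i) = rows i := fun i => by
    rw [← hρ i]
    simp only [σ, Equiv.trans_apply, finSumFinEquiv_apply_left]
    congr 1
  have hr : (σ ∘ Sum.inl : Fin c → Fin m) = rows := funext hσ
  have heq : ∀ l : Fin (m - c), ∃ (uu : Fin c → MvPolynomial (Fin n) R)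
      (w : Fin m → Fin m → MvPolynomial (Fin n) R) (h : MvPolynomial (Fin n) R),
      a * f (σ (Sum.inr l)) = ∑ i, uu i * f (σ (Sum.inl i)) +
        ∑ j, ∑ k, w j k * (f j * f k) + MvPolynomial.C (π ^ 2) * h := by
    intro l
    obtain ⟨y, hy, z, hz, hyz⟩ := Submodule.mem_sup.1 (hkill (μ a) rfl (σ (Sum.inr l)))
    obtain ⟨u₁, hu₁⟩ := (Submodule.mem_span_range_iff_exists_fun _).1 hy
    obtain ⟨w₁, hw₁⟩ := exists_sum_mul_sum_of_mem_sq (fun j => μ (f j)) hz
    choose uu huu using fun i => hμ (u₁ i)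
    choose w hw using fun j k => hμ (w₁ j k)
    obtain ⟨h, hh⟩ := eq_C_mul_of_map_eq_zero π (a * f (σ (Sum.inr l)) -
        ∑ i, uu i * f (σ (Sum.inl i)) - ∑ j, ∑ k, w j k * (f j * f k)) (by
      show μ _ = 0
      simp only [map_sub, map_sum, map_mul, huu, hw, hσ]
      rw [hw₁, ← hyz, ← hu₁]
      simp)
    exact ⟨uu, w, h, by rw [← hh]; ring⟩
  choose uu w hh heq using heq
  refine ⟨c, m - c, σ, cols, a, uu, w, hh, ha₀, fun hin => ha₀ ?_, heq⟩
  rw [ha']
  refine Ideal.mul_mem_left _ _ ?_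
  rw [map_jacobianMinor, hr] at hin
  exact hin

theorem lifting_lemma {R Λ C : Type u} [CommRing R] [IsNoetherianRing R] [CommRing Λ]
    [Algebra R Λ] (π : R) (hR : ∀ r : R, π ^ 2 * r = 0 → π * r = 0)
    (hΛ : ∀ x : Λ, π ^ 2 • x = 0 → π • x = 0) [CommRing C] [Algebra R C]
    [Algebra (R ⧸ Ideal.span {π ^ 2}) C] [IsScalarTower R (R ⧸ Ideal.span {π ^ 2}) C]
    [Algebra.FinitePresentation (R ⧸ Ideal.span {π ^ 2}) C]
    (g : C →ₐ[R] Λ ⧸ Ideal.span {algebraMap R Λ (π ^ 2)}) :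
    ∃ (D : Type u) (_ : CommRing D) (_ : Algebra R D), Algebra.FinitePresentation R D ∧
      ∃ (δ : D →ₐ[R] Λ) (ψ : C →ₐ[R] D ⧸ Ideal.span {algebraMap R D π}),
        (∀ (c : C) (d : D) (l : Λ), Ideal.Quotient.mk (Ideal.span {algebraMap R D π}) d = ψ c →
          Ideal.Quotient.mk (Ideal.span {algebraMap R Λ (π ^ 2)}) l = g c →
            δ d - l ∈ Ideal.span {algebraMap R Λ π}) ∧
        (∀ (Q : Ideal D) [Q.IsPrime], algebraMap R D π ∉ Q → Algebra.IsSmoothAt R Q) ∧
        (∀ (Q : Ideal (D ⧸ Ideal.span {algebraMap R D π})) [Q.IsPrime],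
          Algebra.IsSmoothAt (R ⧸ Ideal.span {π ^ 2}) (Q.comap ψ) →
            Algebra.IsSmoothAt R (Q.comap (Ideal.Quotient.mk (Ideal.span {algebraMap R D π})))) := by
  classical
  let Rb := R ⧸ Ideal.span {π ^ 2}
  obtain ⟨n, φb, hφb, ⟨s, hs⟩⟩ := Algebra.FinitePresentation.out (R := Rb) (A := C)
  let fb : Fin s.card → MvPolynomial (Fin n) Rb := fun i => (s.equivFin.symm i : _)
  have hkerb : RingHom.ker φb.toRingHom = Ideal.span (Set.range fb) := by
    have : Set.range fb = (s : Set (MvPolynomial (Fin n) Rb)) := by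
      ext x
      exact ⟨fun ⟨i, hi⟩ => hi ▸ (s.equivFin.symm i).2,
        fun hx => ⟨s.equivFin ⟨x, hx⟩, by simp [fb]⟩⟩
    rw [this]
    exact hs.symm
  let μ : MvPolynomial (Fin n) R →+* MvPolynomial (Fin n) Rb :=
    MvPolynomial.map (Ideal.Quotient.mk (Ideal.span {π ^ 2}))
  have hμ : Function.Surjective μ :=
    MvPolynomial.map_surjective _ Ideal.Quotient.mk_surjective
  choose f hf using fun i => hμ (fb i)
  let φC : MvPolynomial (Fin n) R →ₐ[R] C :=
    (φb.restrictScalars R).comp (MvPolynomial.mapAlgHom (Ideal.Quotient.mkₐ R _))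
  have hφC : ∀ x, φC x = φb (μ x) := fun _ => rfl
  have hφCs : Function.Surjective φC := fun y => by
    obtain ⟨y', rfl⟩ := hφb y
    obtain ⟨x, rfl⟩ := hμ y'
    exact ⟨x, rfl⟩
  have hf0 : ∀ j, φC (f j) = 0 := fun j => by
    have : fb j ∈ RingHom.ker φb.toRingHom := hkerb ▸ Ideal.subset_span ⟨j, rfl⟩
    rw [hφC, hf]
    exact this
  -- values in `Λ`
  choose lam hlam using fun i => Ideal.Quotient.mk_surjective (g (φC (X i)))
  have hgl : ∀ x, Ideal.Quotient.mk (Ideal.span {algebraMap R Λ (π ^ 2)}) (aeval lam x) = g (φC x) := by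
    intro x
    have : (Ideal.Quotient.mkₐ R (Ideal.span {algebraMap R Λ (π ^ 2)})).comp (aeval lam) = g.comp φC := by
      refine MvPolynomial.algHom_ext fun i => ?_
      simp only [AlgHom.comp_apply, aeval_X]
      exact hlam i
    exact AlgHom.congr_fun this x
  choose mu hmu using fun j => Ideal.mem_span_singleton'.1
    (Ideal.Quotient.eq_zero_iff_mem.1 ((hgl (f j)).trans (by rw [hf0, map_zero])))
  -- the module of relations
  let K : Submodule (MvPolynomial (Fin n) R) (Fin s.card → MvPolynomial (Fin n) R) :=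
    Submodule.comap (Fintype.linearCombination (MvPolynomial (Fin n) R) f)
      (Ideal.span {MvPolynomial.C (π ^ 2)})
  obtain ⟨q, kv, hkv⟩ := Submodule.fg_iff_exists_fin_generating_family.1 (IsNoetherian.noetherian K)
  have hkvK : ∀ l, ∑ j, kv l j * f j ∈ Ideal.span {MvPolynomial.C (π ^ 2)} := fun l => by
    have : kv l ∈ K := hkv ▸ Submodule.subset_span ⟨l, rfl⟩
    exact this
  choose hv hhv using fun l => Ideal.mem_span_singleton'.1 (hkvK l)
  have hk : ∀ l, ∑ j, kv l j * f j = MvPolynomial.C (π ^ 2) * hv l := fun l => by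
    rw [← hhv l, mul_comm]
  have hgen : ∀ (k : Fin s.card → MvPolynomial (Fin n) R) (h : MvPolynomial (Fin n) R),
      ∑ j, k j * f j = MvPolynomial.C (π ^ 2) * h → ∃ co : Fin q → MvPolynomial (Fin n) R,
        ∀ j, k j = ∑ l, co l * kv l j := by
    intro k h hkh
    have hk' : k ∈ K := by
      show ∑ j, k j * f j ∈ (Ideal.span {MvPolynomial.C (π ^ 2)} : Ideal (MvPolynomial (Fin n) R))
      rw [hkh]
      exact Ideal.mul_mem_right _ _ (Ideal.mem_span_singleton_self _)
    rw [← hkv] at hk'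
    obtain ⟨co, hco⟩ := (Submodule.mem_span_range_iff_exists_fun _).1 hk'
    refine ⟨co, fun j => ?_⟩
    rw [← hco]
    simp [Finset.sum_apply]
  let rel := liftRel π f kv hv
  let D := MvPolynomial (Fin (n + s.card)) R ⧸ Ideal.span (Set.range rel)
  let mkD : MvPolynomial (Fin (n + s.card)) R →ₐ[R] D := Ideal.Quotient.mkₐ R _
  haveI hDfp : Algebra.FinitePresentation R D :=
    Algebra.FinitePresentation.quotient ⟨Finset.univ.image rel, by simp⟩
  -- the map to `Λ`
  let δ₀ : MvPolynomial (Fin (n + s.card)) R →ₐ[R] Λ :=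
    aeval (Fin.append lam fun j => π • mu j)
  have hδι : ∀ x, δ₀ (rename (Fin.castAdd s.card) x) = aeval lam x := fun x => by
    simp only [δ₀, aeval_rename]
    congr 1
    exact congrArg aeval (funext fun i => Fin.append_left _ _ i)
  have hδz : ∀ j, δ₀ (X (Fin.natAdd n j)) = π • mu j := fun j => by simp [δ₀]
  have hδC : ∀ r, δ₀ (MvPolynomial.C r) = algebraMap R Λ r := fun r => δ₀.commutes r
  have hmu' : ∀ j, aeval lam (f j) = π • (π • mu j) := fun j => by
    rw [← hmu j, map_pow, smul_smul, ← pow_two, Algebra.smul_def, map_pow, mul_comm]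
  have hδrel : Ideal.span (Set.range rel) ≤ RingHom.ker δ₀.toRingHom := by
    rw [Ideal.span_le]
    rintro _ ⟨i, rfl⟩
    show δ₀ (rel i) = 0
    refine Fin.addCases (fun j => ?_) (fun l => ?_) i
    · simp only [rel, liftRel, Fin.append_left, map_sub, map_mul, hδι, hδz, hδC, hmu',
        Algebra.smul_def]
      ring
    · simp only [rel, liftRel, Fin.append_right, map_sub, map_mul, map_sum, hδι, hδz, hδC]
      have h2 := congrArg (aeval lam) (hk l)
      simp only [map_sum, map_mul, aeval_C, hmu'] at h2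
      have h3 : π ^ 2 • (∑ j, aeval lam (kv l j) * mu j - aeval lam (hv l)) = 0 := by
        rw [smul_sub, sub_eq_zero, Algebra.smul_def (π ^ 2) (aeval lam (hv l)), ← h2, Finset.smul_sum]
        refine Finset.sum_congr rfl fun j _ => ?_
        simp only [Algebra.smul_def, map_pow]
        ring
      have h4 := hΛ _ h3
      rw [smul_sub, Finset.smul_sum] at h4
      simp only [Algebra.smul_def] at h4 ⊢
      rw [← h4]
      congr 1
      exact Finset.sum_congr rfl fun j _ => by ring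
  let δ : D →ₐ[R] Λ := Ideal.Quotient.liftₐ _ δ₀ fun x hx => hδrel hx
  -- the map from `C`
  have hkerC : ∀ x, φC x = 0 → ∃ (c : Fin s.card → MvPolynomial (Fin n) R)
      (h : MvPolynomial (Fin n) R), x = ∑ j, c j * f j + MvPolynomial.C (π ^ 2) * h := fun x hx => by
    have h1 : μ x ∈ Ideal.span (Set.range fb) := by
      rw [← hkerb]
      exact hx
    obtain ⟨c, hc⟩ := (Submodule.mem_span_range_iff_exists_fun _).1 h1
    choose c' hc' using fun j => hμ (c j)
    obtain ⟨h, hh⟩ := eq_C_mul_of_map_eq_zero π (x - ∑ j, c' j * f j) (by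
      show μ _ = 0
      simp only [map_sub, map_sum, map_mul, hc', hf]
      rw [← hc, sub_eq_zero]
      rfl)
    exact ⟨c', h, by rw [← hh]; ring⟩
  have hED : ∀ j, mkD (rename (Fin.castAdd s.card) (f j)) =
      algebraMap R D π * mkD (X (Fin.natAdd n j)) := fun j => by
    rw [← mkD.commutes π, ← map_mul]
    exact Ideal.Quotient.eq.2 (Ideal.subset_span ⟨Fin.castAdd q j, by simp [rel, liftRel]⟩)
  obtain ⟨ψ, hψ⟩ := exists_lift_psi π f φC hφCs hkerC mkD hED
  refine ⟨D, inferInstance, inferInstance, hDfp, δ, ψ, ?_, ?_, ?_⟩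
  · intro c d l hd hl
    obtain ⟨x, rfl⟩ := hφCs c
    rw [hψ] at hd
    obtain ⟨e, he⟩ := Ideal.mem_span_singleton'.1 (Ideal.Quotient.eq.1 hd)
    rw [← hgl] at hl
    obtain ⟨b, hb⟩ := Ideal.mem_span_singleton'.1 (Ideal.Quotient.eq.1 hl)
    have h1 : δ d - aeval lam x = δ e * algebraMap R Λ π := by
      rw [← δ.commutes π, ← map_mul δ, he, map_sub δ]
      congr 1
      exact (hδι x).symm
    refine Ideal.mem_span_singleton'.2 ⟨δ e - b * algebraMap R Λ π, ?_⟩
    rw [map_pow] at hb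
    linear_combination (norm := ring) -h1 - hb
  · intro Q _ hQ
    exact isSmoothAt_lift_of_notMem π f kv hv hk Q hQ
  · intro Q _ hQ
    let Q' : Ideal D := Q.comap (Ideal.Quotient.mk (Ideal.span {algebraMap R D π}))
    haveI : Q'.IsPrime := Ideal.IsPrime.comap _
    have hπQ : algebraMap R D π ∈ Q' := by
      show Ideal.Quotient.mk _ (algebraMap R D π) ∈ Q
      rw [Ideal.Quotient.eq_zero_iff_mem.2 (Ideal.mem_span_singleton_self _)]
      exact Q.zero_mem
    haveI : (Q.comap ψ).IsPrime := Ideal.IsPrime.comap _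
    haveI := hQ
    have hkerb' : RingHom.ker φb.toRingHom = Ideal.span (Set.range fun j => μ (f j)) := by
      rw [hkerb, funext hf]
    obtain ⟨c, d, σ, cols, a, uu, w, hh, ha, hΔ, heq⟩ :=
      exists_lift_data π φb hφb f hkerb' (Q.comap ψ)
    have hiff : ∀ x, mkD (rename (Fin.castAdd s.card) x) ∈ Q' → φC x ∈ Q.comap ψ := fun x hx => by
      show ψ (φC x) ∈ Q
      rw [hψ]
      exact hx
    exact isSmoothAt_lift_of_mem hR f kv hv hk hgen Q' hπQ σ cols a
      (fun h => ha (hiff a h)) (fun h => hΔ (hiff _ h)) uu w hh heq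

end Smoothing
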