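import Groth.Prelude.Def_Smoothing
import Mathlib.RingTheory.Smooth.Locus

set_option autoImplicit false
set_option backward.isDefEq.respectTransparency false

/-! The singular ideal cuts out the non-smooth locus. -/

namespace Smoothing

universe u

variable {R A : Type u} [CommRing R] [CommRing A] [Algebra R A]

lemma isSmoothAt_of_singularIdeal_not_le {Q : Ideal A} [Q.IsPrime]
    (h : ¬ singularIdeal R A ≤ Q) : Algebra.IsSmoothAt R Q := by
  by_contra hc
  exact h fun r hr => (PrimeSpectrum.mem_vanishingIdeal _ _).1 hr ⟨Q, inferInstance⟩ hc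

lemma singularIdeal_le_iff [Algebra.FinitePresentation R A] {Q : Ideal A} [Q.IsPrime] :
    singularIdeal R A ≤ Q ↔ ¬ Algebra.IsSmoothAt R Q := by
  refine ⟨fun h => ?_, fun h => by_contra fun hc => h (isSmoothAt_of_singularIdeal_not_le hc)⟩
  have hmem : (⟨Q, inferInstance⟩ : PrimeSpectrum A) ∈ PrimeSpectrum.zeroLocus
      (singularIdeal R A : Set A) := fun x hx => h hx
  rw [singularIdeal, PrimeSpectrum.zeroLocus_vanishingIdeal_eq_closure,
    Algebra.isOpen_smoothLocus.isClosed_compl.closure_eq] at hmem
  exact hmem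

end Smoothing
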