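import Groth.Agent.Lib.Smoothing.DesingStrict
import Groth.Agent.Lib.Smoothing.LiftingMain
import Groth.Agent.Lib.Smoothing.SingularIdeal

set_option autoImplicit false
set_option backward.isDefEq.respectTransparency false

/-! The desingularization lemma applied to a lifting. -/

namespace Smoothing

universe u

lemma lifting_lemma_of_eq {R Λ C : Type u} [CommRing R] [IsNoetherianRing R] [CommRing Λ]
    [Algebra R Λ] (ρ : R) (hR : ∀ r : R, ρ ^ 2 * r = 0 → ρ * r = 0)
    (hΛ : ∀ x : Λ, ρ ^ 2 • x = 0 → ρ • x = 0) (I : Ideal R) (hI : I = Ideal.span {ρ ^ 2})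
    (J : Ideal Λ) (hJ : J = Ideal.span {algebraMap R Λ (ρ ^ 2)}) [CommRing C] [Algebra R C]
    [Algebra (R ⧸ I) C] [IsScalarTower R (R ⧸ I) C] [Algebra.FinitePresentation (R ⧸ I) C]
    (g : C →ₐ[R] Λ ⧸ J) :
    ∃ (D : Type u) (_ : CommRing D) (_ : Algebra R D), Algebra.FinitePresentation R D ∧
      ∃ (δ : D →ₐ[R] Λ) (ψ : C →ₐ[R] D ⧸ Ideal.span {algebraMap R D ρ}),
        (∀ (c : C) (d : D) (l : Λ), Ideal.Quotient.mk (Ideal.span {algebraMap R D ρ}) d = ψ c →
          Ideal.Quotient.mk J l = g c → δ d - l ∈ Ideal.span {algebraMap R Λ ρ}) ∧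
        (∀ (Q : Ideal D) [Q.IsPrime], algebraMap R D ρ ∉ Q → Algebra.IsSmoothAt R Q) ∧
        (∀ (Q : Ideal (D ⧸ Ideal.span {algebraMap R D ρ})) [Q.IsPrime],
          Algebra.IsSmoothAt (R ⧸ I) (Q.comap ψ) →
            Algebra.IsSmoothAt R (Q.comap (Ideal.Quotient.mk (Ideal.span {algebraMap R D ρ})))) := by
  subst hI hJ
  exact lifting_lemma ρ hR hΛ g

lemma ann_pow_four {R M : Type u} [CommRing R] [AddCommGroup M] [Module R M] (π : R)
    (h : ∀ x : M, π ^ 2 • x = 0 → π • x = 0) (x : M) (hx : (π ^ 4) ^ 2 • x = 0) :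
    π ^ 4 • x = 0 := by
  have key : ∀ (k : ℕ) (y : M), π ^ (k + 1) • y = 0 → π • y = 0 := fun k => by
    induction k with
    | zero => intro y hy; rwa [zero_add, pow_one] at hy
    | succ k ih =>
      intro y hy
      refine ih y ?_
      have h2 : π ^ 2 • (π ^ k • y) = 0 := by rw [smul_smul, ← pow_add, add_comm]; exact hy
      have h3 := h _ h2
      rwa [smul_smul, ← pow_succ'] at h3
  rw [← pow_mul] at hx
  rw [pow_succ, mul_smul, key 7 x hx, smul_zero]

theorem desingularize_lifting {R Λ A C : Type u} [CommRing R] [IsNoetherianRing R] [CommRing Λ]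
    [Algebra R Λ] (π : R) (hR : ∀ r : R, π ^ 2 * r = 0 → π * r = 0)
    (hΛ : ∀ x : Λ, π ^ 2 • x = 0 → π • x = 0) [CommRing A] [Algebra R A]
    (φ : A →ₐ[R] Λ)
    (hπ : IsStrictlyStandard R A (algebraMap R A π))
    [CommRing C] [Algebra R C] [Algebra (R ⧸ Ideal.span {π ^ 8}) C]
    [IsScalarTower R (R ⧸ Ideal.span {π ^ 8}) C]
    [Algebra.FinitePresentation (R ⧸ Ideal.span {π ^ 8}) C]
    (γ : A →ₐ[R] C) (g : C →ₐ[R] Λ ⧸ Ideal.span {algebraMap R Λ (π ^ 8)})
    (hfac : ∀ a : A, g (γ a) = Ideal.Quotient.mk (Ideal.span {algebraMap R Λ (π ^ 8)}) (φ a)) :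
    ∃ (B : Type u) (_ : CommRing B) (_ : Algebra R B), Algebra.FinitePresentation R B ∧
      ∃ (α : A →ₐ[R] B) (β : B →ₐ[R] Λ), β.comp α = φ ∧
        (∀ (Q : Ideal B) [Q.IsPrime], algebraMap R B π ∉ Q → Algebra.IsSmoothAt R Q) ∧
        (singularIdeal (R ⧸ Ideal.span {π ^ 8}) C).map g ≤
          ((singularIdeal R B).map β).radical.map
            (Ideal.Quotient.mk (Ideal.span {algebraMap R Λ (π ^ 8)})) := by
  have hI : Ideal.span {π ^ 8} = Ideal.span {(π ^ 4) ^ 2} := by rw [← pow_mul]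
  have hJ : Ideal.span {algebraMap R Λ (π ^ 8)} = Ideal.span {algebraMap R Λ ((π ^ 4) ^ 2)} := by
    rw [← pow_mul]
  obtain ⟨D, _, _, _, δ, ψ, hcomp, hsm, hlift⟩ := lifting_lemma_of_eq (π ^ 4)
    (fun r hr => ann_pow_four π hR r hr) (fun x hx => ann_pow_four π hΛ x hx) _ hI _ hJ g
  obtain ⟨B, _, _, _, _, hB, α, β, hαβ, hβδ, -, hsing⟩ :=
    desingularize_strictly_standard π hR hΛ φ δ hπ (ψ.comp γ)
      (fun a d hd => hcomp (γ a) d (φ a) hd (hfac a).symm)
  have hsmB : ∀ (Q : Ideal B) [Q.IsPrime], algebraMap R B π ∉ Q → Algebra.IsSmoothAt R Q := by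
    intro Q _ hQ
    refine isSmoothAt_of_singularIdeal_not_le fun hle => ?_
    have h1 : singularIdeal R D ≤ Q.comap (algebraMap D B) :=
      Ideal.map_le_iff_le_comap.1 (hsing.trans hle)
    refine (singularIdeal_le_iff (Q := Q.comap (algebraMap D B))).1 h1 (hsm _ fun h4 => hQ ?_)
    rw [map_pow] at h4
    have h6 : algebraMap R D π ∈ Q.comap (algebraMap D B) :=
      Ideal.IsPrime.mem_of_pow_mem inferInstance 4 h4
    rwa [Ideal.mem_comap, ← IsScalarTower.algebraMap_apply] at h6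
  refine ⟨B, inferInstance, inferInstance, hB, α, β, hαβ, hsmB, ?_⟩
  rw [Ideal.map_le_iff_le_comap]
  intro c hc
  obtain ⟨l, hl⟩ := Ideal.Quotient.mk_surjective (g c)
  show g c ∈ ((singularIdeal R B).map β).radical.map _
  rw [← hl]
  refine Ideal.mem_map_of_mem _ ?_
  rw [Ideal.radical_eq_sInf, Ideal.mem_sInf]
  rintro P ⟨hP, hPprime⟩
  haveI := hPprime
  have hle : singularIdeal R B ≤ P.comap β := Ideal.map_le_iff_le_comap.1 hP
  have hπP : algebraMap R Λ π ∈ P := by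
    by_contra hπP
    refine (singularIdeal_le_iff (Q := P.comap β)).1 hle (hsmB _ fun h => hπP ?_)
    rwa [Ideal.mem_comap, AlgHom.commutes] at h
  have hleD : singularIdeal R D ≤ P.comap δ := by
    refine (Ideal.map_le_iff_le_comap.1 (hsing.trans hle)).trans fun x hx => ?_
    rw [← hβδ]
    exact hx
  have hker : Ideal.span {algebraMap R D (π ^ 4)} ≤ P.comap δ := by
    rw [Ideal.span_singleton_le_iff_mem, Ideal.mem_comap, AlgHom.commutes, map_pow]
    exact P.pow_mem_of_mem hπP 4 (by norm_num)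
  let mk := Ideal.Quotient.mk (Ideal.span {algebraMap R D (π ^ 4)})
  let Q : Ideal (D ⧸ Ideal.span {algebraMap R D (π ^ 4)}) := (P.comap δ).map mk
  haveI : Q.IsPrime := Ideal.map_isPrime_of_surjective Ideal.Quotient.mk_surjective
    (by rw [Ideal.mk_ker]; exact hker)
  have hQ : Q.comap mk = P.comap δ := by
    rw [Ideal.comap_map_of_surjective _ Ideal.Quotient.mk_surjective, ← RingHom.ker_eq_comap_bot,
      Ideal.mk_ker, sup_eq_left.2 hker]
  have hcQ : ψ c ∈ Q := by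
    by_contra hcQ
    haveI : (Q.comap ψ).IsPrime := Ideal.IsPrime.comap _
    have h1 := hlift Q (isSmoothAt_of_singularIdeal_not_le fun h => hcQ (h hc))
    refine (singularIdeal_le_iff (Q := Q.comap mk)).1 ?_ h1
    rw [hQ]
    exact hleD
  obtain ⟨d, hd⟩ := Ideal.Quotient.mk_surjective (ψ c)
  have hdP : δ d ∈ P := by
    have : d ∈ Q.comap mk := by
      show mk d ∈ Q
      rw [hd]
      exact hcQ
    rwa [hQ] at this
  have h2 := hcomp c d l hd hl
  have h3 : δ d - l ∈ P := by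
    refine (Ideal.span_singleton_le_iff_mem _).2 ?_ h2
    rw [map_pow]
    exact P.pow_mem_of_mem hπP 4 (by norm_num)
  simpa using sub_mem hdP h3

end Smoothing
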