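import Groth.Agent.Lib.Smoothing.StandardAt
import Groth.Agent.S2032
import Mathlib.Logic.Equiv.Fintype
import Mathlib.RingTheory.Smooth.StandardSmoothCotangent

set_option autoImplicit false
set_option backward.isDefEq.respectTransparency false

open MvPolynomial

namespace Smoothing

universe u

variable {R A : Type u} [CommRing R] [CommRing A] [Algebra R A]

lemma exists_perm_castLE {c m : ℕ} (h : c ≤ m) (rows : Fin c ↪ Fin m) :
    ∃ π : Fin m ≃ Fin m, ∀ i, π (Fin.castLE h i) = rows i := by
  classical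
  let e : {x : Fin m // x ∈ Set.range (Fin.castLE h)} ≃ {x : Fin m // x ∈ Set.range rows} :=
    (Equiv.ofInjective _ (Fin.castLE_injective h)).symm.trans (Equiv.ofInjective _ rows.injective)
  refine ⟨e.extendSubtype, fun i => ?_⟩
  rw [Equiv.extendSubtype_apply_of_mem e _ ⟨i, rfl⟩]
  haveI : Nonempty (Fin c) := ⟨i⟩
  simp [e, Equiv.ofInjective, Function.leftInverse_invFun (Fin.castLE_injective h) i]

lemma isStrictlyStandard_of_isElementaryStandard {a : A} (h : IsElementaryStandard R A a) :
    IsStrictlyStandard R A a := by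
  obtain ⟨P, ⟨a', ha'⟩, hk⟩ := h
  exact ⟨P, ha' ▸ Ideal.mul_mem_left _ _ (Ideal.subset_span ⟨_, rfl⟩), hk⟩

/-- an element satisfying the standard conditions for any choice of rows and columns is elementary
standard -/
theorem isElementaryStandard_of_rows_cols {n m c : ℕ} (f : Fin m → MvPolynomial (Fin n) R)
    (φ : MvPolynomial (Fin n) R →ₐ[R] A) (hφ : Function.Surjective φ)
    (hker : RingHom.ker φ.toRingHom = Ideal.span (Set.range f)) (a a' : A)
    (rows : Fin c ↪ Fin m) (cols : Fin c ↪ Fin n)
    (ha : a = a' * φ (jacobianMinor f rows cols))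
    (hkill : ∀ a₁ : MvPolynomial (Fin n) R, φ a₁ = a → ∀ ℓ : Fin m, (∀ i, rows i ≠ ℓ) →
      a₁ * f ℓ ∈ Ideal.span (Set.range (f ∘ rows)) ⊔ Ideal.span (Set.range f) ^ 2) :
    IsElementaryStandard R A a := by
  have hm : c ≤ m := by simpa using Fintype.card_le_of_embedding rows
  have hn : c ≤ n := by simpa using Fintype.card_le_of_embedding cols
  obtain ⟨π, hπ⟩ := exists_perm_castLE hn cols
  obtain ⟨ρ, hρ⟩ := exists_perm_castLE hm rows
  let e : MvPolynomial (Fin n) R ≃ₐ[R] MvPolynomial (Fin n) R := renameEquiv R π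
  let P : MarkedPresentation R A :=
    { n := n
      m := m
      c := c
      hcn := hn
      hcm := hm
      rel := fun j => e.symm (f (ρ j))
      hom := φ.comp e.toAlgHom
      surj := hφ.comp e.surjective
      ker_eq := by
        show RingHom.ker (φ.toRingHom.comp e.toAlgHom.toRingHom) = _
        rw [← RingHom.comap_ker, hker]
        show (Ideal.span (Set.range f)).comap e.toRingEquiv = _
        rw [← Ideal.map_symm, Ideal.map_span, ← Set.range_comp]
        exact congrArg Ideal.span (ρ.surjective.range_comp (e.symm ∘ f)).symm }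
  refine ⟨P, ⟨a', ?_⟩, ?_⟩
  · have : jacobianMinor P.rel (Fin.castLE P.hcm) (Fin.castLE P.hcn) =
        e.symm (jacobianMinor f rows cols) := by
      rw [jacobianMinor, jacobianMinor, AlgEquiv.map_det]
      refine congrArg Matrix.det (Matrix.ext fun j k => ?_)
      show pderiv (Fin.castLE hn k) (e.symm (f (ρ (Fin.castLE hm j)))) = e.symm _
      rw [hρ]
      have h2 : π.symm (cols k) = Fin.castLE hn k := by rw [← hπ, π.symm_apply_apply]
      rw [← h2]
      exact pderiv_rename π.symm.injective _ _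
    show a = a' * φ (e (jacobianMinor P.rel (Fin.castLE P.hcm) (Fin.castLE P.hcn)))
    rw [this, e.apply_symm_apply, ha]
  · intro (a₁ : MvPolynomial (Fin n) R) ha₁ (j : Fin m) (hj : c ≤ (j : ℕ))
    have hne : ∀ i, rows i ≠ ρ j := fun i h => by
      rw [← hρ] at h
      have h3 := ρ.injective h
      have h4 : (i : ℕ) = j := congrArg Fin.val h3
      omega
    have h := Ideal.mem_map_of_mem e.symm.toAlgHom.toRingHom (hkill (e a₁) ha₁ (ρ j) hne)
    rw [Ideal.map_sup, Ideal.map_pow, Ideal.map_span, Ideal.map_span, ← Set.range_comp,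
      ← Set.range_comp] at h
    simp only [AlgHom.toRingHom_eq_coe, RingHom.coe_coe,
      AlgEquiv.coe_toAlgHom, map_mul, AlgEquiv.symm_apply_apply] at h
    show a₁ * e.symm (f (ρ j)) ∈ Ideal.span ((fun i => e.symm (f (ρ i))) '' {j' : Fin m | (j' : ℕ) < c})
      ⊔ Ideal.span (Set.range fun i => e.symm (f (ρ i))) ^ 2
    refine (SetLike.le_def.1 (sup_le_sup (α := Ideal (MvPolynomial (Fin n) R))
      (Ideal.span_mono ?_) (Ideal.pow_right_mono (Ideal.span_mono ?_) 2))) h
    · rintro _ ⟨i, rfl⟩
      exact ⟨Fin.castLE hm i, i.2, by simp [hρ]⟩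
    · rintro _ ⟨i, rfl⟩
      exact ⟨ρ.symm i, by simp⟩

/-- an elementary standard element avoiding a prime of smoothness -/
theorem exists_isElementaryStandard_notMem [Algebra.FinitePresentation R A] (q : Ideal A) [q.IsPrime]
    [Algebra.IsSmoothAt R q] : ∃ a : A, a ∉ q ∧ IsElementaryStandard R A a := by
  classical
  obtain ⟨n, φ, hφ, hfg⟩ := Algebra.FinitePresentation.out (R := R) (A := A)
  obtain ⟨s, hs⟩ := hfg
  let f : Fin s.card → MvPolynomial (Fin n) R := fun i => (s.equivFin.symm i : _)
  have hker : RingHom.ker φ.toRingHom = Ideal.span (Set.range f) := by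
    have : Set.range f = (s : Set (MvPolynomial (Fin n) R)) := by
      ext x
      exact ⟨fun ⟨i, hi⟩ => hi ▸ (s.equivFin.symm i).2, fun hx => ⟨s.equivFin ⟨x, hx⟩, by simp [f]⟩⟩
    rw [this]
    exact hs.symm
  obtain ⟨a, ha, c, rows, cols, a', ha', hk⟩ := exists_standard_element f φ hφ hker q
  exact ⟨a, ha, isElementaryStandard_of_rows_cols f φ hφ hker a a' rows cols ha'
    fun a₁ h ℓ _ => hk a₁ h ℓ⟩

theorem isSmoothAt_of_isStrictlyStandard [Algebra.FinitePresentation R A] {a : A}
    (ha : IsStrictlyStandard R A a) (q : Ideal A) [q.IsPrime] (hq : a ∉ q) :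
    Algebra.IsSmoothAt R q := by
  classical
  obtain ⟨P, hmem, hkill⟩ := ha
  have : ∃ cols : Fin P.c → Fin P.n,
      P.hom (jacobianMinor P.rel (Fin.castLE P.hcm) cols) ∉ q := by
    by_contra! hc
    exact hq (Ideal.span_le.2 (by rintro _ ⟨cols, rfl⟩; exact hc cols) hmem)
  obtain ⟨cols, hcols⟩ := this
  have hinj : Function.Injective cols := by
    intro i j hij
    by_contra hne
    apply hcols
    have : jacobianMinor P.rel (Fin.castLE P.hcm) cols = 0 :=
      Matrix.det_zero_of_column_eq hne fun k => by simp [hij]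
    rw [this, map_zero]
    exact q.zero_mem
  let b := a * P.hom (jacobianMinor P.rel (Fin.castLE P.hcm) cols)
  have hb : b ∉ q := fun h => (‹q.IsPrime›.mem_or_mem h).elim hq hcols
  have hst : IsElementaryStandard R A b := by
    refine isElementaryStandard_of_rows_cols P.rel P.hom P.surj P.ker_eq b a
      (Fin.castLEEmb P.hcm) ⟨cols, hinj⟩ rfl fun a₁ ha₁ ℓ hℓ => ?_
    obtain ⟨a₀, ha₀⟩ := P.surj a
    have hge : P.c ≤ (ℓ : ℕ) := by
      by_contra! hlt
      exact hℓ ⟨ℓ, hlt⟩ rfl
    have h1 := hkill a₀ ha₀ ℓ hge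
    have h2 : a₁ - jacobianMinor P.rel (Fin.castLE P.hcm) cols * a₀ ∈ Ideal.span (Set.range P.rel) := by
      rw [← P.ker_eq, RingHom.mem_ker]
      show P.hom _ = 0
      rw [map_sub, map_mul, ha₁, ha₀, mul_comm, sub_self]
    have : a₁ * P.rel ℓ = (a₁ - jacobianMinor P.rel (Fin.castLE P.hcm) cols * a₀) * P.rel ℓ +
        jacobianMinor P.rel (Fin.castLE P.hcm) cols * (a₀ * P.rel ℓ) := by ring
    rw [this]
    refine add_mem (Ideal.mem_sup_right ?_) ?_
    · rw [pow_two]
      exact Ideal.mul_mem_mul h2 (Ideal.subset_span ⟨ℓ, rfl⟩)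
    refine (SetLike.le_def.1 (sup_le_sup_right (α := Ideal (MvPolynomial (Fin P.n) R))
      (Ideal.span_mono ?_) _)) (Ideal.mul_mem_left _ _ h1)
    rintro _ ⟨j, hj, rfl⟩
    exact ⟨⟨j, hj⟩, rfl⟩
  haveI : Algebra.IsStandardSmooth R (Localization.Away b) := Groth.Agent.S2032.result b hst
  haveI : Algebra.Smooth R (Localization.Away b) := inferInstance
  exact (Algebra.basicOpen_subset_smoothLocus_iff_smooth (R := R) (f := b)).2 inferInstance
    (show (⟨q, inferInstance⟩ : PrimeSpectrum A) ∈ PrimeSpectrum.basicOpen b from hb)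

theorem singularIdeal_eq [Algebra.FinitePresentation R A] :
    singularIdeal R A = (Ideal.span {a : A | IsStrictlyStandard R A a}).radical ∧
      singularIdeal R A = (Ideal.span {a : A | IsElementaryStandard R A a}).radical := by
  have h1 : (Ideal.span {a : A | IsStrictlyStandard R A a}).radical ≤ singularIdeal R A := by
    have hrad : (singularIdeal R A).IsRadical := by
      rintro x ⟨k, hk⟩
      rw [singularIdeal, PrimeSpectrum.mem_vanishingIdeal] at hk ⊢
      exact fun p hp => p.2.mem_of_pow_mem k (hk p hp)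
    rw [Ideal.IsRadical.radical_le_iff hrad, Ideal.span_le]
    intro a ha
    show a ∈ singularIdeal R A
    rw [singularIdeal, PrimeSpectrum.mem_vanishingIdeal]
    intro p hp
    by_contra hc
    exact hp (isSmoothAt_of_isStrictlyStandard ha p.asIdeal hc)
  have h2 : singularIdeal R A ≤ (Ideal.span {a : A | IsElementaryStandard R A a}).radical := by
    rw [← PrimeSpectrum.vanishingIdeal_zeroLocus_eq_radical]
    refine PrimeSpectrum.vanishingIdeal_anti_mono fun p hp hs => ?_
    haveI : Algebra.IsSmoothAt R p.asIdeal := hs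
    obtain ⟨a, ha, hst⟩ := exists_isElementaryStandard_notMem (R := R) p.asIdeal
    exact ha (hp (Ideal.subset_span hst))
  have h3 : (Ideal.span {a : A | IsElementaryStandard R A a}).radical ≤
      (Ideal.span {a : A | IsStrictlyStandard R A a}).radical :=
    Ideal.radical_mono (Ideal.span_mono fun a ha => isStrictlyStandard_of_isElementaryStandard ha)
  exact ⟨le_antisymm (h2.trans h3) h1, le_antisymm h2 (h3.trans h1)⟩

end Smoothing
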