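import Groth.Agent.Lib.Smoothing.WeakDelocalize
import Mathlib.RingTheory.Ideal.MinimalPrime.Localization
import Mathlib.RingTheory.KrullDimension.Zero

set_option autoImplicit false
set_option backward.isDefEq.respectTransparency false

/-! Delocalizing a resolution. -/

open scoped TensorProduct

namespace Smoothing

universe u

variable {R A Λ Rₚ Λq : Type u} [CommRing R] [IsNoetherianRing R] [CommRing A]
  [Algebra R A] [Algebra.FinitePresentation R A] [CommRing Λ] [Algebra R Λ] (φ : A →ₐ[R] Λ)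
  (𝔮 : Ideal Λ) [𝔮.IsPrime]
  [CommRing Rₚ] [Algebra R Rₚ] [IsLocalization.AtPrime Rₚ (𝔮.comap (algebraMap R Λ))]
  [CommRing Λq] [Algebra Λ Λq] [IsLocalization.AtPrime Λq 𝔮] [Algebra R Λq] [IsScalarTower R Λ Λq]
  [Algebra Rₚ Λq] [IsScalarTower R Rₚ Λq]

/-- a resolution of the localized problem gives a formally smooth algebra -/
lemma exists_formallySmooth_of_resolvable (ψ : Rₚ ⊗[R] A →ₐ[Rₚ] Λq)
    (hψ : ∀ a, ψ (1 ⊗ₜ a) = algebraMap Λ Λq (φ a))
    (hres : Resolvable Rₚ ψ (𝔮.map (algebraMap Λ Λq))) :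
    ∃ (B : Type u) (_ : CommRing B) (_ : Algebra R B) (_ : Algebra Rₚ B) (_ : IsScalarTower R Rₚ B),
      Algebra.FiniteType Rₚ B ∧ Algebra.FormallySmooth R B ∧
        ∃ (g : A →ₐ[R] B) (h : B →ₐ[R] Λq), ∀ a, h (g a) = algebraMap Λ Λq (φ a) := by
  obtain ⟨B, _, _, hB, g, h, hgh, -, hne⟩ := hres
  haveI : IsLocalRing Λq := IsLocalization.AtPrime.isLocalRing Λq 𝔮
  have hmax : 𝔮.map (algebraMap Λ Λq) = IsLocalRing.maximalIdeal Λq :=
    IsLocalization.AtPrime.map_eq_maximalIdeal 𝔮 Λq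
  have hb : ∃ b ∈ singularIdeal Rₚ B, IsUnit (h b) := by
    by_contra! hc
    refine hne ?_
    rw [hmax, singRad, Ideal.IsRadical.radical_le_iff (IsLocalRing.maximalIdeal.isMaximal _).isPrime.isRadical,
      Ideal.map_le_iff_le_comap]
    exact fun b hb => hc b hb
  obtain ⟨b, hb, hbu⟩ := hb
  haveI := hB
  let Bb := Localization.Away b
  haveI : Algebra.Smooth Rₚ Bb := Algebra.basicOpen_subset_smoothLocus_iff_smooth.1 fun p hp => by
    by_contra hc
    rw [singularIdeal, PrimeSpectrum.mem_vanishingIdeal] at hb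
    exact hp (hb p hc)
  letI : Algebra R Bb := ((algebraMap Rₚ Bb).comp (algebraMap R Rₚ)).toAlgebra
  haveI : IsScalarTower R Rₚ Bb := IsScalarTower.of_algebraMap_eq fun _ => rfl
  haveI : Algebra.FormallySmooth R Rₚ :=
    Algebra.FormallySmooth.of_isLocalization (𝔮.comap (algebraMap R Λ)).primeCompl
  let h' : Bb →ₐ[Rₚ] Λq := AlgHom.mk (IsLocalization.Away.lift b hbu) fun r => by
    show IsLocalization.Away.lift b hbu (algebraMap Rₚ Bb r) = _
    rw [IsScalarTower.algebraMap_apply Rₚ B Bb, IsLocalization.Away.lift_eq]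
    exact h.commutes r
  refine ⟨Bb, inferInstance, inferInstance, inferInstance, inferInstance, inferInstance,
    Algebra.FormallySmooth.comp R Rₚ Bb,
    (((IsScalarTower.toAlgHom Rₚ B Bb).comp g).restrictScalars R).comp
      Algebra.TensorProduct.includeRight, h'.restrictScalars R, fun a => ?_⟩
  show IsLocalization.Away.lift b hbu (algebraMap B Bb (g (1 ⊗ₜ a))) = _
  rw [IsLocalization.Away.lift_eq, ← hψ]
  exact AlgHom.congr_fun hgh _

theorem delocalize_weak
    (hres : Resolvable Rₚ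
      (Algebra.TensorProduct.lift (Algebra.ofId Rₚ Λq) ((IsScalarTower.toAlgHom R Λ Λq).comp φ)
        (fun _ _ => Commute.all _ _) : Rₚ ⊗[R] A →ₐ[Rₚ] Λq) (𝔮.map (algebraMap Λ Λq))) :
    ∃ (C : Type u) (_ : CommRing C) (_ : Algebra R C), Algebra.FinitePresentation R C ∧
      ∃ (g : A →ₐ[R] C) (h : C →ₐ[R] Λ), h.comp g = φ ∧ ¬ (singularIdeal R C).map h ≤ 𝔮 := by
  obtain ⟨B, _, _, _, _, _, _, g, h, hgh⟩ :=
    exists_formallySmooth_of_resolvable φ 𝔮 _ (fun a => by simp) hres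
  obtain ⟨C, _, _, hC, γ, χ, hχ, hsm, -⟩ := weak_delocalize φ 𝔮 Rₚ
    (𝔮.comap (algebraMap R Λ)).primeCompl g h hgh (fun s hs => hs) (ι := Empty) Empty.elim
    (fun i => i.elim)
  haveI := hC
  refine ⟨C, inferInstance, inferInstance, hC, γ, χ, hχ, fun hle => ?_⟩
  haveI : (𝔮.comap χ).IsPrime := Ideal.IsPrime.comap _
  exact singularIdeal_le_iff.1 (Ideal.map_le_iff_le_comap.1 hle) hsm

theorem resolvable_of_dim_zero (hmin : 𝔮 ∈ (singRad R φ).minimalPrimes)
    (hdim : ringKrullDim Λq = 0)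
    (hres : Resolvable Rₚ
      (Algebra.TensorProduct.lift (Algebra.ofId Rₚ Λq) ((IsScalarTower.toAlgHom R Λ Λq).comp φ)
        (fun _ _ => Commute.all _ _) : Rₚ ⊗[R] A →ₐ[Rₚ] Λq) (𝔮.map (algebraMap Λ Λq))) :
    Resolvable R φ 𝔮 := by
  obtain ⟨B, _, _, _, _, _, _, g, h, hgh⟩ :=
    exists_formallySmooth_of_resolvable φ 𝔮 _ (fun a => by simp) hres
  haveI : IsNoetherianRing A := Algebra.FiniteType.isNoetherianRing R A
  obtain ⟨k, a, ha⟩ := Submodule.fg_iff_exists_fin_generating_family.1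
    (IsNoetherian.noetherian (singularIdeal R A))
  haveI : Ring.KrullDimLE 0 Λq := Ring.krullDimLE_iff.2 hdim.le
  haveI : IsLocalRing Λq := IsLocalization.AtPrime.isLocalRing Λq 𝔮
  have hnil : ∀ i, IsNilpotent (algebraMap Λ Λq (φ (a i))) := fun i => by
    rw [Ring.KrullDimLE.isNilpotent_iff_mem_maximalIdeal]
    refine (IsLocalization.AtPrime.map_eq_maximalIdeal 𝔮 Λq).le (Ideal.mem_map_of_mem _ ?_)
    exact hmin.1.2 (Ideal.le_radical (Ideal.mem_map_of_mem φ (ha ▸ Submodule.subset_span ⟨i, rfl⟩)))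
  choose N hN using hnil
  obtain ⟨C, _, _, hC, γ, χ, hχ, hsm, hsm'⟩ := weak_delocalize φ 𝔮 Rₚ
    (𝔮.comap (algebraMap R Λ)).primeCompl g h hgh (fun s hs => hs) (ι := Fin k)
    (fun i => φ (a i) ^ (N i + 1))
    (fun i => by rw [map_pow, pow_succ, hN, zero_mul])
  haveI := hC
  refine ⟨C, inferInstance, inferInstance, hC, γ, χ, hχ, ?_, fun hle => ?_⟩
  · rw [show singRad R φ = ((singularIdeal R A).map φ).radical from rfl,
      Ideal.IsRadical.radical_le_iff (show (singRad R χ).IsRadical from Ideal.radical_isRadical _),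
      Ideal.map_le_iff_le_comap,
      ← ha, Submodule.span_le]
    rintro _ ⟨i, rfl⟩
    show φ (a i) ∈ singRad R χ
    rw [singRad, Ideal.radical_eq_sInf, Ideal.mem_sInf]
    rintro Q ⟨hQ, hQp⟩
    haveI := hQp
    by_contra hi
    haveI : (Q.comap χ).IsPrime := Ideal.IsPrime.comap _
    refine singularIdeal_le_iff.1 (Ideal.map_le_iff_le_comap.1 hQ)
      (hsm' Q ⟨i, fun hm => hi (hQp.mem_of_pow_mem _ hm)⟩ ?_)
    haveI : (Q.comap φ).IsPrime := Ideal.IsPrime.comap _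
    exact isSmoothAt_of_singularIdeal_not_le fun hA => hi (hA (ha ▸ Submodule.subset_span ⟨i, rfl⟩))
  · haveI : (𝔮.comap χ).IsPrime := Ideal.IsPrime.comap _
    exact singularIdeal_le_iff.1 ((Ideal.map_le_iff_le_comap.1 (Ideal.le_radical.trans hle))) hsm

end Smoothing
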