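import Groth.Prelude.Def_Smoothing
import Mathlib.RingTheory.Etale.Kaehler
import Mathlib.LinearAlgebra.Pi

set_option autoImplicit false
set_option backward.isDefEq.respectTransparency false

open MvPolynomial

namespace Smoothing

universe u

variable {R S : Type u} [CommRing R] [CommRing S] [Algebra R S] {n : ℕ}

/-- the gradient of a polynomial, evaluated through `ψ`, as a linear map -/
noncomputable def grad (ψ : MvPolynomial (Fin n) R →ₐ[R] S) :
    MvPolynomial (Fin n) R →ₗ[R] (Fin n → S) :=
  LinearMap.pi fun k => ψ.toLinearMap ∘ₗ (pderiv k).toLinearMap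

variable (ψ : MvPolynomial (Fin n) R →ₐ[R] S)

@[simp] lemma grad_apply (x : MvPolynomial (Fin n) R) (k : Fin n) : grad ψ x k = ψ (pderiv k x) := rfl

lemma grad_mul (x y : MvPolynomial (Fin n) R) :
    grad ψ (x * y) = ψ x • grad ψ y + ψ y • grad ψ x := by
  funext k
  simp

@[simp] lemma grad_algebraMap (r : R) : grad ψ (algebraMap R _ r) = 0 := by
  funext k
  simp [MvPolynomial.algebraMap_eq]

lemma grad_X (i : Fin n) : grad ψ (X i) = Pi.single i 1 := by
  classical
  funext k
  by_cases h : i = k
  · subst h; simp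
  · simp [pderiv_X, h, Ne.symm h]

lemma grad_eq_zero_of_mem_sq (I : Ideal (MvPolynomial (Fin n) R)) (hI : ∀ x ∈ I, ψ x = 0)
    {x : MvPolynomial (Fin n) R} (hx : x ∈ I ^ 2) : grad ψ x = 0 := by
  rw [pow_two] at hx
  refine Submodule.mul_induction_on hx (fun u hu v hv => ?_) (fun u v hu hv => ?_)
  · rw [grad_mul, hI u hu, hI v hv]
    simp
  · rw [map_add, hu, hv, add_zero]

/-- A projection on `Sⁿ` killing the gradients of the relations splits the presentation of the
module of differentials. -/
theorem kaehler_split {A : Type u} [CommRing A] [Algebra R A] [Algebra A S] [IsScalarTower R A S]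
    (M : Submonoid A) [IsLocalization M S] (φ : MvPolynomial (Fin n) R →ₐ[R] A)
    (hφ : Function.Surjective φ) (π : (Fin n → S) →ₗ[S] (Fin n → S))
    (hπ : ∀ x, φ x = 0 → π (grad ((IsScalarTower.toAlgHom R A S).comp φ) x) = 0)
    (hπ' : ∀ (v : Fin n → S) (G : (Fin n → S) →ₗ[S] Ω[S⁄R]),
      (∀ x, φ x = 0 → G (grad ((IsScalarTower.toAlgHom R A S).comp φ) x) = 0) → G (π v) = G v) :
    ∃ (Θ : Ω[S⁄R] →ₗ[S] (Fin n → S)) (G : (Fin n → S) →ₗ[S] Ω[S⁄R]),
      (∀ ω, G (Θ ω) = ω) ∧ (∀ v, Θ (G v) = π v) ∧
      (∀ x, φ x = 0 → G (grad ((IsScalarTower.toAlgHom R A S).comp φ) x) = 0) ∧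
      (∀ k, G (Pi.single k 1) = KaehlerDifferential.D R S (algebraMap A S (φ (X k)))) := by
  classical
  let χ : MvPolynomial (Fin n) R →ₐ[R] S := (IsScalarTower.toAlgHom R A S).comp φ
  let g : A → MvPolynomial (Fin n) R := Function.surjInv hφ
  have hg : ∀ x, φ (g x) = x := Function.surjInv_eq hφ
  let D₀ : MvPolynomial (Fin n) R → (Fin n → S) := fun p => π (grad χ p)
  have hD : ∀ x y, φ x = φ y → D₀ x = D₀ y := fun x y h => by
    rw [← sub_eq_zero]
    show π (grad χ x) - π (grad χ y) = 0
    rw [← map_sub, ← map_sub]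
    exact hπ _ (by rw [map_sub, h, sub_self])
  have hχ : ∀ x, χ x = algebraMap A S (φ x) := fun _ => rfl
  let DA : Derivation R A (Fin n → S) :=
    { toFun := fun x => D₀ (g x)
      map_add' := fun x y => by
        rw [hD (g (x + y)) (g x + g y) (by simp [hg])]
        simp [D₀]
      map_smul' := fun r x => by
        rw [hD (g (r • x)) (r • g x) (by simp [hg]), RingHom.id_apply]
        show π (grad χ (r • g x)) = r • π (grad χ (g x))
        rw [map_smul, ← algebraMap_smul S r (grad χ (g x)), map_smul, algebraMap_smul]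
      map_one_eq_zero' := by
        show D₀ (g 1) = 0
        rw [hD (g 1) 1 (by simp [hg])]
        show π (grad χ 1) = 0
        rw [← map_one (algebraMap R (MvPolynomial (Fin n) R)), grad_algebraMap, map_zero]
      leibniz' := fun x y => by
        show D₀ (g (x * y)) = x • D₀ (g y) + y • D₀ (g x)
        rw [hD (g (x * y)) (g x * g y) (by simp [hg])]
        show π (grad χ (g x * g y)) = _
        rw [grad_mul, map_add, map_smul, map_smul, hχ, hχ, hg, hg, algebraMap_smul, algebraMap_smul] }
  let kmap := KaehlerDifferential.map R R A S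
  have hloc : IsLocalizedModule M kmap := KaehlerDifferential.isLocalizedModule_map R A S M
  have hunit : ∀ s : M, IsUnit (algebraMap A (Module.End A (Fin n → S)) s) := fun s => by
    rw [Module.End.isUnit_iff]
    have hs : IsUnit (algebraMap A S s) := IsLocalization.map_units S s
    constructor
    · intro v w h
      have h' : algebraMap A S (s : A) • v = algebraMap A S (s : A) • w := by
        rw [algebraMap_smul, algebraMap_smul]; exact h
      exact hs.smul_left_cancel.1 h'
    · intro v
      refine ⟨(↑hs.unit⁻¹ : S) • v, ?_⟩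
      show (s : A) • ((↑hs.unit⁻¹ : S) • v) = v
      rw [← algebraMap_smul S (s : A), smul_smul, IsUnit.mul_val_inv, one_smul]
  let Θ₀ : Ω[S⁄R] →ₗ[A] (Fin n → S) :=
    IsLocalizedModule.lift M kmap DA.liftKaehlerDifferential hunit
  let Θ : Ω[S⁄R] →ₗ[S] (Fin n → S) := Θ₀.extendScalarsOfIsLocalization M S
  have hΘ : ∀ x : A, Θ (KaehlerDifferential.D R S (algebraMap A S x)) = D₀ (g x) := fun x => by
    show Θ₀ _ = _
    rw [← KaehlerDifferential.map_D R R A S x]
    have := LinearMap.congr_fun
      (IsLocalizedModule.lift_comp M kmap DA.liftKaehlerDifferential hunit)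
      (KaehlerDifferential.D R A x)
    rw [LinearMap.comp_apply, Derivation.liftKaehlerDifferential_comp_D] at this
    exact this
  let d : Fin n → Ω[S⁄R] := fun k => KaehlerDifferential.D R S (χ (X k))
  let G : (Fin n → S) →ₗ[S] Ω[S⁄R] := Fintype.linearCombination S d
  have hG : ∀ p, G (grad χ p) = KaehlerDifferential.D R S (χ p) := by
    intro p
    induction p using MvPolynomial.induction_on with
    | C r =>
      rw [← MvPolynomial.algebraMap_eq, χ.commutes, Derivation.map_algebraMap, grad_algebraMap,
        map_zero]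
    | add p q hp hq => rw [map_add, map_add, map_add, map_add, ← hp, ← hq]
    | mul_X p i hp =>
      rw [grad_mul, map_add, map_smul, map_smul, grad_X, hp, map_mul, Derivation.leibniz]
      congr 1
      rw [show G (Pi.single i 1) = (1 : S) • d i from Fintype.linearCombination_apply_single S d i 1,
        one_smul]
  have hG0 : ∀ x, φ x = 0 → G (grad χ x) = 0 := fun x hx => by
    rw [hG, hχ, hx, map_zero, map_zero]
  refine ⟨Θ, G, ?_, ?_, hG0, fun k => by
    rw [show G (Pi.single k 1) = (1 : S) • d k from Fintype.linearCombination_apply_single S d k 1,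
      one_smul]
    rfl⟩
  · have : G ∘ₗ Θ = LinearMap.id := by
      refine LinearMap.restrictScalars_injective A ?_
      refine IsLocalizedModule.ext M kmap (fun s => IsLocalizedModule.map_units kmap s) ?_
      refine Derivation.liftKaehlerDifferential_unique _ _ (Derivation.ext fun x => ?_)
      show G (Θ (kmap (KaehlerDifferential.D R A x))) = kmap (KaehlerDifferential.D R A x)
      rw [KaehlerDifferential.map_D, hΘ]
      show G (π (grad χ (g x))) = _
      rw [hπ' _ G hG0, hG, hχ, hg]
    exact LinearMap.congr_fun this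
  · intro v
    rw [pi_eq_sum_univ v, map_sum, map_sum, map_sum]
    refine Finset.sum_congr rfl fun k _ => ?_
    rw [map_smul, map_smul, map_smul]
    have he : (fun j => if k = j then (1 : S) else 0) = Pi.single k 1 := by
      funext j
      simp [Pi.single_apply, eq_comm]
    rw [he, show G (Pi.single k 1) = (1 : S) • d k from Fintype.linearCombination_apply_single S d k 1,
      one_smul]
    show _ • Θ (KaehlerDifferential.D R S (algebraMap A S (φ (X k)))) = _
    rw [hΘ, hD (g (φ (X k))) (X k) (hg _)]
    show _ • π (grad χ (X k)) = _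
    rw [grad_X]

end Smoothing
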