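import Groth.Agent.Lib.Smoothing.Standard
import Groth.Agent.Lib.Smoothing.Gradient
import Mathlib.RingTheory.Smooth.Flat
import Mathlib.RingTheory.Flat.EquationalCriterion
import Mathlib.RingTheory.Polynomial.Basic
import Mathlib.LinearAlgebra.Matrix.Adjugate

set_option autoImplicit false
set_option backward.isDefEq.respectTransparency false

/-! The lifting lemma. -/

open MvPolynomial

namespace Smoothing

universe u

/-- the annihilator condition passes to flat modules -/
lemma ann_eq_of_flat {R M : Type*} [CommRing R] [AddCommGroup M] [Module R M] [Module.Flat R M]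
    (π : R) (hR : ∀ r : R, π ^ 2 * r = 0 → π * r = 0) (y : M) (hy : π ^ 2 • y = 0) : π • y = 0 := by
  obtain ⟨k, a, z, hz, ha⟩ := Module.Flat.isTrivialRelation_of_sum_smul_eq_zero
    (f := fun _ : Unit => π ^ 2) (x := fun _ : Unit => y) (by simpa using hy)
  have hy2 : y = ∑ j, a () j • z j := hz ()
  rw [hy2, Finset.smul_sum]
  refine Finset.sum_eq_zero fun j _ => ?_
  have : π ^ 2 * a () j = 0 := by simpa using ha j
  rw [smul_smul, hR _ this, zero_smul]

/-- the annihilator condition for polynomial rings -/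
lemma ann_eq_mvPolynomial {R : Type*} [CommRing R] {σ : Type*} (π : R)
    (hR : ∀ r : R, π ^ 2 * r = 0 → π * r = 0) (p : MvPolynomial σ R)
    (hp : MvPolynomial.C (π ^ 2) * p = 0) : MvPolynomial.C π * p = 0 := by
  ext m
  have := congrArg (MvPolynomial.coeff m) hp
  rw [MvPolynomial.coeff_C_mul, MvPolynomial.coeff_zero] at this
  rw [MvPolynomial.coeff_C_mul, MvPolynomial.coeff_zero, hR _ this]

/-- Nakayama with a scalar -/
lemma eq_zero_of_mul_eq_sum_maximal {L : Type*} [CommRing L] [IsLocalRing L] {ι : Type*} [Fintype ι]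
    (a : L) (ha : IsUnit a) (E : ι → L) (M : ι → ι → L)
    (hM : ∀ i j, M i j ∈ IsLocalRing.maximalIdeal L) (h : ∀ i, a * E i = ∑ j, M i j * E j) :
    ∀ i, E i = 0 := by
  classical
  have hle : Ideal.span (Set.range E) ≤ IsLocalRing.maximalIdeal L • Ideal.span (Set.range E) := by
    rw [Ideal.span_le]
    rintro _ ⟨i, rfl⟩
    refine (Ideal.unit_mul_mem_iff_mem _ ha).1 ?_
    rw [h i]
    exact Submodule.sum_mem _ fun j _ =>
      Submodule.smul_mem_smul (hM i j) (Ideal.subset_span ⟨j, rfl⟩)
  have h0 : Ideal.span (Set.range E) ≤ ⊥ :=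
    (Submodule.eq_bot_of_le_smul_of_le_jacobson_bot _ _ ⟨Finset.univ.image E, by simp⟩ hle
      (by rw [IsLocalRing.jacobson_eq_maximalIdeal _ bot_ne_top])).le
  exact fun i => h0 (Ideal.subset_span ⟨i, rfl⟩)

variable {R : Type u} [CommRing R] {n m q : ℕ}

/-- the presentation defining the lift -/
noncomputable def liftRel (π : R) (f : Fin m → MvPolynomial (Fin n) R)
    (kv : Fin q → Fin m → MvPolynomial (Fin n) R) (hv : Fin q → MvPolynomial (Fin n) R) :
    Fin (m + q) → MvPolynomial (Fin (n + m)) R :=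
  Fin.append (fun j => rename (Fin.castAdd m) (f j) - MvPolynomial.C π * X (Fin.natAdd n j))
    fun l => ∑ j, rename (Fin.castAdd m) (kv l j) * X (Fin.natAdd n j) -
      MvPolynomial.C π * rename (Fin.castAdd m) (hv l)

lemma pderiv_natAdd_rename (p : MvPolynomial (Fin n) R) (j : Fin m) :
    pderiv (Fin.natAdd n j) (rename (Fin.castAdd m) p) = 0 := by
  induction p using MvPolynomial.induction_on with
  | C r => simp
  | add a b ha hb => simp [ha, hb]
  | mul_X a i ha =>
    have hne : Fin.castAdd m i ≠ Fin.natAdd n j := fun h => by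
      have h1 := congrArg Fin.val h
      simp at h1
      omega
    simp [pderiv_mul, ha, pderiv_X_of_ne hne]

theorem isSmoothAt_lift_of_notMem (π : R) (f : Fin m → MvPolynomial (Fin n) R)
    (kv : Fin q → Fin m → MvPolynomial (Fin n) R) (hv : Fin q → MvPolynomial (Fin n) R)
    (hk : ∀ l, ∑ j, kv l j * f j = MvPolynomial.C (π ^ 2) * hv l)
    (Q : Ideal (MvPolynomial (Fin (n + m)) R ⧸ Ideal.span (Set.range (liftRel π f kv hv))))
    [Q.IsPrime] (hπ : algebraMap R _ π ∉ Q) : Algebra.IsSmoothAt R Q := by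
  classical
  let D := MvPolynomial (Fin (n + m)) R ⧸ Ideal.span (Set.range (liftRel π f kv hv))
  let mk : MvPolynomial (Fin (n + m)) R →ₐ[R] D := Ideal.Quotient.mkₐ R _
  haveI : Algebra.FinitePresentation R D :=
    Algebra.FinitePresentation.quotient ⟨Finset.univ.image (liftRel π f kv hv), by simp⟩
  have hmem : algebraMap R D π ^ (m + 1) ∉ Q := fun h =>
    hπ (‹Q.IsPrime›.mem_of_pow_mem _ h)
  refine isSmoothAt_of_isStrictlyStandard (a := algebraMap R D π ^ (m + 1))
    (isStrictlyStandard_of_isElementaryStandard ?_) Q hmem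
  refine isElementaryStandard_of_rows_cols (liftRel π f kv hv) mk Ideal.Quotient.mk_surjective
    Ideal.mk_ker _ (mk (MvPolynomial.C π * (-1) ^ m)) (Fin.castAddEmb q)
    ⟨Fin.natAdd n, Fin.natAdd_injective m n⟩ ?_ fun a₁ ha₁ ℓ hℓ => ?_
  · have : jacobianMinor (liftRel π f kv hv) (Fin.castAddEmb q) (Fin.natAdd n) =
        (-MvPolynomial.C π) ^ m := by
      rw [jacobianMinor]
      have : (Matrix.of fun j k : Fin m =>
          pderiv (Fin.natAdd n k) (liftRel π f kv hv (Fin.castAddEmb q j))) =
          Matrix.diagonal fun _ => -MvPolynomial.C π := by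
        refine Matrix.ext fun j k => ?_
        simp only [Matrix.of_apply, liftRel, Fin.castAddEmb_apply, Fin.append_left, map_sub,
          pderiv_natAdd_rename, pderiv_C_mul, zero_sub]
        by_cases hjk : j = k
        · subst hjk; simp [MvPolynomial.C_mul']
        · have hne : Fin.natAdd n j ≠ Fin.natAdd n k := fun h => hjk (Fin.natAdd_injective m n h)
          simp [hjk, pderiv_X_of_ne hne]
      rw [this, Matrix.det_diagonal, Finset.prod_const, Finset.card_univ, Fintype.card_fin]
    show _ = _ * mk (jacobianMinor (liftRel π f kv hv) (Fin.castAddEmb q) (Fin.natAdd n))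
    rw [this, ← map_mul, ← map_pow, ← mk.commutes, MvPolynomial.algebraMap_eq]
    congr 1
    rw [map_pow, mul_assoc, ← mul_pow, neg_one_mul, neg_neg, pow_succ']
  · revert hℓ
    refine Fin.addCases (fun i => ?_) (fun l => ?_) ℓ
    · intro hℓ
      exact absurd rfl (hℓ i)
    · intro _
      let rel := liftRel π f kv hv
      have hG : MvPolynomial.C π * rel (Fin.natAdd m l) ∈
          Ideal.span (Set.range (rel ∘ Fin.castAddEmb q)) := by
        have : MvPolynomial.C π * rel (Fin.natAdd m l) =
            -∑ j, rename (Fin.castAdd m) (kv l j) * rel (Fin.castAddEmb q j) := by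
          have hk' := congrArg (rename (Fin.castAdd m : Fin n → Fin (n + m))) (hk l)
          simp only [map_sum, map_mul, rename_C, map_pow] at hk'
          simp only [rel, liftRel, Fin.castAddEmb_apply, Fin.append_left, Fin.append_right, mul_sub,
            Finset.sum_sub_distrib, hk', Finset.mul_sum, neg_sub]
          congr 1
          · exact Finset.sum_congr rfl fun j _ => by ring
          · ring
        rw [this]
        exact neg_mem (Submodule.sum_mem _ fun j _ =>
          Ideal.mul_mem_left _ _ (Ideal.subset_span ⟨j, rfl⟩))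
      have h1 : a₁ - MvPolynomial.C π ^ (m + 1) ∈ Ideal.span (Set.range rel) :=
        Ideal.Quotient.eq.1 (ha₁.trans (by
          show algebraMap R D π ^ (m + 1) = mk (MvPolynomial.C π ^ (m + 1))
          rw [map_pow mk, ← MvPolynomial.algebraMap_eq, mk.commutes]))
      have : a₁ * rel (Fin.natAdd m l) = (a₁ - MvPolynomial.C π ^ (m + 1)) * rel (Fin.natAdd m l) +
          MvPolynomial.C π ^ m * (MvPolynomial.C π * rel (Fin.natAdd m l)) := by ring
      rw [this]
      refine add_mem (Ideal.mem_sup_right ?_) (Ideal.mem_sup_left (Ideal.mul_mem_left _ _ hG))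
      rw [pow_two]
      exact Ideal.mul_mem_mul h1 (Ideal.subset_span ⟨_, rfl⟩)

lemma sum_ite_fiber {ι κ M : Type*} [Fintype ι] [Fintype κ] [DecidableEq ι] [AddCommMonoid M]
    (g : κ → ι) (F : κ → ι → M) :
    ∑ x, ∑ i, (if g i = x then F i x else 0) = ∑ i, F i (g i) := by
  rw [Finset.sum_comm]
  simp

lemma sum_split {ι c d M : Type*} [Fintype ι] [Fintype c] [Fintype d] [AddCommMonoid M]
    (σ : c ⊕ d ≃ ι) (g : ι → M) :
    ∑ j, g j = ∑ i, g (σ (Sum.inl i)) + ∑ l, g (σ (Sum.inr l)) := by
  rw [← σ.sum_comp, Fintype.sum_sum_type]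

/-- the local computation for the equations -/
lemma lift_local_E {L : Type*} [CommRing L] [IsLocalRing L] {m c d : ℕ} (σ : (Fin c ⊕ Fin d) ≃ Fin m)
    (au p : L) (hau : IsUnit au) (hp : p ∈ IsLocalRing.maximalIdeal L) (F Z : Fin m → L)
    (hF : ∀ j, F j ∈ IsLocalRing.maximalIdeal L) (hrow : ∀ i, F (σ (Sum.inl i)) = p * Z (σ (Sum.inl i)))
    (u : Fin d → Fin c → L) (w : Fin d → Fin m → Fin m → L) (h : Fin d → L)
    (h1 : ∀ l, au * F (σ (Sum.inr l)) = ∑ i, u l i * F (σ (Sum.inl i)) +
      ∑ j, ∑ k, w l j k * (F j * F k) + p ^ 2 * h l)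
    (h2 : ∀ l, au * Z (σ (Sum.inr l)) = ∑ i, u l i * Z (σ (Sum.inl i)) +
      p * (∑ j, ∑ k, w l j k * (Z j * Z k)) + p * h l) :
    ∀ j, F j = p * Z j := by
  classical
  let El : Fin m → L := fun j => F j - p * Z j
  let Mf : Fin m → Fin m → L := fun j k => (match σ.symm j with
    | Sum.inl _ => (0 : L)
    | Sum.inr l => ∑ j', w l j' k * F j' + p * ∑ k', w l k k' * Z k')
  have key : ∀ j, au * El j = ∑ k, Mf j k * El k := by
    intro j
    obtain ⟨s, rfl⟩ := σ.surjective j
    rcases s with i | l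
    · simp [Mf, El, hrow i]
    · have hu : ∑ i, u l i * F (σ (Sum.inl i)) = p * ∑ i, u l i * Z (σ (Sum.inl i)) := by
        rw [Finset.mul_sum]
        exact Finset.sum_congr rfl fun i _ => by rw [hrow i]; ring
      have hM : ∑ k, Mf (σ (Sum.inr l)) k * El k = (∑ j, ∑ k, w l j k * (F j * F k)) -
          p * (p * ∑ j, ∑ k, w l j k * (Z j * Z k)) := by
        have e1 : ∀ k, Mf (σ (Sum.inr l)) k * El k =
            (∑ j, w l j k * F j * El k) + ∑ j, p * (w l k j * Z j) * El k := fun k => by
          simp only [Mf, Equiv.symm_apply_apply, add_mul, Finset.sum_mul, Finset.mul_sum]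
        simp only [e1, Finset.sum_add_distrib]
        rw [Finset.sum_comm (f := fun k j => w l j k * F j * El k), ← Finset.sum_add_distrib]
        simp only [Finset.mul_sum, ← Finset.sum_add_distrib, ← Finset.sum_sub_distrib]
        exact Finset.sum_congr rfl fun j _ => Finset.sum_congr rfl fun k _ => by simp only [El]; ring
      rw [hM]
      simp only [El]
      linear_combination h1 l + hu - p * h2 l
  refine fun j => sub_eq_zero.1 (eq_zero_of_mul_eq_sum_maximal au hau El Mf (fun j k => ?_) key j)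
  obtain ⟨s, rfl⟩ := σ.surjective j
  simp only [Mf, Equiv.symm_apply_apply]
  rcases s with i | l
  · exact zero_mem _
  · exact add_mem (Submodule.sum_mem _ fun j' _ => Ideal.mul_mem_left _ _ (hF j'))
      (Ideal.mul_mem_right _ _ hp)

/-- the local computation for the second family of relations -/
lemma lift_local_G {L : Type*} [CommRing L] {m c d : ℕ} (σ : (Fin c ⊕ Fin d) ≃ Fin m)
    (au Dl p : L) (hau : IsUnit au) (hDl : IsUnit Dl) (hann : ∀ y : L, p ^ 2 * y = 0 → p * y = 0)
    (F Z : Fin m → L) (hF : ∀ j, F j = p * Z j) (K : Fin m → L) (H : L)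
    (hK : ∑ j, K j * F j = p ^ 2 * H) (u : Fin d → Fin c → L) (R' : Fin d → L)
    (h2 : ∀ l, au * Z (σ (Sum.inr l)) = ∑ i, u l i * Z (σ (Sum.inl i)) + p * R' l)
    (y : Fin c → L)
    (hy : ∀ i, Dl * (au * K (σ (Sum.inl i)) + ∑ l, K (σ (Sum.inr l)) * u l i) = p * y i) :
    ∑ j, K j * Z j - p * H = 0 := by
  let G := ∑ j, K j * Z j - p * H
  have hpG : p * G = 0 := by
    simp only [G, mul_sub, ← mul_assoc, ← pow_two, ← hK, Finset.mul_sum, sub_eq_zero]
    exact Finset.sum_congr rfl fun j _ => by rw [hF]; ring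
  let Y := ∑ i, y i * Z (σ (Sum.inl i)) + Dl * (∑ l, K (σ (Sum.inr l)) * R' l - au * H)
  have hmain : Dl * au * G = p * Y := by
    have h1 : au * (∑ l, K (σ (Sum.inr l)) * Z (σ (Sum.inr l))) =
        ∑ i, (∑ l, K (σ (Sum.inr l)) * u l i) * Z (σ (Sum.inl i)) +
          p * ∑ l, K (σ (Sum.inr l)) * R' l := by
      simp only [Finset.mul_sum, Finset.sum_mul]
      rw [Finset.sum_comm (f := fun i l => K (σ (Sum.inr l)) * u l i * Z (σ (Sum.inl i))),
        ← Finset.sum_add_distrib]
      refine Finset.sum_congr rfl fun l _ => ?_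
      rw [mul_left_comm, h2 l, mul_add, Finset.mul_sum]
      congr 1
      · exact Finset.sum_congr rfl fun i _ => (mul_assoc _ _ _).symm
      · ring
    have h3 : p * ∑ i, y i * Z (σ (Sum.inl i)) = Dl * (au * ∑ i, K (σ (Sum.inl i)) *
        Z (σ (Sum.inl i)) + ∑ i, (∑ l, K (σ (Sum.inr l)) * u l i) * Z (σ (Sum.inl i))) := by
      rw [Finset.mul_sum, Finset.mul_sum, ← Finset.sum_add_distrib, Finset.mul_sum]
      refine Finset.sum_congr rfl fun i _ => ?_
      rw [← mul_assoc, ← hy i]
      ring
    simp only [G, Y, sum_split σ (fun j => K j * Z j)]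
    linear_combination Dl * h1 - h3
  have hpY : p * Y = 0 := hann Y (by
    rw [pow_two, mul_assoc, ← hmain, mul_left_comm, hpG, mul_zero])
  exact (hDl.mul hau).mul_right_eq_zero.1 (hmain.trans hpY)

/-- the adjugate argument for the coefficients of a relation -/
lemma lift_adjugate {R : Type*} [CommRing R] {n c : ℕ}
    (S : Ideal (MvPolynomial (Fin n) R)) (π : R) (fr : Fin c → MvPolynomial (Fin n) R)
    (hfr : ∀ i, fr i ∈ S) (cols : Fin c → Fin n) (cc : Fin c → MvPolynomial (Fin n) R)
    (hcc : ∑ i, cc i * fr i ∈ S ^ 2 ⊔ Ideal.span {MvPolynomial.C (π ^ 2)}) (i : Fin c) :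
    (Matrix.of fun i k : Fin c => pderiv (cols k) (fr i)).det * cc i ∈
      S ⊔ Ideal.span {MvPolynomial.C (π ^ 2)} := by
  classical
  let V := S ⊔ Ideal.span {MvPolynomial.C (π ^ 2)}
  let M : Matrix (Fin c) (Fin c) (MvPolynomial (Fin n) R) :=
    Matrix.of fun i k => pderiv (cols k) (fr i)
  have hder : ∀ k, ∑ i, cc i * M i k ∈ V := by
    intro k
    obtain ⟨y, hy, x, hx, hyx⟩ := Submodule.mem_sup.1 hcc
    obtain ⟨x', rfl⟩ := Ideal.mem_span_singleton'.1 hx
    have hy' : pderiv (cols k) y ∈ V := by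
      rw [pow_two] at hy
      refine Submodule.mul_induction_on hy (fun u hu v hv => ?_) (fun u v hu hv => ?_)
      · rw [pderiv_mul]
        exact add_mem (Ideal.mul_mem_left _ _ (Ideal.mem_sup_left hv))
          (Ideal.mul_mem_right _ _ (Ideal.mem_sup_left hu))
      · rw [map_add]; exact add_mem hu hv
    have e1 : pderiv (cols k) (∑ i, cc i * fr i) =
        ∑ i, pderiv (cols k) (cc i) * fr i + ∑ i, cc i * M i k := by
      rw [map_sum, ← Finset.sum_add_distrib]
      exact Finset.sum_congr rfl fun i _ => pderiv_mul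
    have e2 : pderiv (cols k) (∑ i, cc i * fr i) ∈ V := by
      rw [← hyx, map_add, mul_comm x', pderiv_mul, pderiv_C, zero_mul, zero_add]
      exact add_mem hy' (Ideal.mem_sup_right
        (Ideal.mul_mem_right _ _ (Ideal.mem_span_singleton_self _)))
    rw [e1] at e2
    exact (Ideal.add_mem_iff_right _
      (Submodule.sum_mem _ fun i _ => Ideal.mul_mem_left _ _ (Ideal.mem_sup_left (hfr i)))).1 e2
  have h1 : Matrix.vecMul (Matrix.vecMul cc M) M.adjugate = M.det • cc := by
    rw [Matrix.vecMul_vecMul, Matrix.mul_adjugate, Matrix.vecMul_smul, Matrix.vecMul_one]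
  have h2 := congrFun h1 i
  rw [Pi.smul_apply, smul_eq_mul] at h2
  show M.det * cc i ∈ V
  rw [← h2]
  show ∑ k, Matrix.vecMul cc M k * M.adjugate k i ∈ V
  exact Submodule.sum_mem _ fun k _ => Ideal.mul_mem_right _ _ (hder k)

theorem isSmoothAt_lift_of_mem {π : R} (hR : ∀ r : R, π ^ 2 * r = 0 → π * r = 0)
    (f : Fin m → MvPolynomial (Fin n) R)
    (kv : Fin q → Fin m → MvPolynomial (Fin n) R) (hv : Fin q → MvPolynomial (Fin n) R)
    (hk : ∀ l, ∑ j, kv l j * f j = MvPolynomial.C (π ^ 2) * hv l)
    (hgen : ∀ (k : Fin m → MvPolynomial (Fin n) R) (h : MvPolynomial (Fin n) R),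
      ∑ j, k j * f j = MvPolynomial.C (π ^ 2) * h → ∃ co : Fin q → MvPolynomial (Fin n) R,
        ∀ j, k j = ∑ l, co l * kv l j)
    (Q : Ideal (MvPolynomial (Fin (n + m)) R ⧸ Ideal.span (Set.range (liftRel π f kv hv))))
    [Q.IsPrime] (hπ : algebraMap R _ π ∈ Q)
    {c d : ℕ} (σ : (Fin c ⊕ Fin d) ≃ Fin m) (cols : Fin c ↪ Fin n)
    (a : MvPolynomial (Fin n) R)
    (ha : Ideal.Quotient.mk _ (rename (Fin.castAdd m) a) ∉ Q)
    (hΔ : Ideal.Quotient.mk _
      (rename (Fin.castAdd m) (jacobianMinor f (σ ∘ Sum.inl) cols)) ∉ Q)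
    (uu : Fin d → Fin c → MvPolynomial (Fin n) R)
    (w : Fin d → Fin m → Fin m → MvPolynomial (Fin n) R) (hh : Fin d → MvPolynomial (Fin n) R)
    (heq : ∀ l, a * f (σ (Sum.inr l)) = ∑ i, uu l i * f (σ (Sum.inl i)) +
      ∑ j, ∑ k, w l j k * (f j * f k) + MvPolynomial.C (π ^ 2) * hh l) :
    Algebra.IsSmoothAt R Q := by
  classical
  let rel := liftRel π f kv hv
  let I := Ideal.span (Set.range rel)
  let D := MvPolynomial (Fin (n + m)) R ⧸ I
  let mkD : MvPolynomial (Fin (n + m)) R →ₐ[R] D := Ideal.Quotient.mkₐ R I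
  haveI : Algebra.FinitePresentation R D :=
    Algebra.FinitePresentation.quotient ⟨Finset.univ.image rel, by simp [I]⟩
  let ι : MvPolynomial (Fin n) R →ₐ[R] MvPolynomial (Fin (n + m)) R := rename (Fin.castAdd m)
  let P : MvPolynomial (Fin (n + m)) R := MvPolynomial.C π
  let z : Fin m → MvPolynomial (Fin (n + m)) R := fun j => X (Fin.natAdd n j)
  let E : Fin m → MvPolynomial (Fin (n + m)) R := fun j => ι (f j) - P * z j
  let G' : Fin d → MvPolynomial (Fin (n + m)) R := fun l =>
    ι a * z (σ (Sum.inr l)) - ∑ i, ι (uu l i) * z (σ (Sum.inl i)) -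
      P * (∑ j, ∑ k, ι (w l j k) * (z j * z k)) - P * ι (hh l)
  have hE : ∀ j, rel (Fin.castAdd q j) = E j := fun j => by simp [rel, liftRel, E, ι, P, z]
  have hG : ∀ l, rel (Fin.natAdd m l) = ∑ j, ι (kv l j) * z j - P * ι (hv l) := fun l => by
    simp [rel, liftRel, ι, P, z]
  have hEI : ∀ j, E j ∈ I := fun j => hE j ▸ Ideal.subset_span ⟨_, rfl⟩
  -- the new relations lie in the ideal
  have hG'I : ∀ l, G' l ∈ I := by
    intro l
    let k₀ : Fin m → MvPolynomial (Fin n) R := fun j =>
      (if j = σ (Sum.inr l) then a else 0) -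
        (∑ i, if σ (Sum.inl i) = j then uu l i else 0) - ∑ j', w l j' j * f j'
    have hk₀ : ∑ j, k₀ j * f j = MvPolynomial.C (π ^ 2) * hh l := by
      simp only [k₀, sub_mul, Finset.sum_sub_distrib, Finset.sum_mul, ite_mul, zero_mul,
        Finset.sum_ite_eq', Finset.mem_univ, if_true]
      rw [sum_ite_fiber (fun i => σ (Sum.inl i)) (fun i x => uu l i * f x), heq l,
        Finset.sum_comm (f := fun x i => w l i x * f i * f x)]
      have : ∑ j : Fin m, ∑ x : Fin m, w l j x * f j * f x = ∑ j, ∑ k, w l j k * (f j * f k) :=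
        Finset.sum_congr rfl fun j _ => Finset.sum_congr rfl fun k _ => mul_assoc _ _ _
      rw [this]
      ring
    obtain ⟨co, hco⟩ := hgen k₀ (hh l) hk₀
    have hπh : MvPolynomial.C π * (hh l - ∑ p, co p * hv p) = 0 := by
      refine ann_eq_mvPolynomial π hR _ ?_
      rw [mul_sub, ← hk₀, sub_eq_zero, Finset.mul_sum]
      simp only [hco, Finset.sum_mul]
      rw [Finset.sum_comm]
      refine Finset.sum_congr rfl fun p _ => ?_
      rw [← mul_assoc, mul_comm (MvPolynomial.C _), mul_assoc, ← hk p, Finset.mul_sum]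
      exact Finset.sum_congr rfl fun j _ => by ring
    have hπh' : P * (ι (hh l) - ∑ p, ι (co p) * ι (hv p)) = 0 := by
      have := congrArg ι hπh
      simpa [ι, P, map_sum] using this
    have hkz : ∑ j, ι (k₀ j) * z j = ι a * z (σ (Sum.inr l)) -
        ∑ i, ι (uu l i) * z (σ (Sum.inl i)) - ∑ j, ∑ k, ι (w l j k) * (ι (f j) * z k) := by
      simp only [k₀, map_sub, map_sum, map_mul, apply_ite ι, map_zero, sub_mul,
        Finset.sum_sub_distrib, Finset.sum_mul, ite_mul, zero_mul, Finset.sum_ite_eq',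
        Finset.mem_univ, if_true]
      rw [sum_ite_fiber (fun i => σ (Sum.inl i)) (fun i x => ι (uu l i) * z x),
        Finset.sum_comm (f := fun x i => ι (w l i x) * ι (f i) * z x)]
      congr 1
      exact Finset.sum_congr rfl fun j _ => Finset.sum_congr rfl fun k _ => mul_assoc _ _ _
    have hval : G' l = ∑ p, ι (co p) * rel (Fin.natAdd m p) +
        ∑ j, ∑ k, ι (w l j k) * z k * E j - P * (ι (hh l) - ∑ p, ι (co p) * ι (hv p)) := by
      have h1 : ∑ p, ι (co p) * rel (Fin.natAdd m p) =
          ∑ j, ι (k₀ j) * z j - P * ∑ p, ι (co p) * ι (hv p) := by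
        simp only [hG, mul_sub, Finset.sum_sub_distrib, Finset.mul_sum, hco, map_sum, map_mul,
          Finset.sum_mul]
        congr 1
        · rw [Finset.sum_comm]
          exact Finset.sum_congr rfl fun j _ => Finset.sum_congr rfl fun p _ => by ring
        · exact Finset.sum_congr rfl fun p _ => by ring
      have h2 : ∑ j, ∑ k, ι (w l j k) * z k * E j =
          ∑ j, ∑ k, ι (w l j k) * (ι (f j) * z k) - P * ∑ j, ∑ k, ι (w l j k) * (z j * z k) := by
        simp only [E, Finset.mul_sum, ← Finset.sum_sub_distrib]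
        exact Finset.sum_congr rfl fun j _ => Finset.sum_congr rfl fun k _ => by ring
      rw [h1, h2, hkz]
      simp only [G']
      ring
    rw [hval, hπh', sub_zero]
    exact add_mem (Submodule.sum_mem _ fun p _ => Ideal.mul_mem_left _ _ (Ideal.subset_span ⟨_, rfl⟩))
      (Submodule.sum_mem _ fun j _ => Submodule.sum_mem _ fun k _ => Ideal.mul_mem_left _ _ (hEI j))
  -- the smooth algebra cut out by the leading relations
  let lead : Fin (c + d) → MvPolynomial (Fin (n + m)) R :=
    Fin.append (fun i => E (σ (Sum.inl i))) G'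
  let J := Ideal.span (Set.range lead)
  have hJI : J ≤ I := Ideal.span_le.2 (by
    rintro _ ⟨i, rfl⟩
    refine Fin.addCases (fun i => ?_) (fun l => ?_) i
    · simp only [lead, Fin.append_left]; exact hEI _
    · simp only [lead, Fin.append_right]; exact hG'I l)
  let B := MvPolynomial (Fin (n + m)) R ⧸ J
  let mkB : MvPolynomial (Fin (n + m)) R →ₐ[R] B := Ideal.Quotient.mkₐ R J
  haveI : Algebra.FinitePresentation R B :=
    Algebra.FinitePresentation.quotient ⟨Finset.univ.image lead, by simp [J]⟩
  let cols' : Fin (c + d) ↪ Fin (n + m) :=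
    ⟨Fin.append (Fin.castAdd m ∘ cols) (Fin.natAdd n ∘ σ ∘ Sum.inr), by
      intro i j hij
      revert hij
      refine Fin.addCases (fun i => ?_) (fun i => ?_) i <;>
        refine Fin.addCases (fun j => ?_) (fun j => ?_) j <;>
        simp only [Fin.append_left, Fin.append_right, Function.comp_apply] <;> intro hij
      · exact congrArg _ (cols.injective (Fin.castAdd_injective _ _ hij))
      · have h1 := congrArg Fin.val hij
        simp at h1
        omega
      · have h1 := congrArg Fin.val hij
        simp at h1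
        omega
      · exact congrArg _ (Sum.inr_injective (σ.injective (Fin.natAdd_injective m n hij)))⟩
  let Δ' := jacobianMinor lead id cols'
  have hΔ' : mkD Δ' ∉ Q := by
    intro hin
    obtain ⟨κ, _, _, μ, hμ⟩ : ∃ (κ : Type u) (_ : CommRing κ) (_ : IsDomain κ)
        (μ : MvPolynomial (Fin (n + m)) R →+* κ), ∀ x, μ x = 0 ↔ mkD x ∈ Q :=
      ⟨Q.ResidueField, inferInstance, inferInstance,
        (algebraMap D Q.ResidueField).comp mkD.toRingHom,
        fun x => Ideal.algebraMap_residueField_eq_zero⟩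
    have hμP : μ P = 0 := (hμ _).2 (by
      show mkD P ∈ Q
      rw [show mkD P = algebraMap R D π from mkD.commutes π]
      exact hπ)
    have h0 : μ Δ' = 0 := (hμ _).2 hin
    replace h0 : (μ.mapMatrix (Matrix.of fun j k => pderiv (cols' k) (lead (id j)))).det = 0 := by
      rw [← RingHom.map_det]; exact h0
    rw [← Matrix.det_reindex_self finSumFinEquiv.symm,
      ← Matrix.fromBlocks_toBlocks (Matrix.reindex _ _ _)] at h0
    rw [show Matrix.toBlocks₁₂ _ = 0 from Matrix.ext fun i l => ?_, Matrix.det_fromBlocks_zero₁₂] at h0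
    · rcases mul_eq_zero.1 h0 with h | h
      · refine hΔ ((hμ _).1 ?_)
        show μ (ι (jacobianMinor f (σ ∘ Sum.inl) cols)) = 0
        rw [← h, jacobianMinor, AlgHom.map_det]
        refine (RingHom.map_det μ _).trans ?_
        refine congrArg Matrix.det (Matrix.ext fun i k => ?_)
        simp only [Matrix.toBlocks₁₁, Matrix.of_apply, Matrix.reindex_apply, Equiv.symm_symm,
          Matrix.submatrix_apply, finSumFinEquiv_apply_left, RingHom.mapMatrix_apply,
          AlgHom.mapMatrix_apply, Matrix.map_apply, id_eq, cols', Function.Embedding.coeFn_mk,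
          Fin.append_left, Function.comp_apply, lead]
        show μ (ι _) = μ (pderiv _ (ι (f _) - P * z _))
        have hx : pderiv (Fin.castAdd m (cols k)) (z (σ (Sum.inl i))) = 0 := by
          refine pderiv_X_of_ne fun h => ?_
          have h1 := congrArg Fin.val h
          simp at h1
          omega
        rw [map_sub, pderiv_C_mul, hx, mul_zero, sub_zero]
        congr 1
        exact (pderiv_rename (Fin.castAdd_injective n m) _ _).symm
      · apply ha
        refine (hμ _).1 ?_
        show μ (ι a) = 0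
        have hblk : (Matrix.toBlocks₂₂ (Matrix.reindex finSumFinEquiv.symm finSumFinEquiv.symm
            (μ.mapMatrix (Matrix.of fun j k => pderiv (cols' k) (lead (id j)))))) =
            Matrix.diagonal fun _ => μ (ι a) := by
          refine Matrix.ext fun l l' => ?_
          simp only [Matrix.toBlocks₂₂, Matrix.of_apply, Matrix.reindex_apply, Equiv.symm_symm,
            Matrix.submatrix_apply, finSumFinEquiv_apply_right, RingHom.mapMatrix_apply,
            Matrix.map_apply, id_eq, cols', Function.Embedding.coeFn_mk, Fin.append_right,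
            Function.comp_apply, lead, G']
          have hzz : ∀ j, pderiv (Fin.natAdd n (σ (Sum.inr l'))) (z j) =
              if j = σ (Sum.inr l') then 1 else 0 := fun j => by
            by_cases hj : j = σ (Sum.inr l')
            · simp [hj, z]
            · rw [if_neg hj]
              exact pderiv_X_of_ne fun h => hj (Fin.natAdd_injective m n h)
          have hsum : ∑ i, pderiv (Fin.natAdd n (σ (Sum.inr l'))) (ι (uu l i) * z (σ (Sum.inl i))) = 0 :=
            Finset.sum_eq_zero fun i _ => by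
              simp [pderiv_mul, ι, pderiv_natAdd_rename, hzz]
          have hPd : ∀ x, μ (pderiv (Fin.natAdd n (σ (Sum.inr l'))) (P * x)) = 0 := fun x => by
            rw [pderiv_C_mul, map_mul, show μ (MvPolynomial.C π) = 0 from hμP, zero_mul]
          simp only [map_sub, hPd, sub_zero]
          rw [map_sum, hsum, map_zero, sub_zero, pderiv_mul, hzz]
          by_cases hll : l = l'
          · subst hll; simp [ι, pderiv_natAdd_rename]
          · simp [ι, pderiv_natAdd_rename, hll]
        rw [hblk, Matrix.det_diagonal, Finset.prod_const] at h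
        exact eq_zero_of_pow_eq_zero h
    · simp only [Matrix.toBlocks₁₂, Matrix.of_apply, Matrix.reindex_apply, Equiv.symm_symm,
        Matrix.submatrix_apply, finSumFinEquiv_apply_left, finSumFinEquiv_apply_right,
        RingHom.mapMatrix_apply, Matrix.map_apply, id_eq, cols', Function.Embedding.coeFn_mk,
        Fin.append_left, Fin.append_right, Function.comp_apply, lead, Matrix.zero_apply]
      show μ (pderiv _ (ι (f _) - P * z _)) = 0
      have hx : pderiv (Fin.natAdd n (σ (Sum.inr l))) (z (σ (Sum.inl i))) = 0 := by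
        refine pderiv_X_of_ne fun h => ?_
        exact Sum.inl_ne_inr (σ.injective (Fin.natAdd_injective m n h))
      rw [map_sub, pderiv_C_mul, hx, mul_zero, sub_zero]
      simp [ι, pderiv_natAdd_rename]
  -- localise
  let toD : B →ₐ[R] D := Ideal.Quotient.liftₐ J mkD fun x hx => Ideal.Quotient.eq_zero_iff_mem.2 (hJI hx)
  let QB : Ideal B := Q.comap toD.toRingHom
  let L := Localization.AtPrime QB
  let γ : MvPolynomial (Fin (n + m)) R →ₐ[R] L := (IsScalarTower.toAlgHom R B L).comp mkB
  have hγu : ∀ x, mkD x ∉ Q → IsUnit (γ x) := fun x hx =>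
    IsLocalization.map_units L (⟨mkB x, hx⟩ : QB.primeCompl)
  have hγJ : ∀ x ∈ J, γ x = 0 := fun x hx => by
    show algebraMap B L (Ideal.Quotient.mk J x) = 0
    rw [Ideal.Quotient.eq_zero_iff_mem.2 hx, map_zero]
  have hγm : ∀ x, mkD x ∈ Q → γ x ∈ IsLocalRing.maximalIdeal L := fun x hx => by
    intro hu
    exact (IsLocalization.AtPrime.isUnit_to_map_iff L QB (mkB x)).1 hu hx
  have hstd : IsElementaryStandard R B (mkB Δ') := by
    refine isElementaryStandard_of_rows_cols lead mkB Ideal.Quotient.mk_surjective Ideal.mk_ker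
      (mkB Δ') 1 (Function.Embedding.refl _) cols' ?_ fun _ _ ℓ hℓ => absurd rfl (hℓ ℓ)
    rw [one_mul]
    rfl
  haveI : Algebra.IsStandardSmooth R (Localization.Away (mkB Δ')) :=
    Groth.Agent.S2032.result (mkB Δ') hstd
  haveI : Module.Flat R (Localization.Away (mkB Δ')) := inferInstance
  have hΔB : mkB Δ' ∈ QB.primeCompl := hΔ'
  let e : Localization.Away (mkB Δ') →ₐ[B] L :=
    IsLocalization.liftAlgHom (M := Submonoid.powers (mkB Δ')) (f := Algebra.ofId B L) (by
      rintro ⟨_, i, rfl⟩
      rw [map_pow]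
      exact ((IsLocalization.map_units L (⟨_, hΔB⟩ : QB.primeCompl))).pow i)
  letI : Algebra (Localization.Away (mkB Δ')) L := e.toRingHom.toAlgebra
  haveI : IsScalarTower B (Localization.Away (mkB Δ')) L :=
    IsScalarTower.of_algebraMap_eq fun x => (e.commutes x).symm
  haveI : IsScalarTower R (Localization.Away (mkB Δ')) L :=
    IsScalarTower.of_algebraMap_eq fun x => ((e.restrictScalars R).commutes x).symm
  haveI : IsLocalization (QB.primeCompl.map (algebraMap B (Localization.Away (mkB Δ')))) L :=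
    IsLocalization.isLocalization_of_submonoid_le (Localization.Away (mkB Δ')) L
      (Submonoid.powers (mkB Δ')) QB.primeCompl (Submonoid.powers_le.2 hΔB)
  haveI : Module.Flat (Localization.Away (mkB Δ')) L :=
    IsLocalization.flat L (QB.primeCompl.map (algebraMap B (Localization.Away (mkB Δ'))))
  haveI : Module.Flat R L := Module.Flat.trans R (Localization.Away (mkB Δ')) L
  -- values in the local ring
  have hpm : γ P ∈ IsLocalRing.maximalIdeal L := hγm _ (by
    rw [show mkD P = algebraMap R D π from mkD.commutes π]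
    exact hπ)
  have hau : IsUnit (γ (ι a)) := hγu _ ha
  have hG'0 : ∀ l, γ (ι a) * γ (z (σ (Sum.inr l))) =
      ∑ i, γ (ι (uu l i)) * γ (z (σ (Sum.inl i))) +
      γ P * (∑ j, ∑ k, γ (ι (w l j k)) * (γ (z j) * γ (z k))) + γ P * γ (ι (hh l)) := fun l => by
    have h0 : γ (G' l) = 0 := hγJ _ (Ideal.subset_span ⟨Fin.natAdd c l, by simp [lead]⟩)
    simp only [G', map_sub, map_mul, map_sum] at h0
    rw [sub_sub, sub_sub, sub_eq_zero] at h0
    rw [h0]
    exact (add_assoc _ _ _).symm
  have hC2 : γ (ι (MvPolynomial.C (π ^ 2))) = γ P ^ 2 := by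
    rw [← map_pow γ]
    simp only [ι, P, rename_C, map_pow]
  have hF : ∀ j, γ (ι (f j)) = γ P * γ (z j) := by
    refine lift_local_E σ (γ (ι a)) (γ P) hau hpm (fun j => γ (ι (f j))) (fun j => γ (z j))
      (fun j => hγm _ ?_) (fun i => ?_) (fun l i => γ (ι (uu l i))) (fun l j k => γ (ι (w l j k)))
      (fun l => γ (ι (hh l))) (fun l => ?_) hG'0
    · have : mkD (ι (f j)) = algebraMap R D π * mkD (z j) := by
        rw [← mkD.commutes π, ← map_mul]
        exact Ideal.Quotient.eq.2 (hEI j)
      rw [this]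
      exact Ideal.mul_mem_right _ _ hπ
    · have := hγJ (E (σ (Sum.inl i))) (Ideal.subset_span ⟨Fin.castAdd d i, by simp [lead]⟩)
      simp only [E, map_sub, map_mul] at this
      exact sub_eq_zero.1 this
    · have := congrArg (γ.comp ι) (heq l)
      simp only [map_add, map_mul, map_sum, AlgHom.comp_apply] at this
      rw [hC2] at this
      exact this
  have hann : ∀ y : L, γ P ^ 2 * y = 0 → γ P * y = 0 := by
    intro y hy
    have hp : algebraMap R L π = γ P := (γ.commutes π).symm
    have h3 := ann_eq_of_flat π hR y (by rw [Algebra.smul_def, map_pow, hp]; exact hy)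
    rwa [Algebra.smul_def, hp] at h3
  have hGall : ∀ l, γ (rel (Fin.natAdd m l)) = 0 := by
    intro l
    have hGeq : γ (rel (Fin.natAdd m l)) =
        ∑ j, γ (ι (kv l j)) * γ (z j) - γ P * γ (ι (hv l)) := by
      simp [hG, map_sum]
    let cc : Fin c → MvPolynomial (Fin n) R := fun i =>
      a * kv l (σ (Sum.inl i)) + ∑ l', kv l (σ (Sum.inr l')) * uu l' i
    let V : Ideal (MvPolynomial (Fin n) R) :=
      Ideal.span (Set.range f) ⊔ Ideal.span {MvPolynomial.C (π ^ 2)}
    have hcc : ∑ i, cc i * f (σ (Sum.inl i)) ∈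
        Ideal.span (Set.range f) ^ 2 ⊔ Ideal.span {MvPolynomial.C (π ^ 2)} := by
      have h0 := hk l
      rw [sum_split σ (fun j => kv l j * f j)] at h0
      have e0 : ∑ i, cc i * f (σ (Sum.inl i)) = a * (MvPolynomial.C (π ^ 2) * hv l) -
          ∑ l', kv l (σ (Sum.inr l')) *
            (∑ j, ∑ k, w l' j k * (f j * f k) + MvPolynomial.C (π ^ 2) * hh l') := by
        rw [← h0, mul_add, Finset.mul_sum, Finset.mul_sum, add_sub_assoc, ← Finset.sum_sub_distrib]
        have h1 : ∀ l', a * (kv l (σ (Sum.inr l')) * f (σ (Sum.inr l'))) -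
            kv l (σ (Sum.inr l')) *
              (∑ j, ∑ k, w l' j k * (f j * f k) + MvPolynomial.C (π ^ 2) * hh l') =
            ∑ i, kv l (σ (Sum.inr l')) * uu l' i * f (σ (Sum.inl i)) := fun l' => by
          simp only [mul_assoc (kv l (σ (Sum.inr l')))]
          rw [← Finset.mul_sum, mul_left_comm, heq l', ← mul_sub]
          congr 1
          ring
        rw [Finset.sum_congr rfl fun l' _ => h1 l', Finset.sum_comm, ← Finset.sum_add_distrib]
        refine Finset.sum_congr rfl fun i _ => ?_
        simp only [cc, add_mul, Finset.sum_mul, mul_assoc]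
      rw [e0]
      refine sub_mem (Ideal.mem_sup_right (Ideal.mul_mem_left _ _ (Ideal.mul_mem_right _ _
        (Ideal.mem_span_singleton_self _)))) (Submodule.sum_mem _ fun l' _ => Ideal.mul_mem_left _ _ ?_)
      refine add_mem (Ideal.mem_sup_left (Submodule.sum_mem _ fun j _ => Submodule.sum_mem _ fun k _ =>
        Ideal.mul_mem_left _ _ ?_)) (Ideal.mem_sup_right (Ideal.mul_mem_right _ _
          (Ideal.mem_span_singleton_self _)))
      rw [pow_two]
      exact Ideal.mul_mem_mul (Ideal.subset_span ⟨j, rfl⟩) (Ideal.subset_span ⟨k, rfl⟩)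
    have hV : ∀ x ∈ V, ∃ y, γ (ι x) = γ P * y := by
      intro x hx
      have : V ≤ (Ideal.span {γ P}).comap (γ.comp ι).toRingHom := by
        refine sup_le (Ideal.span_le.2 ?_) (Ideal.span_le.2 ?_)
        · rintro _ ⟨j, rfl⟩
          show γ (ι (f j)) ∈ Ideal.span {γ P}
          rw [hF j]
          exact Ideal.mul_mem_right _ _ (Ideal.mem_span_singleton_self _)
        · rintro _ rfl
          show γ (ι (MvPolynomial.C (π ^ 2))) ∈ Ideal.span {γ P}
          rw [hC2, pow_two]
          exact Ideal.mul_mem_right _ _ (Ideal.mem_span_singleton_self _)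
      obtain ⟨y, hy⟩ := Ideal.mem_span_singleton'.1 (this hx)
      exact ⟨y, by rw [mul_comm]; exact hy.symm⟩
    choose y hy using fun i => hV _ (lift_adjugate (Ideal.span (Set.range f)) π
      (fun i => f (σ (Sum.inl i))) (fun i => Ideal.subset_span ⟨_, rfl⟩) cols cc hcc i)
    rw [hGeq]
    refine lift_local_G σ (γ (ι a)) (γ (ι (jacobianMinor f (σ ∘ Sum.inl) cols))) (γ P) hau
      (hγu _ hΔ) hann (fun j => γ (ι (f j))) (fun j => γ (z j)) hF (fun j => γ (ι (kv l j)))
      (γ (ι (hv l))) ?_ (fun l' i => γ (ι (uu l' i)))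
      (fun l' => ∑ j, ∑ k, γ (ι (w l' j k)) * (γ (z j) * γ (z k)) + γ (ι (hh l'))) (fun l' => ?_) y
      (fun i => ?_)
    · have := congrArg (γ.comp ι) (hk l)
      simp only [map_mul, map_sum, AlgHom.comp_apply] at this
      rw [hC2] at this
      exact this
    · rw [hG'0 l', mul_add, add_assoc]
    · rw [← hy i]
      simp only [cc, map_mul, map_add, map_sum]
      rfl
  -- all relations die
  have hrel : ∀ i, γ (rel i) = 0 := fun i => by
    refine Fin.addCases (fun j => ?_) (fun l => ?_) i
    · rw [hE]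
      simp only [E, map_sub, map_mul]
      exact sub_eq_zero.2 (hF j)
    · exact hGall l
  have htail : ∀ i, ∃ t, mkD t ∉ Q ∧ t * rel i ∈ J := fun i => by
    obtain ⟨⟨s, hs⟩, h⟩ := (IsLocalization.map_eq_zero_iff QB.primeCompl L _).1 (hrel i)
    obtain ⟨t, rfl⟩ := Ideal.Quotient.mk_surjective s
    refine ⟨t, hs, Ideal.Quotient.eq_zero_iff_mem.1 ?_⟩
    rw [map_mul]
    exact h
  choose t ht ht' using htail
  let T := ∏ i, t i
  have hT : mkD T ∉ Q := by
    rw [map_prod]
    exact Q.primeCompl.prod_mem fun i _ => ht i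
  let gens : Fin ((c + d) + (m + q)) → MvPolynomial (Fin (n + m)) R := Fin.append lead rel
  have hker : RingHom.ker mkD.toRingHom = Ideal.span (Set.range gens) := by
    rw [show RingHom.ker mkD.toRingHom = I from Ideal.mk_ker]
    refine le_antisymm (Ideal.span_mono ?_) (Ideal.span_le.2 ?_)
    · rintro _ ⟨i, rfl⟩; exact ⟨Fin.natAdd _ i, by simp [gens]⟩
    · rintro _ ⟨i, rfl⟩
      refine Fin.addCases (fun i => ?_) (fun i => ?_) i
      · simp only [gens, Fin.append_left]; exact hJI (Ideal.subset_span ⟨i, rfl⟩)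
      · simp only [gens, Fin.append_right]; exact Ideal.subset_span ⟨i, rfl⟩
  refine isSmoothAt_of_isStrictlyStandard (a := mkD T * mkD Δ')
    (isStrictlyStandard_of_isElementaryStandard ?_) Q
    fun h => (‹Q.IsPrime›.mem_or_mem h).elim hT hΔ'
  refine isElementaryStandard_of_rows_cols gens mkD Ideal.Quotient.mk_surjective hker
    (mkD T * mkD Δ') (mkD T) (Fin.castAddEmb (m + q)) cols' ?_ fun a₁ ha₁ ℓ hℓ => ?_
  · congr 2
    simp [Δ', jacobianMinor, gens]
  · revert hℓ
    refine Fin.addCases (fun i => ?_) (fun i => ?_) ℓ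
    · intro hℓ
      exact absurd rfl (hℓ i)
    · intro _
      have hrng : Set.range (gens ∘ Fin.castAddEmb (m + q)) = Set.range lead := by
        congr 1
        funext i
        simp [gens]
      rw [hrng, show gens (Fin.natAdd _ i) = rel i by simp [gens]]
      have h1 : a₁ - T * Δ' ∈ Ideal.span (Set.range gens) := by
        rw [← hker, RingHom.mem_ker]
        show mkD (a₁ - T * Δ') = 0
        rw [map_sub, map_mul, ha₁, sub_self]
      obtain ⟨e, he⟩ : t i ∣ T := Finset.dvd_prod_of_mem _ (Finset.mem_univ i)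
      have : a₁ * rel i = (a₁ - T * Δ') * rel i + e * Δ' * (t i * rel i) := by
        rw [he]; ring
      rw [this]
      refine add_mem (Ideal.mem_sup_right ?_) (Ideal.mem_sup_left (Ideal.mul_mem_left _ _ (ht' i)))
      rw [pow_two]
      exact Ideal.mul_mem_mul h1 (Ideal.subset_span ⟨Fin.natAdd _ i, by simp [gens]⟩)

end Smoothing
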