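import Groth.Agent.Lib.Smoothing.Standard
import Mathlib.RingTheory.Etale.Kaehler
import Mathlib.LinearAlgebra.Matrix.Adjugate
import Mathlib.LinearAlgebra.Matrix.ToLin

set_option autoImplicit false
set_option backward.isDefEq.respectTransparency false

open MvPolynomial

namespace Smoothing

universe u

lemma exists_right_inverse_of_mem_span_minors {S : Type*} [CommRing S] {c n : ℕ}
    (M : Matrix (Fin c) (Fin n) S) (x : S)
    (hx : x ∈ Ideal.span (Set.range fun cols : Fin c → Fin n => (M.submatrix id cols).det)) :
    ∃ N : Matrix (Fin n) (Fin c) S, M * N = x • 1 := by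
  classical
  induction hx using Submodule.span_induction with
  | mem x hx =>
    obtain ⟨cols, rfl⟩ := hx
    refine ⟨(1 : Matrix (Fin n) (Fin n) S).submatrix id cols * (M.submatrix id cols).adjugate, ?_⟩
    rw [← Matrix.mul_assoc, show M * (1 : Matrix (Fin n) (Fin n) S).submatrix id cols =
      M.submatrix id cols from ?_, Matrix.mul_adjugate]
    ext i j
    simp [Matrix.mul_apply, Matrix.one_apply]
  | zero => exact ⟨0, by simp⟩
  | add x y _ _ hx hy =>
    obtain ⟨N₁, h₁⟩ := hx
    obtain ⟨N₂, h₂⟩ := hy
    exact ⟨N₁ + N₂, by rw [Matrix.mul_add, h₁, h₂, add_smul]⟩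
  | smul r x _ hx =>
    obtain ⟨N, h⟩ := hx
    exact ⟨r • N, by rw [Matrix.mul_smul, h, smul_smul, smul_eq_mul]⟩

theorem stablyFree_of_isStrictlyStandard {R A S : Type u} [CommRing R] [CommRing A] [Algebra R A]
    (a : A) (ha : IsStrictlyStandard R A a)
    [CommRing S] [Algebra R S] [Algebra A S] [IsScalarTower R A S] [IsLocalization.Away a S] :
    ∃ p q : ℕ, Nonempty ((Ω[S⁄R] × (Fin p → S)) ≃ₗ[S] (Fin q → S)) := by
  classical
  obtain ⟨⟨n, m, c, hcn, hcm, f, φ, hφ, hker⟩, hmem, hkill⟩ := ha
  dsimp only at hmem hkill
  let ψ : MvPolynomial (Fin n) R →ₐ[R] S := (IsScalarTower.toAlgHom R A S).comp φ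
  let M : Matrix (Fin c) (Fin n) S :=
    Matrix.of fun j k => ψ (pderiv k (f (Fin.castLE hcm j)))
  have hu : IsUnit (algebraMap A S a) := IsLocalization.Away.algebraMap_isUnit a
  obtain ⟨N₀, hN₀⟩ : ∃ N : Matrix (Fin n) (Fin c) S, M * N = algebraMap A S a • 1 := by
    refine exists_right_inverse_of_mem_span_minors M _ ?_
    have h := Ideal.mem_map_of_mem (algebraMap A S) hmem
    rw [Ideal.map_span, ← Set.range_comp] at h
    convert h using 3
    funext cols
    show _ = ψ (jacobianMinor f (Fin.castLE hcm) cols)
    rw [jacobianMinor, AlgHom.map_det]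
    rfl
  let N : Matrix (Fin n) (Fin c) S := (↑hu.unit⁻¹ : S) • N₀
  have hMN : M * N = 1 := by
    simp only [N, Matrix.mul_smul, hN₀, smul_smul, IsUnit.val_inv_mul, one_smul]
  let J : (Fin c → S) →ₗ[S] (Fin n → S) := M.vecMulLinear
  let L : (Fin n → S) →ₗ[S] (Fin c → S) := N.vecMulLinear
  have hLJ : ∀ w, L (J w) = w := fun w => by
    simp [L, J, Matrix.vecMul_vecMul, hMN]
  let π : (Fin n → S) →ₗ[S] (Fin n → S) := LinearMap.id - J ∘ₗ L
  have hπJ : ∀ w, π (J w) = 0 := fun w => by simp [π, hLJ]
  -- the derivation on the polynomial ring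
  letI : Algebra (MvPolynomial (Fin n) R) S := ψ.toRingHom.toAlgebra
  haveI : IsScalarTower R (MvPolynomial (Fin n) R) S :=
    IsScalarTower.of_algebraMap_eq fun r => (ψ.commutes r).symm
  let e : Fin n → Fin n → S := fun k => Pi.single k 1
  let D₀ : Derivation R (MvPolynomial (Fin n) R) (Fin n → S) :=
    mkDerivation R fun k => π (e k)
  have hD₀ : ∀ p, D₀ p = π (fun k => ψ (pderiv k p)) := by
    intro p
    induction p using MvPolynomial.induction_on with
    | C r =>
      rw [← MvPolynomial.algebraMap_eq, Derivation.map_algebraMap, MvPolynomial.algebraMap_eq]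
      simp only [pderiv_C, map_zero]
      exact (π.map_zero).symm
    | add p q hp hq =>
      rw [map_add, hp, hq, ← π.map_add]
      congr 1
      funext k
      simp
    | mul_X p i hp =>
      rw [Derivation.leibniz, hp, show D₀ (X i) = π (e i) from mkDerivation_X _ _ _]
      rw [← algebraMap_smul S p (π (e i)), ← algebraMap_smul S (X i : MvPolynomial (Fin n) R)
        (π fun k => ψ (pderiv k p)), ← π.map_smul, ← π.map_smul, ← π.map_add]
      congr 1
      funext k
      show ψ p * e i k + ψ (X i) * ψ (pderiv k p) = ψ (pderiv k (p * X i))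
      rw [pderiv_mul, map_add, map_mul, map_mul, add_comm, mul_comm (ψ (X i))]
      congr 1
      by_cases hik : i = k
      · subst hik; simp [e]
      · simp [e, pderiv_X, Ne.symm hik]
  -- it kills the relations
  have hD₀I : ∀ x, φ x = 0 → D₀ x = 0 := by
    have hψI : ∀ x ∈ Ideal.span (Set.range f), ψ x = 0 := fun x hx => by
      have : φ x = 0 := by
        have : x ∈ RingHom.ker φ.toRingHom := hker ▸ hx
        exact this
      show algebraMap A S (φ x) = 0
      rw [this, map_zero]
    have hrows : ∀ j : Fin c, D₀ (f (Fin.castLE hcm j)) = 0 := fun j => by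
      rw [hD₀, show (fun k => ψ (pderiv k (f (Fin.castLE hcm j)))) = J (Pi.single j 1) from ?_, hπJ]
      funext k
      simp [J, M, Matrix.vecMul, dotProduct, Pi.single_apply]
    have hsmul : ∀ (g : MvPolynomial (Fin n) R) (v : Fin n → S), g • v = ψ g • v := fun g v => by
      rw [← algebraMap_smul S g v]
      rfl
    have hgen : ∀ l, D₀ (f l) = 0 := by
      intro l
      by_cases hl : (l : ℕ) < c
      · exact hrows ⟨l, hl⟩
      · obtain ⟨a', ha'⟩ := hφ a
        have h1 := hkill a' ha' l (not_lt.1 hl)
        have h2 : D₀ (a' * f l) = 0 := by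
          have key : ∀ x ∈ Ideal.span (f '' {j' : Fin m | (j' : ℕ) < c}) ⊔
              Ideal.span (Set.range f) ^ 2, D₀ x = 0 := by
            intro x hx
            obtain ⟨y, hy, z, hz, rfl⟩ := Submodule.mem_sup.1 hx
            clear hx
            rw [map_add]
            have hy' : D₀ y = 0 ∧ ψ y = 0 := by
              induction hy using Submodule.span_induction with
              | mem y hy =>
                obtain ⟨j, hj, rfl⟩ := hy
                exact ⟨hrows ⟨j, hj⟩, hψI _ (Ideal.subset_span ⟨j, rfl⟩)⟩
              | zero => simp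
              | add y z _ _ hy hz => simp [hy, hz]
              | smul r y _ hy =>
                refine ⟨?_, by simp [hy.2]⟩
                rw [smul_eq_mul, Derivation.leibniz, hy.1, hsmul y, hy.2]
                simp
            have hz' : D₀ z = 0 := by
              rw [pow_two] at hz
              refine Submodule.mul_induction_on hz (fun u hu v hv => ?_) (fun u v hu hv => ?_)
              · rw [Derivation.leibniz, hsmul u, hsmul v, hψI u hu, hψI v hv]
                simp
              · rw [map_add, hu, hv, add_zero]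
            rw [hy'.1, hz', add_zero]
          exact key _ h1
        rw [Derivation.leibniz, hsmul (f l), hψI _ (Ideal.subset_span ⟨l, rfl⟩), zero_smul,
          add_zero, hsmul] at h2
        have : ψ a' = algebraMap A S a := by rw [← ha']; rfl
        rw [this] at h2
        exact hu.smul_eq_zero.1 h2
    intro x hx
    have hx' : x ∈ Ideal.span (Set.range f) := hker ▸ hx
    clear hx
    induction hx' using Submodule.span_induction with
    | mem y hy => obtain ⟨l, rfl⟩ := hy; exact hgen l
    | zero => simp
    | add y z _ _ ih1 ih2 => rw [map_add, ih1, ih2, add_zero]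
    | smul r y hy ih =>
      rw [smul_eq_mul, Derivation.leibniz, ih, hsmul y, hψI y hy]
      simp
  -- descend to `A`
  let g : A → MvPolynomial (Fin n) R := Function.surjInv hφ
  have hg : ∀ x, φ (g x) = x := Function.surjInv_eq hφ
  have hD : ∀ x y, φ x = φ y → D₀ x = D₀ y := fun x y h => by
    rw [← sub_eq_zero, ← map_sub]
    exact hD₀I _ (by rw [map_sub, h, sub_self])
  let DA : Derivation R A (Fin n → S) :=
    { toFun := fun x => D₀ (g x)
      map_add' := fun x y => by
        rw [← map_add]
        exact hD _ _ (by simp [hg])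
      map_smul' := fun r x => by
        rw [RingHom.id_apply, ← Derivation.map_smul]
        exact hD _ _ (by simp [hg])
      map_one_eq_zero' := by
        show D₀ (g 1) = 0
        rw [hD (g 1) 1 (by simp [hg])]
        exact D₀.map_one_eq_zero
      leibniz' := fun x y => by
        show D₀ (g (x * y)) = x • D₀ (g y) + y • D₀ (g x)
        rw [hD (g (x * y)) (g x * g y) (by simp [hg]), Derivation.leibniz,
          ← algebraMap_smul S (g x) (D₀ (g y)), ← algebraMap_smul S (g y) (D₀ (g x)),
          ← algebraMap_smul S x (D₀ (g y)), ← algebraMap_smul S y (D₀ (g x))]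
        show algebraMap A S (φ (g x)) • _ + algebraMap A S (φ (g y)) • _ = _
        rw [hg, hg] }
  let kmap := KaehlerDifferential.map R R A S
  have hloc : IsLocalizedModule (Submonoid.powers a) kmap :=
    KaehlerDifferential.isLocalizedModule_map R A S (Submonoid.powers a)
  have hunit : ∀ s : Submonoid.powers a,
      IsUnit (algebraMap A (Module.End A (Fin n → S)) s) := fun s => by
    rw [Module.End.isUnit_iff]
    have hs : IsUnit (algebraMap A S s) := IsLocalization.map_units S s
    constructor
    · intro v w h
      have h' : algebraMap A S (s : A) • v = algebraMap A S (s : A) • w := by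
        rw [algebraMap_smul, algebraMap_smul]; exact h
      exact hs.smul_left_cancel.1 h'
    · intro v
      refine ⟨(↑hs.unit⁻¹ : S) • v, ?_⟩
      show (s : A) • ((↑hs.unit⁻¹ : S) • v) = v
      rw [← algebraMap_smul S (s : A), smul_smul, IsUnit.mul_val_inv, one_smul]
  let Θ₀ : Ω[S⁄R] →ₗ[A] (Fin n → S) :=
    IsLocalizedModule.lift (Submonoid.powers a) kmap DA.liftKaehlerDifferential hunit
  let Θ : Ω[S⁄R] →ₗ[S] (Fin n → S) := Θ₀.extendScalarsOfIsLocalization (Submonoid.powers a) S
  have hΘ : ∀ x : A, Θ (KaehlerDifferential.D R S (algebraMap A S x)) = D₀ (g x) := fun x => by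
    show Θ₀ _ = _
    rw [← KaehlerDifferential.map_D R R A S x]
    have := LinearMap.congr_fun
      (IsLocalizedModule.lift_comp (Submonoid.powers a) kmap DA.liftKaehlerDifferential hunit)
      (KaehlerDifferential.D R A x)
    rw [LinearMap.comp_apply, Derivation.liftKaehlerDifferential_comp_D] at this
    exact this
  let d : Fin n → Ω[S⁄R] := fun k => KaehlerDifferential.D R S (algebraMap A S (φ (X k)))
  let G : (Fin n → S) →ₗ[S] Ω[S⁄R] := Fintype.linearCombination S d
  have hG : ∀ p, G (fun k => ψ (pderiv k p)) = KaehlerDifferential.D R S (ψ p) := by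
    intro p
    induction p using MvPolynomial.induction_on with
    | C r =>
      rw [← MvPolynomial.algebraMap_eq, ψ.commutes, Derivation.map_algebraMap,
        MvPolynomial.algebraMap_eq]
      simp only [pderiv_C, map_zero]
      exact G.map_zero
    | add p q hp hq =>
      rw [map_add, map_add, ← hp, ← hq, ← G.map_add]
      congr 1
      funext k
      simp
    | mul_X p i hp =>
      rw [map_mul, Derivation.leibniz, ← hp]
      have : KaehlerDifferential.D R S (ψ (X i)) = G (e i) := by
        rw [show G (e i) = (1 : S) • d i from Fintype.linearCombination_apply_single S d i 1,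
          one_smul]
        rfl
      rw [this, ← G.map_smul, ← G.map_smul, ← G.map_add]
      congr 1
      funext k
      show ψ (pderiv k (p * X i)) = ψ p * e i k + ψ (X i) * ψ (pderiv k p)
      rw [pderiv_mul, map_add, map_mul, map_mul, add_comm, mul_comm (ψ (X i))]
      congr 1
      by_cases hik : i = k
      · subst hik; simp [e]
      · simp [e, pderiv_X, Ne.symm hik]
  have hGJ : ∀ w, G (J w) = 0 := by
    intro w
    rw [pi_eq_sum_univ w, map_sum, map_sum]
    refine Finset.sum_eq_zero fun j _ => ?_
    rw [map_smul, map_smul]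
    have : J (fun k => if j = k then (1 : S) else 0) = fun k => ψ (pderiv k (f (Fin.castLE hcm j))) := by
      funext k
      simp [J, M, Matrix.vecMul, dotProduct]
    rw [this, hG]
    have h0 : ψ (f (Fin.castLE hcm j)) = 0 := by
      have : f (Fin.castLE hcm j) ∈ RingHom.ker φ.toRingHom := hker ▸ Ideal.subset_span ⟨_, rfl⟩
      show algebraMap A S (φ _) = 0
      rw [show φ _ = 0 from this, map_zero]
    rw [h0, map_zero, smul_zero]
  have hGπ : ∀ v, G (π v) = G v := fun v => by simp [π, hGJ]
  have hΘd : ∀ k, Θ (d k) = π (e k) := fun k => by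
    rw [hΘ, hD (g (φ (X k))) (X k) (hg _)]
    exact mkDerivation_X _ _ _
  have hΘG : ∀ v, Θ (G v) = π v := by
    intro v
    rw [pi_eq_sum_univ v, map_sum, map_sum, map_sum]
    refine Finset.sum_congr rfl fun k _ => ?_
    rw [map_smul, map_smul, map_smul]
    have he : (fun j => if k = j then (1 : S) else 0) = e k := by
      funext j
      simp [e, Pi.single_apply, eq_comm]
    rw [he, show G (e k) = (1 : S) • d k from Fintype.linearCombination_apply_single S d k 1,
      one_smul, hΘd]
  have hGΘ : ∀ ω, G (Θ ω) = ω := by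
    have : G ∘ₗ Θ = LinearMap.id := by
      refine LinearMap.restrictScalars_injective A ?_
      refine IsLocalizedModule.ext (Submonoid.powers a) kmap
        (fun s => ?_) ?_
      · exact IsLocalizedModule.map_units kmap s
      · refine Derivation.liftKaehlerDifferential_unique _ _ (Derivation.ext fun x => ?_)
        show G (Θ (kmap (KaehlerDifferential.D R A x))) = kmap (KaehlerDifferential.D R A x)
        rw [KaehlerDifferential.map_D, hΘ, hD₀, hGπ, hG]
        show KaehlerDifferential.D R S (algebraMap A S (φ (g x))) = _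
        rw [hg]
    exact LinearMap.congr_fun this
  have hLπ : ∀ v, L (π v) = 0 := fun v => by simp [π, hLJ]
  have hπG : ∀ ω, π (Θ ω) = Θ ω := fun ω => by
    conv_rhs => rw [← hGΘ ω, hΘG]
  refine ⟨c, n, ⟨LinearEquiv.ofLinearMap (LinearMap.coprod Θ J) (LinearMap.prod G L) ?_ ?_⟩⟩
  · refine LinearMap.ext fun v => ?_
    show Θ (G v) + J (L v) = v
    rw [hΘG]
    simp [π]
  · refine LinearMap.ext fun p => Prod.ext ?_ ?_
    · show G (Θ p.1 + J p.2) = p.1
      rw [map_add, hGΘ, hGJ, add_zero]
    · show L (Θ p.1 + J p.2) = p.2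
      rw [map_add, hLJ, ← hπG p.1, hLπ, zero_add]

end Smoothing
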