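import Groth.Agent.Lib.Smoothing.LocalStandard
import Groth.Agent.Lib.Smoothing.Lifting
import Groth.Agent.Lib.Smoothing.StablyFree
import Groth.Agent.Lib.Smoothing.LiftingMain

set_option autoImplicit false
set_option backward.isDefEq.respectTransparency false

/-! The desingularization lemma. -/

open MvPolynomial

namespace Smoothing

universe u

lemma exists_taylor {R : Type*} [CommRing R] {n : ℕ} (a : Fin n → R) (k : R)
    (p : MvPolynomial (Fin n) R) : ∃ Q : MvPolynomial (Fin n) R,
      aeval (fun i => MvPolynomial.C (a i) + MvPolynomial.C k * X i) p =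
        MvPolynomial.C (eval a p) +
          MvPolynomial.C k * ∑ i, MvPolynomial.C (eval a (pderiv i p)) * X i +
          MvPolynomial.C (k ^ 2) * Q := by
  induction p using MvPolynomial.induction_on with
  | C r => exact ⟨0, by simp⟩
  | add p q hp hq =>
    obtain ⟨Q₁, h₁⟩ := hp
    obtain ⟨Q₂, h₂⟩ := hq
    refine ⟨Q₁ + Q₂, ?_⟩
    simp only [map_add, h₁, h₂, add_mul, Finset.sum_add_distrib]
    ring
  | mul_X p j hp =>
    obtain ⟨Q, h⟩ := hp
    refine ⟨(∑ i, MvPolynomial.C (eval a (pderiv i p)) * X i) * X j +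
      Q * (MvPolynomial.C (a j) + MvPolynomial.C k * X j), ?_⟩
    have hs : ∑ i, MvPolynomial.C (eval a (pderiv i (p * X j))) * X i =
        (∑ i, MvPolynomial.C (eval a (pderiv i p)) * X i) * MvPolynomial.C (a j) +
          MvPolynomial.C (eval a p) * X j := by
      simp only [pderiv_mul, map_add, map_mul, eval_X, add_mul, Finset.sum_add_distrib,
        Finset.sum_mul]
      congr 1
      · exact Finset.sum_congr rfl fun i _ => by ring
      · simp [pderiv_X, Pi.single_apply, apply_ite (eval a)]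
    rw [map_mul, h, aeval_X, hs, map_mul, eval_X]
    simp only [map_pow, map_mul]
    ring

variable {R : Type u} [CommRing R] {n m c : ℕ}

/-- the substitution `x = a + π²(Ny + πv)` -/
noncomputable def desX (π : R) (a : Fin n → R) (Nm : Fin n → Fin c → R) :
    Fin n → MvPolynomial (Fin (n + c)) R :=
  fun i => MvPolynomial.C (a i) + MvPolynomial.C (π ^ 2) *
    (∑ j, MvPolynomial.C (Nm i j) * X (Fin.natAdd n j) + MvPolynomial.C π * X (Fin.castAdd c i))

/-- the equations -/
noncomputable def desH (π : R) (a : Fin n → R) (Nm : Fin n → Fin c → R) (u : R) (s : Fin c → R)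
    (fr : Fin c → MvPolynomial (Fin n) R) (Qt : Fin c → MvPolynomial (Fin n) R) :
    Fin c → MvPolynomial (Fin (n + c)) R :=
  fun j => MvPolynomial.C (π * s j) + MvPolynomial.C u * X (Fin.natAdd n j) +
    ∑ i, MvPolynomial.C (eval a (pderiv i (fr j))) * X (Fin.castAdd c i) +
    MvPolynomial.C π * aeval (fun i => ∑ j, MvPolynomial.C (Nm i j) * X (Fin.natAdd n j) +
      MvPolynomial.C π * X (Fin.castAdd c i)) (Qt j)

lemma desH_eq (π : R) (a : Fin n → R) (Nm : Fin n → Fin c → R) (u e : R) (he : e = π * u)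
    {fr : Fin c → MvPolynomial (Fin n) R}
    (hMN : ∀ j k, ∑ i, eval a (pderiv i (fr j)) * Nm i k = if j = k then e else 0)
    (s : Fin c → R) (hs : ∀ j, eval a (fr j) = π ^ 4 * s j)
    (Qt : Fin c → MvPolynomial (Fin n) R)
    (hQt : ∀ j, aeval (fun i => MvPolynomial.C (a i) + MvPolynomial.C (π ^ 2) * X i) (fr j) =
      MvPolynomial.C (eval a (fr j)) +
        MvPolynomial.C (π ^ 2) * ∑ i, MvPolynomial.C (eval a (pderiv i (fr j))) * X i +
        MvPolynomial.C ((π ^ 2) ^ 2) * Qt j) (j : Fin c) :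
    aeval (desX π a Nm) (fr j) = MvPolynomial.C (π ^ 3) * desH π a Nm u s fr Qt j := by
  let V : Fin n → MvPolynomial (Fin (n + c)) R := fun i =>
    ∑ j, MvPolynomial.C (Nm i j) * X (Fin.natAdd n j) + MvPolynomial.C π * X (Fin.castAdd c i)
  have hcomp : (aeval V).comp (aeval fun i => MvPolynomial.C (a i) + MvPolynomial.C (π ^ 2) * X i) =
      aeval (desX π a Nm) := by
    refine MvPolynomial.algHom_ext fun i => ?_
    simp [desX, V, ← MvPolynomial.algebraMap_eq]
  rw [← AlgHom.congr_fun hcomp, AlgHom.comp_apply, hQt]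
  have hsum : ∑ i, MvPolynomial.C (eval a (pderiv i (fr j))) * V i =
      MvPolynomial.C e * X (Fin.natAdd n j) + MvPolynomial.C π *
        ∑ i, MvPolynomial.C (eval a (pderiv i (fr j))) * X (Fin.castAdd c i) := by
    simp only [V, mul_add, Finset.sum_add_distrib, Finset.mul_sum]
    congr 1
    · rw [Finset.sum_comm]
      simp only [← mul_assoc, ← map_mul, ← Finset.sum_mul, ← map_sum, hMN, apply_ite
        (MvPolynomial.C : R → MvPolynomial (Fin (n + c)) R), map_zero, ite_mul, zero_mul,
        Finset.sum_ite_eq, Finset.mem_univ, if_true]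
    · exact Finset.sum_congr rfl fun i _ => by ring
  simp only [map_add, map_mul, map_sum, aeval_C, aeval_X, MvPolynomial.algebraMap_eq]
  rw [hsum, hs, he]
  simp only [desH, map_mul, map_pow]
  ring

theorem isSmoothAt_desing_of_notMem {B : Type u} [CommRing B] [Algebra R B] (π : R) (a : Fin n → R)
    (Nm : Fin n → Fin c → R) (hcm : c ≤ m) (f : Fin m → MvPolynomial (Fin n) R)
    (H : Fin c → MvPolynomial (Fin (n + c)) R)
    (hH : ∀ j, aeval (desX π a Nm) (f (Fin.castLE hcm j)) = MvPolynomial.C (π ^ 3) * H j)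
    (mk : MvPolynomial (Fin (n + c)) R →ₐ[R] B) (hmk : Function.Surjective mk)
    (hker : RingHom.ker mk.toRingHom = Ideal.span (Set.range
      (Fin.append H fun l => aeval (desX π a Nm) (f l))))
    (hminor : ∀ (Q : Ideal B), Q.IsPrime → algebraMap R B π ∉ Q → ∃ cl : Fin c ↪ Fin n,
      mk (aeval (desX π a Nm) (jacobianMinor f (Fin.castLE hcm) cl)) ∉ Q)
    (hkill : ∀ l : Fin m, c ≤ (l : ℕ) → MvPolynomial.C π * f l ∈
      Ideal.span (Set.range (f ∘ Fin.castLE hcm)) ⊔ Ideal.span (Set.range f) ^ 2)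
    (Q : Ideal B) [Q.IsPrime] (hQ : algebraMap R B π ∉ Q) : Algebra.IsSmoothAt R Q := by
  classical
  obtain ⟨cl, hcl⟩ := hminor Q inferInstance hQ
  let θ : MvPolynomial (Fin n) R →ₐ[R] MvPolynomial (Fin (n + c)) R := aeval (desX π a Nm)
  let g := Fin.append H fun l => θ (f l)
  let rows : Fin c ↪ Fin (c + m) := (Fin.castLEEmb hcm).trans (Fin.natAddEmb c)
  let cols : Fin c ↪ Fin (n + c) := cl.trans (Fin.castAddEmb c)
  have hπ : ∀ k : ℕ, mk (MvPolynomial.C π ^ k) ∉ Q := fun k h => hQ (by
    refine ‹Q.IsPrime›.mem_of_pow_mem k ?_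
    rwa [map_pow, ← MvPolynomial.algebraMap_eq, mk.commutes] at h)
  have hgr : ∀ i, g (rows i) = θ (f (Fin.castLE hcm i)) := fun i => by simp [g, rows]
  have hchain : ∀ (i : Fin n) p, pderiv (Fin.castAdd c i) (θ p) =
      MvPolynomial.C π ^ 3 * θ (pderiv i p) := by
    intro i p
    induction p using MvPolynomial.induction_on with
    | C r => simp [θ, ← MvPolynomial.algebraMap_eq]
    | add p q hp hq => simp only [map_add, hp, hq, mul_add]
    | mul_X p j hp =>
      have hd : pderiv (Fin.castAdd c i) (desX π a Nm j) =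
          MvPolynomial.C π ^ 3 * θ (pderiv i (X j)) := by
        have hne : ∀ k : Fin c, Fin.natAdd n k ≠ Fin.castAdd c i := fun k h => by
          have h1 := congrArg Fin.val h
          simp at h1
          omega
        by_cases hij : j = i
        · subst hij
          simp [desX, pderiv_mul, pderiv_X_of_ne (hne _), θ]
          ring
        · have hne' : Fin.castAdd c j ≠ Fin.castAdd c i := fun h => hij (Fin.castAdd_injective _ _ h)
          simp [desX, pderiv_mul, pderiv_X_of_ne (hne _), pderiv_X_of_ne hne', pderiv_X_of_ne hij, θ]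
      simp only [pderiv_mul, map_add, map_mul, hp]
      rw [show θ (X j) = desX π a Nm j from aeval_X _ _, hd]
      ring
  have hΔ : jacobianMinor g rows cols =
      (MvPolynomial.C π ^ 3) ^ c * θ (jacobianMinor f (Fin.castLE hcm) cl) := by
    rw [jacobianMinor, jacobianMinor, AlgHom.map_det]
    have : (Matrix.of fun j k => pderiv (cols k) (g (rows j))) =
        ((MvPolynomial.C π : MvPolynomial (Fin (n + c)) R) ^ 3) •
        θ.mapMatrix (Matrix.of fun j k => pderiv (cl k) (f (Fin.castLE hcm j))) := by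
      refine Matrix.ext fun j k => ?_
      simp only [Matrix.of_apply, hgr, Matrix.smul_apply, AlgHom.mapMatrix_apply, Matrix.map_apply,
        smul_eq_mul]
      exact hchain (cl k) _
    rw [this, Matrix.det_smul, Fintype.card_fin]
  refine isSmoothAt_of_kill g mk hmk hker Q rows cols ?_ fun ℓ => ?_
  · rw [hΔ, map_mul, ← pow_mul]
    exact fun h => (‹Q.IsPrime›.mem_or_mem h).elim (hπ _) hcl
  · refine Fin.addCases (fun j => ?_) (fun l => ?_) ℓ
    · refine ⟨MvPolynomial.C π ^ 3, hπ 3, Ideal.mem_sup_left ?_⟩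
      have : MvPolynomial.C π ^ 3 * g (Fin.castAdd m j) = g (rows j) := by
        rw [hgr]
        simp only [g, Fin.append_left, θ, hH, map_pow]
      rw [this]
      exact Ideal.subset_span ⟨j, rfl⟩
    · by_cases hl : (l : ℕ) < c
      · refine ⟨1, fun h => ‹Q.IsPrime›.ne_top (Ideal.eq_top_of_isUnit_mem _ h (by simp)),
          Ideal.mem_sup_left ?_⟩
        rw [one_mul, show Fin.natAdd c l = rows ⟨l, hl⟩ from rfl]
        exact Ideal.subset_span ⟨⟨l, hl⟩, rfl⟩
      · refine ⟨MvPolynomial.C π, by simpa using hπ 1, ?_⟩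
        have h1 := Ideal.mem_map_of_mem θ.toRingHom (hkill l (not_lt.1 hl))
        rw [Ideal.map_sup, Ideal.map_pow, Ideal.map_span, Ideal.map_span, ← Set.range_comp,
          ← Set.range_comp] at h1
        have h2 : θ.toRingHom (MvPolynomial.C π * f l) = MvPolynomial.C π * g (Fin.natAdd c l) := by
          show θ (_ * _) = _
          rw [map_mul, ← MvPolynomial.algebraMap_eq, θ.commutes]
          simp [g]
        rw [h2] at h1
        refine SetLike.le_def.1 (sup_le_sup (α := Ideal (MvPolynomial (Fin (n + c)) R))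
          (Ideal.span_mono ?_) (Ideal.pow_right_mono (Ideal.span_mono ?_) 2)) h1
        · rintro _ ⟨i, rfl⟩
          exact ⟨i, hgr i⟩
        · rintro _ ⟨i, rfl⟩
          exact ⟨Fin.natAdd c i, by simp [g]⟩

theorem isSmoothAt_desing_of_mem {B : Type u} [CommRing B] [Algebra R B] (π r : R)
    (hr : ∀ x : R, π ^ 2 * x = 0 → π * (r * x) = 0) (a : Fin n → R) (Nm : Fin n → Fin c → R)
    (u r₀ : R) (hu : u = 1 + π * r₀) (hcm : c ≤ m) (f : Fin m → MvPolynomial (Fin n) R)
    (sf : Fin m → R) (hsf : ∀ l, eval a (f l) = π ^ 2 * sf l) (Qf : Fin m → MvPolynomial (Fin n) R)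
    (hQf : ∀ l, aeval (fun i => MvPolynomial.C (a i) + MvPolynomial.C (π ^ 2) * X i) (f l) =
      MvPolynomial.C (eval a (f l)) + MvPolynomial.C (π ^ 2) * Qf l)
    (s : Fin c → R) (Qt : Fin c → MvPolynomial (Fin n) R)
    (hH : ∀ j, aeval (desX π a Nm) (f (Fin.castLE hcm j)) =
      MvPolynomial.C (π ^ 3) * desH π a Nm u s (f ∘ Fin.castLE hcm) Qt j)
    (mk : MvPolynomial (Fin (n + c)) R →ₐ[R] B) (hmk : Function.Surjective mk)
    (hker : RingHom.ker mk.toRingHom = Ideal.span (Set.range
      (Fin.append (desH π a Nm u s (f ∘ Fin.castLE hcm) Qt) fun l => aeval (desX π a Nm) (f l))))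
    (hkill : ∀ l : Fin m, c ≤ (l : ℕ) → MvPolynomial.C π * f l ∈
      Ideal.span (Set.range (f ∘ Fin.castLE hcm)) ⊔ Ideal.span (Set.range f) ^ 2)
    (Q : Ideal B) [Q.IsPrime] (hQπ : algebraMap R B π ∈ Q) (hQr : algebraMap R B r ∉ Q) :
    Algebra.IsSmoothAt R Q := by
  classical
  let θ : MvPolynomial (Fin n) R →ₐ[R] MvPolynomial (Fin (n + c)) R := aeval (desX π a Nm)
  let H := desH π a Nm u s (f ∘ Fin.castLE hcm) Qt
  let g := Fin.append H fun l => θ (f l)
  let q : Ideal (MvPolynomial (Fin (n + c)) R) := Q.comap mk.toRingHom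
  haveI : q.IsPrime := Ideal.IsPrime.comap _
  have hqC : ∀ x : R, MvPolynomial.C x ∈ q ↔ algebraMap R B x ∈ Q := fun x => by
    rw [← mk.commutes x]
    rfl
  have hgq : ∀ i, g i ∈ q := fun i => by
    have : g i ∈ RingHom.ker mk.toRingHom := hker ▸ Ideal.subset_span ⟨i, rfl⟩
    show mk.toRingHom (g i) ∈ Q
    rw [show mk.toRingHom (g i) = 0 from this]
    exact Q.zero_mem
  let cols : Fin c ↪ Fin (n + c) := Fin.natAddEmb n
  have hPd : ∀ j k, pderiv (Fin.natAdd n k) (H j) -
      (if j = k then (1 : MvPolynomial (Fin (n + c)) R) else 0) ∈ q := by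
    intro j k
    have hπq : MvPolynomial.C π ∈ q := (hqC π).2 hQπ
    have hne : ∀ i : Fin n, Fin.castAdd c i ≠ Fin.natAdd n k := fun i h => by
      have h1 := congrArg Fin.val h
      simp at h1
      omega
    have hX : ∀ i : Fin n, pderiv (Fin.natAdd n k)
        (X (Fin.castAdd c i) : MvPolynomial (Fin (n + c)) R) = 0 := fun i => pderiv_X_of_ne (hne i)
    simp only [H, desH, map_add, map_sum, pderiv_C, zero_add, pderiv_mul, zero_mul, hX, mul_zero,
      Finset.sum_const_zero, add_zero]
    by_cases hjk : j = k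
    · subst hjk
      simp only [pderiv_X_self, mul_one, if_true, hu, map_add, map_one, map_mul]
      rw [show ∀ x y : MvPolynomial (Fin (n + c)) R, 1 + x + y - 1 = x + y from fun x y => by ring]
      exact add_mem (Ideal.mul_mem_right _ _ hπq) (Ideal.mul_mem_right _ _ hπq)
    · have hne' : Fin.natAdd n j ≠ Fin.natAdd n k := fun h => hjk (Fin.natAdd_injective c n h)
      simp only [pderiv_X_of_ne hne', mul_zero, if_neg hjk, sub_zero, zero_add]
      exact Ideal.mul_mem_right _ _ hπq
  have hΔ : jacobianMinor H id cols ∉ q := by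
    intro hin
    have h0 : Ideal.Quotient.mk q (jacobianMinor H id cols) = 0 := Ideal.Quotient.eq_zero_iff_mem.2 hin
    rw [jacobianMinor, RingHom.map_det] at h0
    have : (Ideal.Quotient.mk q).mapMatrix
        (Matrix.of fun j k => pderiv (cols k) (H (id j))) = 1 := by
      refine Matrix.ext fun j k => ?_
      have h1 : Ideal.Quotient.mk q (pderiv (Fin.natAdd n k) (H j)) =
          Ideal.Quotient.mk q (if j = k then 1 else 0) := Ideal.Quotient.eq.2 (hPd j k)
      refine h1.trans ?_
      by_cases hjk : j = k <;> simp [hjk, Matrix.one_apply]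
    rw [this, Matrix.det_one] at h0
    exact ‹q.IsPrime›.ne_top ((Ideal.eq_top_iff_one q).2 (Ideal.Quotient.eq_zero_iff_mem.1 (by
      rw [map_one]; exact h0)))
  obtain ⟨L, _, _, γ, hL, hflat, hγH, hγu, hγn, hγ0⟩ := exists_local_of_square H cols q
    (fun i => by simpa [g] using hgq (Fin.castAdd m i)) hΔ
  let p := γ (MvPolynomial.C π)
  have hp : algebraMap R L π = p := (γ.commutes π).symm
  have hru : IsUnit (γ (MvPolynomial.C r)) := hγu _ fun h => hQr ((hqC r).1 h)
  have hann : ∀ y : L, p ^ 3 * y = 0 → p ^ 2 * y = 0 := by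
    intro y hy
    obtain ⟨k, b, z, hz, hb⟩ := Module.Flat.isTrivialRelation_of_sum_smul_eq_zero
      (f := fun _ : Unit => π ^ 2) (x := fun _ : Unit => p * y) (by
        simp only [Finset.univ_unique, Finset.sum_singleton, Algebra.smul_def, map_pow, hp]
        linear_combination hy)
    have hy2 : p * y = ∑ j, b () j • z j := hz ()
    apply hru.mul_right_eq_zero.1
    have : γ (MvPolynomial.C r) * (p ^ 2 * y) = (π * r) • (p * y) := by
      rw [Algebra.smul_def, map_mul, hp, show algebraMap R L r = γ (MvPolynomial.C r) from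
        (γ.commutes r).symm]
      ring
    rw [this, hy2, Finset.smul_sum]
    refine Finset.sum_eq_zero fun j _ => ?_
    have : π ^ 2 * b () j = 0 := by simpa using hb j
    rw [smul_smul, mul_assoc, hr _ this, zero_smul]
  let Fv : Fin m → L := fun l => γ (θ (f l))
  let V : Fin n → MvPolynomial (Fin (n + c)) R := fun i =>
    ∑ j, MvPolynomial.C (Nm i j) * X (Fin.natAdd n j) + MvPolynomial.C π * X (Fin.castAdd c i)
  have hcomp : (aeval V).comp (aeval fun i => MvPolynomial.C (a i) + MvPolynomial.C (π ^ 2) * X i) =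
      θ := by
    refine MvPolynomial.algHom_ext fun i => ?_
    simp [θ, desX, V, ← MvPolynomial.algebraMap_eq]
  let K : Fin m → L := fun l => γ (MvPolynomial.C (sf l)) + γ (aeval V (Qf l))
  have hFK : ∀ l, Fv l = p ^ 2 * K l := fun l => by
    show γ (θ (f l)) = _
    rw [← hcomp, AlgHom.comp_apply, hQf, hsf]
    simp only [map_add, map_mul, map_pow, aeval_C, MvPolynomial.algebraMap_eq, p, K]
    ring
  have hrow : ∀ j : Fin c, Fv (Fin.castLE hcm j) = 0 := fun j => by
    show γ (θ (f (Fin.castLE hcm j))) = 0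
    rw [show θ (f (Fin.castLE hcm j)) = MvPolynomial.C (π ^ 3) * H j from hH j, map_mul γ, hγH,
      mul_zero]
  have hF0 : ∀ l, Fv l = 0 := by
    have key : ∀ l, ∃ Mr : Fin m → L, (∀ k, Mr k ∈ IsLocalRing.maximalIdeal L) ∧
        1 * Fv l = ∑ k, Mr k * Fv k := by
      intro l
      by_cases hl : (l : ℕ) < c
      · refine ⟨0, fun k => zero_mem _, ?_⟩
        rw [show l = Fin.castLE hcm ⟨l, hl⟩ from rfl, hrow]
        simp
      · obtain ⟨y, hy, z, hz, hyz⟩ := Submodule.mem_sup.1 (hkill l (not_lt.1 hl))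
        obtain ⟨w, hw⟩ := exists_sum_mul_sum_of_mem_sq f hz
        obtain ⟨co, hco⟩ := (Submodule.mem_span_range_iff_exists_fun _).1 hy
        let W : Fin m → Fin m → L := fun j k => γ (θ (w j k))
        have h1 : p * Fv l = ∑ j, ∑ k, W j k * (Fv j * Fv k) := by
          have h2 := congrArg (γ.comp θ) hyz
          rw [map_add, ← hco, ← hw] at h2
          simp only [AlgHom.comp_apply, map_sum, map_mul, smul_eq_mul, Function.comp_apply] at h2
          rw [show γ (θ (MvPolynomial.C π)) = p from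
            (congrArg γ (θ.commutes π)), Finset.sum_eq_zero (fun j _ => by
              rw [show γ (θ (f (Fin.castLE hcm j))) = 0 from hrow j, mul_zero]), zero_add] at h2
          exact h2.symm
        have h3 : p ^ 3 * (K l - p * ∑ j, ∑ k, W j k * (K j * K k)) = 0 := by
          have h4 : ∑ j, ∑ k, W j k * (Fv j * Fv k) = p ^ 4 * ∑ j, ∑ k, W j k * (K j * K k) := by
            simp only [Finset.mul_sum]
            exact Finset.sum_congr rfl fun j _ => Finset.sum_congr rfl fun k _ => by
              rw [hFK j, hFK k]; ring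
          rw [h4, hFK] at h1
          linear_combination h1
        have h5 := hann _ h3
        refine ⟨fun k => p * ∑ j, W j k * K j, fun k => Ideal.mul_mem_right _ _ ?_, ?_⟩
        · exact hγn _ ((hqC π).2 hQπ)
        · rw [one_mul]
          have h6 : ∑ k, p * (∑ j, W j k * K j) * Fv k =
              p ^ 3 * ∑ j, ∑ k, W j k * (K j * K k) := by
            simp only [Finset.mul_sum, Finset.sum_mul]
            rw [Finset.sum_comm]
            exact Finset.sum_congr rfl fun j _ => Finset.sum_congr rfl fun k _ => by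
              rw [hFK k]; ring
          rw [h6, hFK]
          linear_combination h5
    choose Mr hMr hMr' using key
    exact eq_zero_of_mul_eq_sum_maximal 1 isUnit_one Fv Mr hMr hMr'
  refine isSmoothAt_of_kill g mk hmk hker Q (Fin.castAddEmb m) cols ?_ fun ℓ => ?_
  · have : jacobianMinor g (Fin.castAddEmb m) cols = jacobianMinor H id cols := by
      simp [jacobianMinor, g]
    rw [this]
    exact hΔ
  · have h0 : γ (g ℓ) = 0 := by
      refine Fin.addCases (fun j => ?_) (fun l => ?_) ℓ
      · simp only [g, Fin.append_left]; exact hγH j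
      · simp only [g, Fin.append_right]; exact hF0 l
    obtain ⟨t, ht, ht'⟩ := hγ0 _ h0
    refine ⟨t, ht, Ideal.mem_sup_left (Ideal.span_mono ?_ ht')⟩
    rintro _ ⟨i, rfl⟩
    exact ⟨i, by simp [g]⟩

theorem desingularize {Λ A : Type u} [CommRing Λ]
    [Algebra R Λ] (π : R) (hΛ : ∀ x : Λ, π ^ 2 • x = 0 → π • x = 0) [CommRing A] [Algebra R A]
    (φ : A →ₐ[R] Λ)
    (hπ : IsStrictlyStandard R A (algebraMap R A π))
    (ρ : A →ₐ[R] R ⧸ Ideal.span {π ^ 4})
    (hρ : ∀ (a : A) (r : R), Ideal.Quotient.mk (Ideal.span {π ^ 4}) r = ρ a →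
      algebraMap R Λ r - φ a ∈ Ideal.span {algebraMap R Λ (π ^ 4)}) :
    ∃ (B : Type u) (_ : CommRing B) (_ : Algebra R B), Algebra.FinitePresentation R B ∧
      ∃ (α : A →ₐ[R] B) (β : B →ₐ[R] Λ), β.comp α = φ ∧
        ∀ r : R, (∀ x : R, π ^ 2 * x = 0 → π * (r * x) = 0) →
          algebraMap R B r ∈ singularIdeal R B := by
  classical
  obtain ⟨⟨n, m, c, hcn, hcm, f, φA, hφA, hker⟩, hmem, hkill⟩ := hπ
  dsimp only at hmem hkill
  choose a ha using fun i => Ideal.Quotient.mk_surjective (ρ (φA (X i)))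
  have hev : ∀ p, Ideal.Quotient.mk (Ideal.span {π ^ 4}) (eval a p) = ρ (φA p) := by
    intro p
    have : (Ideal.Quotient.mkₐ R (Ideal.span {π ^ 4})).comp (aeval a) = ρ.comp φA := by
      refine MvPolynomial.algHom_ext fun i => ?_
      simp [ha]
    exact AlgHom.congr_fun this p
  have hf0 : ∀ l, φA (f l) = 0 := fun l => by
    have : f l ∈ RingHom.ker φA.toRingHom := hker ▸ Ideal.subset_span ⟨l, rfl⟩
    exact this
  choose s4 hs4 using fun l => Ideal.mem_span_singleton'.1
    (Ideal.Quotient.eq_zero_iff_mem.1 ((hev (f l)).trans (by rw [hf0, map_zero])))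
  obtain ⟨α', hα'⟩ := (Submodule.mem_span_range_iff_exists_fun _).1 hmem
  choose αp hαp using fun cl => hφA (α' cl)
  let det : (Fin c → Fin n) → MvPolynomial (Fin n) R := jacobianMinor f (Fin.castLE hcm)
  have hdetA : φA (∑ cl, αp cl * det cl) = algebraMap R A π := by
    rw [map_sum, ← hα']
    exact Finset.sum_congr rfl fun cl _ => by rw [map_mul, hαp]; rfl
  let e := eval a (∑ cl, αp cl * det cl)
  obtain ⟨r₀, hr₀⟩ := Ideal.mem_span_singleton'.1 (Ideal.Quotient.eq.1
    ((hev (∑ cl, αp cl * det cl)).trans (by rw [hdetA, AlgHom.commutes]; rfl)))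
  let M : Matrix (Fin c) (Fin n) R := Matrix.of fun j i => eval a (pderiv i (f (Fin.castLE hcm j)))
  obtain ⟨Nmat, hN⟩ := exists_right_inverse_of_mem_span_minors M e (by
    show eval a (∑ cl, αp cl * det cl) ∈ _
    rw [map_sum]
    refine Submodule.sum_mem _ fun cl _ => ?_
    rw [map_mul]
    refine Ideal.mul_mem_left _ _ (Ideal.subset_span ⟨cl, ?_⟩)
    show _ = eval a (jacobianMinor f (Fin.castLE hcm) cl)
    rw [jacobianMinor, RingHom.map_det]
    rfl)
  let Nm : Fin n → Fin c → R := fun i j => Nmat i j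
  let u : R := 1 + π * (π ^ 2 * r₀)
  have he : e = π * u := by
    show eval a (∑ cl, αp cl * det cl) = π * (1 + π * (π ^ 2 * r₀))
    linear_combination -hr₀
  choose Qt hQt using fun l => exists_taylor a (π ^ 2) (f l)
  let s : Fin c → R := fun j => s4 (Fin.castLE hcm j)
  let H := desH π a Nm u s (f ∘ Fin.castLE hcm) (fun j => Qt (Fin.castLE hcm j))
  have hH : ∀ j, aeval (desX π a Nm) (f (Fin.castLE hcm j)) = MvPolynomial.C (π ^ 3) * H j := by
    refine desH_eq π a Nm u e he (fr := f ∘ Fin.castLE hcm) (fun j k => ?_) s (fun j => ?_) _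
      (fun j => hQt _)
    · have := congrFun (congrFun hN j) k
      rw [Matrix.smul_apply, Matrix.one_apply, smul_eq_mul, mul_ite, mul_one, mul_zero] at this
      rw [← this, Matrix.mul_apply]
      rfl
    · show eval a (f (Fin.castLE hcm j)) = _
      rw [← hs4, mul_comm]
  let rel := Fin.append H fun l => aeval (desX π a Nm) (f l)
  let B := MvPolynomial (Fin (n + c)) R ⧸ Ideal.span (Set.range rel)
  let mk : MvPolynomial (Fin (n + c)) R →ₐ[R] B := Ideal.Quotient.mkₐ R _
  -- the map from `A`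
  have hαker : RingHom.ker φA.toRingHom ≤
      RingHom.ker (mk.comp (aeval (desX π a Nm))).toRingHom := by
    rw [hker, Ideal.span_le]
    rintro _ ⟨l, rfl⟩
    exact Ideal.Quotient.eq_zero_iff_mem.2 (Ideal.subset_span ⟨Fin.natAdd c l, by simp [rel]⟩)
  let α : A →ₐ[R] B := AlgHom.liftOfSurjective φA hφA (mk.comp (aeval (desX π a Nm))) hαker
  have hα : ∀ p, α (φA p) = mk (aeval (desX π a Nm) p) := fun p =>
    AlgHom.liftOfSurjective_apply φA hφA _ hαker p
  -- the map to `Λ`
  choose ν hν using fun i => Ideal.mem_span_singleton'.1 (hρ (φA (X i)) (a i) (ha i))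
  let β₀ : MvPolynomial (Fin (n + c)) R →ₐ[R] Λ :=
    aeval (Fin.append (fun i => π • (-ν i)) fun _ => 0)
  have hβC : ∀ x, β₀ (MvPolynomial.C x) = algebraMap R Λ x := fun x => β₀.commutes x
  have hβv : ∀ i, β₀ (X (Fin.castAdd c i)) = algebraMap R Λ π * (-ν i) := fun i => by
    simp [β₀, Algebra.smul_def]
  have hβy : ∀ j, β₀ (X (Fin.natAdd n j)) = 0 := fun j => by simp [β₀]
  have hβx : ∀ p, β₀ (aeval (desX π a Nm) p) = φ (φA p) := by
    intro p
    have : β₀.comp (aeval (desX π a Nm)) = φ.comp φA := by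
      refine MvPolynomial.algHom_ext fun i => ?_
      simp only [AlgHom.comp_apply, aeval_X, desX, map_add, map_mul, map_sum, hβC, hβv, hβy,
        mul_zero, Finset.sum_const_zero, zero_add]
      have h := hν i
      rw [map_pow] at h ⊢
      linear_combination -h
    exact AlgHom.congr_fun this p
  have hβH : ∀ j, β₀ (H j) = 0 := by
    intro j
    let V : Fin n → MvPolynomial (Fin (n + c)) R := fun i =>
      ∑ j, MvPolynomial.C (Nm i j) * X (Fin.natAdd n j) + MvPolynomial.C π * X (Fin.castAdd c i)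
    let Z : Λ := algebraMap R Λ (s j) +
      ∑ i, algebraMap R Λ (eval a (pderiv i (f (Fin.castLE hcm j)))) * (-ν i) +
      β₀ (aeval V (Qt (Fin.castLE hcm j)))
    have hHZ : β₀ (H j) = algebraMap R Λ π * Z := by
      simp only [H, desH, map_add, map_mul, map_sum, hβC, hβy, mul_zero, hβv, Z, mul_add,
        Finset.mul_sum, V, Function.comp_apply, add_zero]
      exact congrArg₂ _ (congrArg _ (Finset.sum_congr rfl fun i _ => by ring)) rfl
    have h0 : algebraMap R Λ (π ^ 3) * β₀ (H j) = 0 := by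
      have := congrArg β₀ (hH j)
      rw [hβx, hf0, map_zero, map_mul, hβC] at this
      exact this.symm
    rw [hHZ, map_pow] at h0
    have step : ∀ y : Λ, algebraMap R Λ π ^ 2 * y = 0 → algebraMap R Λ π * y = 0 := fun y hy => by
      have := hΛ y (by rw [Algebra.smul_def, map_pow]; exact hy)
      rwa [Algebra.smul_def] at this
    rw [hHZ]
    have e1 := step (algebraMap R Λ π ^ 2 * Z) (by linear_combination h0)
    have e2 := step (algebraMap R Λ π * Z) (by linear_combination e1)
    exact step Z (by linear_combination e2)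
  have hβI : Ideal.span (Set.range rel) ≤ RingHom.ker β₀.toRingHom := by
    rw [Ideal.span_le]
    rintro _ ⟨i, rfl⟩
    show β₀ (rel i) = 0
    refine Fin.addCases (fun j => ?_) (fun l => ?_) i
    · simp only [rel, Fin.append_left]; exact hβH j
    · simp only [rel, Fin.append_right]; rw [hβx, hf0, map_zero]
  refine ⟨B, inferInstance, inferInstance,
    Algebra.FinitePresentation.quotient ⟨Finset.univ.image rel, by simp⟩, α,
    Ideal.Quotient.liftₐ _ β₀ hβI, AlgHom.ext fun x => ?_, fun r hr => ?_⟩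
  · obtain ⟨p, rfl⟩ := hφA x
    rw [AlgHom.comp_apply, hα]
    exact hβx p
  have hkill' : ∀ l : Fin m, c ≤ (l : ℕ) → MvPolynomial.C π * f l ∈
      Ideal.span (Set.range (f ∘ Fin.castLE hcm)) ⊔ Ideal.span (Set.range f) ^ 2 := by
    intro l hl
    refine SetLike.le_def.1 (sup_le_sup_right (α := Ideal (MvPolynomial (Fin n) R))
      (Ideal.span_mono ?_) _) (hkill (MvPolynomial.C π) (φA.commutes π) l hl)
    rintro _ ⟨j, hj, rfl⟩
    exact ⟨⟨j, hj⟩, rfl⟩
  have hsmooth : ∀ (Q : Ideal B) [Q.IsPrime], algebraMap R B r ∉ Q → Algebra.IsSmoothAt R Q := by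
    intro Q _ hQr
    by_cases hQπ : algebraMap R B π ∈ Q
    · exact isSmoothAt_desing_of_mem π r hr a Nm u (π ^ 2 * r₀) rfl hcm f (fun l => π ^ 2 * s4 l)
        (fun l => by rw [← hs4]; ring)
        (fun l => (∑ i, MvPolynomial.C (eval a (pderiv i (f l))) * X i) +
          MvPolynomial.C (π ^ 2) * Qt l)
        (fun l => by rw [hQt, map_pow MvPolynomial.C (π ^ 2) 2]; ring)
        s (fun j => Qt (Fin.castLE hcm j)) hH mk Ideal.Quotient.mk_surjective Ideal.mk_ker hkill'
        Q hQπ hQr
    · refine isSmoothAt_desing_of_notMem π a Nm hcm f H hH mk Ideal.Quotient.mk_surjective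
        Ideal.mk_ker (fun Q' hQ' hπ' => ?_) hkill' Q hQπ
      by_contra! hc
      apply hπ'
      have hsumB : mk (aeval (desX π a Nm) (∑ cl, αp cl * det cl)) = algebraMap R B π := by
        rw [← hα, hdetA, AlgHom.commutes]
      rw [← hsumB, map_sum, map_sum]
      refine Q'.sum_mem fun cl _ => ?_
      rw [map_mul, map_mul]
      refine Q'.mul_mem_left _ ?_
      by_cases hinj : Function.Injective cl
      · exact hc ⟨cl, hinj⟩
      · have h0 : det cl = 0 := by
          obtain ⟨i, j, hij, hne⟩ : ∃ i j, cl i = cl j ∧ i ≠ j := by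
            simpa [Function.Injective] using hinj
          exact Matrix.det_zero_of_column_eq hne fun k => by simp [hij]
        rw [h0, map_zero, map_zero]
        exact Q'.zero_mem
  rw [singularIdeal, PrimeSpectrum.mem_vanishingIdeal]
  intro P hP
  by_contra hc
  exact hP (hsmooth P.asIdeal hc)

end Smoothing
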