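import Groth.Agent.Lib.Smoothing.Desing
import Groth.Agent.Lib.Smoothing.BaseChange
import Mathlib.RingTheory.Smooth.Flat

set_option autoImplicit false
set_option backward.isDefEq.respectTransparency false

open scoped TensorProduct

namespace Smoothing

universe u

/-- smoothness at a prime is transitive -/
theorem isSmoothAt_trans {R D B : Type u} [CommRing R] [CommRing D] [Algebra R D] [CommRing B]
    [Algebra R B] [Algebra D B] [IsScalarTower R D B] (Q : Ideal B) [Q.IsPrime]
    [Algebra.IsSmoothAt R (Q.comap (algebraMap D B))] [Algebra.IsSmoothAt D Q] :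
    Algebra.IsSmoothAt R Q := by
  let q := Q.comap (algebraMap D B)
  let Dq := Localization.AtPrime q
  let BQ := Localization.AtPrime Q
  let e : Dq →ₐ[D] BQ :=
    IsLocalization.liftAlgHom (M := q.primeCompl) (f := Algebra.ofId D BQ) (fun s => by
      show IsUnit (algebraMap D BQ (s : D))
      rw [IsScalarTower.algebraMap_apply D B BQ]
      exact IsLocalization.map_units BQ (⟨algebraMap D B s, s.2⟩ : Q.primeCompl))
  letI : Algebra Dq BQ := e.toRingHom.toAlgebra
  haveI : IsScalarTower D Dq BQ := IsScalarTower.of_algebraMap_eq fun x => (e.commutes x).symm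
  haveI : IsScalarTower R Dq BQ :=
    IsScalarTower.of_algebraMap_eq fun x => ((e.restrictScalars R).commutes x).symm
  haveI : Algebra.FormallySmooth R Dq := ‹Algebra.IsSmoothAt R (Q.comap (algebraMap D B))›
  haveI : Algebra.FormallySmooth D BQ := ‹Algebra.IsSmoothAt D Q›
  haveI : Algebra.FormallySmooth Dq BQ := Algebra.FormallySmooth.localization_base q.primeCompl
  exact Algebra.FormallySmooth.comp R Dq BQ

/-- elements of the singular ideal satisfy the annihilator condition up to a power -/
theorem exists_pow_ann {R D : Type u} [CommRing R] [IsNoetherianRing R] [CommRing D] [Algebra R D]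
    [Algebra.FinitePresentation R D] (π : R) (hR : ∀ r : R, π ^ 2 * r = 0 → π * r = 0) (r : D)
    (hr : r ∈ singularIdeal R D) : ∃ N : ℕ, ∀ x : D, algebraMap R D π ^ 2 * x = 0 →
      algebraMap R D π * (r ^ N * x) = 0 := by
  classical
  haveI : Algebra.Smooth R (Localization.Away r) :=
    Algebra.basicOpen_subset_smoothLocus_iff_smooth.1 fun p hp => by
      by_contra hc
      rw [singularIdeal, PrimeSpectrum.mem_vanishingIdeal] at hr
      exact hp (hr p hc)
  haveI : IsNoetherianRing D := Algebra.FiniteType.isNoetherianRing R D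
  let K : Ideal D := LinearMap.ker (LinearMap.mulLeft D (algebraMap R D π ^ 2))
  obtain ⟨s, hs⟩ := (IsNoetherian.noetherian K : K.FG)
  have hsK : ∀ x ∈ s, algebraMap R D π ^ 2 * x = 0 := fun x hx => by
    have : x ∈ K := hs ▸ Submodule.subset_span hx
    exact this
  have h1 : ∀ x ∈ s, ∃ N : ℕ, r ^ N * (algebraMap R D π * x) = 0 := by
    intro x hx
    have h2 : π ^ 2 • algebraMap D (Localization.Away r) x = 0 := by
      rw [Algebra.smul_def, IsScalarTower.algebraMap_apply R D (Localization.Away r), ← map_mul,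
        map_pow, hsK x hx, map_zero]
    have h3 := ann_eq_of_flat π hR _ h2
    rw [Algebra.smul_def, IsScalarTower.algebraMap_apply R D (Localization.Away r), ← map_mul] at h3
    obtain ⟨⟨_, N, rfl⟩, hN⟩ :=
      (IsLocalization.map_eq_zero_iff (Submonoid.powers r) (Localization.Away r) _).1 h3
    exact ⟨N, hN⟩
  choose N hN using h1
  refine ⟨∑ x : s, N x.1 x.2, fun x hx => ?_⟩
  have hxK : x ∈ Submodule.span D (s : Set D) := by rw [hs]; exact hx
  clear hx
  induction hxK using Submodule.span_induction with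
  | mem y hy =>
    obtain ⟨d, hd⟩ := Nat.exists_eq_add_of_le (Finset.single_le_sum (f := fun x : s => N x.1 x.2)
      (fun i _ => Nat.zero_le _) (Finset.mem_univ (⟨y, hy⟩ : s)))
    rw [hd, pow_add]
    linear_combination r ^ d * hN y hy
  | zero => simp
  | add y z _ _ hy hz => rw [mul_add, mul_add, hy, hz, add_zero]
  | smul c y _ hy => rw [smul_eq_mul]; linear_combination c * hy

theorem desingularize_strictly_standard {R Λ A D : Type u} [CommRing R] [IsNoetherianRing R]
    [CommRing Λ] [Algebra R Λ] (π : R) (hR : ∀ r : R, π ^ 2 * r = 0 → π * r = 0)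
    (hΛ : ∀ x : Λ, π ^ 2 • x = 0 → π • x = 0) [CommRing A] [Algebra R A]
    [CommRing D] [Algebra R D] [Algebra.FinitePresentation R D]
    (φ : A →ₐ[R] Λ) (δ : D →ₐ[R] Λ) (hπ : IsStrictlyStandard R A (algebraMap R A π))
    (ψ : A →ₐ[R] D ⧸ Ideal.span {algebraMap R D (π ^ 4)})
    (hψ : ∀ (a : A) (d : D), Ideal.Quotient.mk (Ideal.span {algebraMap R D (π ^ 4)}) d = ψ a →
      δ d - φ a ∈ Ideal.span {algebraMap R Λ (π ^ 4)}) :
    ∃ (B : Type u) (_ : CommRing B) (_ : Algebra R B) (_ : Algebra D B) (_ : IsScalarTower R D B),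
      Algebra.FinitePresentation R B ∧
      ∃ (α : A →ₐ[R] B) (β : B →ₐ[R] Λ), β.comp α = φ ∧
        β.comp (IsScalarTower.toAlgHom R D B) = δ ∧
        (singularIdeal R D).map (algebraMap D B) ≤ singularIdeal D B ∧
        (singularIdeal R D).map (algebraMap D B) ≤ singularIdeal R B := by
  classical
  letI : Algebra D Λ := δ.toRingHom.toAlgebra
  haveI : IsScalarTower R D Λ := IsScalarTower.of_algebraMap_eq fun r => (δ.commutes r).symm
  let p := algebraMap R D π
  have hp : ∀ k : ℕ, algebraMap R D (π ^ k) = p ^ k := fun k => map_pow _ _ _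
  have hsp : Ideal.span {algebraMap R D (π ^ 4)} = Ideal.span {p ^ 4} := by rw [hp]
  let A' := D ⊗[R] A
  let φ' : A' →ₐ[D] Λ := Algebra.TensorProduct.lift (Algebra.ofId D Λ) φ fun _ _ => Commute.all _ _
  have hπ' : IsStrictlyStandard D A' (algebraMap D A' p) := by
    have h1 := (isStandard_baseChange (R' := D) (algebraMap R A π)).2 hπ
    have : (1 : D) ⊗ₜ[R] algebraMap R A π = algebraMap D A' p := by
      rw [Algebra.TensorProduct.algebraMap_apply]
      show _ = algebraMap R D π ⊗ₜ[R] (1 : A)
      rw [Algebra.algebraMap_eq_smul_one π, Algebra.algebraMap_eq_smul_one π, TensorProduct.smul_tmul]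
    rwa [this] at h1
  let ψ' : A →ₐ[R] D ⧸ Ideal.span {p ^ 4} := (Ideal.quotientEquivAlgOfEq R hsp).toAlgHom.comp ψ
  let ρ : A' →ₐ[D] D ⧸ Ideal.span {p ^ 4} :=
    Algebra.TensorProduct.lift (Algebra.ofId D _) ψ' fun _ _ => Commute.all _ _
  have hΛ' : ∀ x : Λ, p ^ 2 • x = 0 → p • x = 0 := fun x hx => by
    rw [← hp, algebraMap_smul] at hx
    show algebraMap R D π • x = 0
    rw [algebraMap_smul]
    exact hΛ x hx
  have hρ : ∀ (a : A') (r : D), Ideal.Quotient.mk (Ideal.span {p ^ 4}) r = ρ a →
      algebraMap D Λ r - φ' a ∈ Ideal.span {algebraMap D Λ (p ^ 4)} := by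
    intro a r hr
    let I := Ideal.span {algebraMap D Λ (p ^ 4)}
    have hI : ∀ x ∈ Ideal.span {p ^ 4}, algebraMap D Λ x ∈ I := fun x hx => by
      obtain ⟨c, rfl⟩ := Ideal.mem_span_singleton'.1 hx
      rw [map_mul]
      exact Ideal.mul_mem_left _ _ (Ideal.mem_span_singleton_self _)
    induction a using TensorProduct.induction_on generalizing r with
    | zero =>
      rw [map_zero] at hr ⊢
      rw [sub_zero]
      exact hI r (Ideal.Quotient.eq_zero_iff_mem.1 hr)
    | tmul d a =>
      obtain ⟨e, he⟩ := Ideal.Quotient.mk_surjective (ψ a)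
      have h1 := hψ a e he
      have h2 : r - d * e ∈ Ideal.span {p ^ 4} := by
        refine Ideal.Quotient.eq.1 (hr.trans ?_)
        show ρ (d ⊗ₜ a) = _
        rw [Algebra.TensorProduct.lift_tmul, map_mul]
        congr 1
        show (Ideal.quotientEquivAlgOfEq R hsp) (ψ a) = _
        rw [← he]
        rfl
      have h3 : algebraMap D Λ r - φ' (d ⊗ₜ a) =
          algebraMap D Λ (r - d * e) + algebraMap D Λ d * (δ e - φ a) := by
        rw [Algebra.TensorProduct.lift_tmul, map_sub, map_mul]
        show _ - algebraMap D Λ d * φ a = _ + _ * (algebraMap D Λ e - φ a)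
        ring
      rw [h3]
      refine add_mem (hI _ h2) (Ideal.mul_mem_left _ _ ?_)
      show δ e - φ a ∈ Ideal.span {algebraMap D Λ (p ^ 4)}
      rw [← hp, ← IsScalarTower.algebraMap_apply R D Λ]
      exact h1
    | add x y hx hy =>
      obtain ⟨r₁, hr₁⟩ := Ideal.Quotient.mk_surjective (ρ x)
      have h2 : Ideal.Quotient.mk (Ideal.span {p ^ 4}) (r - r₁) = ρ y := by
        rw [map_sub, hr, hr₁, map_add, add_sub_cancel_left]
      have := add_mem (hx r₁ hr₁) (hy (r - r₁) h2)
      rw [map_sub] at this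
      rw [map_add]
      convert this using 1
      ring
  obtain ⟨B, _, _, hB, α', β', hαβ, hsing⟩ := desingularize p hΛ' φ' hπ' ρ hρ
  letI : Algebra R B := ((algebraMap D B).comp (algebraMap R D)).toAlgebra
  haveI : IsScalarTower R D B := IsScalarTower.of_algebraMap_eq fun _ => rfl
  haveI := hB
  have hDB : (singularIdeal R D).map (algebraMap D B) ≤ singularIdeal D B := by
    rw [Ideal.map_le_iff_le_comap]
    intro r hr
    obtain ⟨N, hN⟩ := exists_pow_ann π hR r hr
    have h1 := hsing (r ^ N) hN
    show algebraMap D B r ∈ singularIdeal D B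
    rw [singularIdeal, PrimeSpectrum.mem_vanishingIdeal] at h1 ⊢
    intro P hP
    have h2 := h1 P hP
    rw [map_pow] at h2
    exact P.2.mem_of_pow_mem N h2
  refine ⟨B, inferInstance, inferInstance, inferInstance, inferInstance,
    Algebra.FinitePresentation.trans R D B,
    (α'.restrictScalars R).comp Algebra.TensorProduct.includeRight, β'.restrictScalars R,
    AlgHom.ext fun a => ?_, AlgHom.ext fun d => β'.commutes d, hDB, ?_⟩
  · show β' (α' (1 ⊗ₜ a)) = φ a
    rw [show β' (α' (1 ⊗ₜ a)) = φ' (1 ⊗ₜ a) from AlgHom.congr_fun hαβ _,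
      Algebra.TensorProduct.lift_tmul]
    simp
  · rw [Ideal.map_le_iff_le_comap]
    intro r hr
    show algebraMap D B r ∈ singularIdeal R B
    rw [singularIdeal, PrimeSpectrum.mem_vanishingIdeal]
    intro P hP
    by_contra hc
    apply hP
    have hsD : Algebra.IsSmoothAt D P.asIdeal := by
      have h1 := hDB (Ideal.mem_map_of_mem _ hr)
      rw [singularIdeal, PrimeSpectrum.mem_vanishingIdeal] at h1
      by_contra hc'
      exact hc (h1 P hc')
    have hsR : Algebra.IsSmoothAt R (P.asIdeal.comap (algebraMap D B)) := by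
      rw [singularIdeal, PrimeSpectrum.mem_vanishingIdeal] at hr
      by_contra hc'
      exact hc (hr ⟨P.asIdeal.comap (algebraMap D B), Ideal.IsPrime.comap _⟩ hc')
    exact isSmoothAt_trans (R := R) (D := D) P.asIdeal

end Smoothing
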