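import Groth.Agent.Lib.Smoothing.Gradient
import Mathlib.RingTheory.Localization.Away.Basic
import Mathlib.RingTheory.Localization.Integer

set_option autoImplicit false
set_option backward.isDefEq.respectTransparency false

open MvPolynomial

namespace Smoothing

universe u

variable (S : Type u) [CommRing S]

/-- concatenation of tuples as a linear equivalence -/
noncomputable def appendEquiv (n q : ℕ) :
    ((Fin n → S) × (Fin q → S)) ≃ₗ[S] (Fin (n + q) → S) where
  toFun v := Fin.append v.1 v.2
  invFun v := (fun k => v (Fin.castAdd q k), fun j => v (Fin.natAdd n j))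
  map_add' v w := by
    funext i
    refine Fin.addCases (fun k => ?_) (fun j => ?_) i <;> simp
  map_smul' r v := by
    funext i
    refine Fin.addCases (fun k => ?_) (fun j => ?_) i <;> simp
  left_inv v := by ext <;> simp
  right_inv v := by
    funext i
    refine Fin.addCases (fun k => ?_) (fun j => ?_) i <;> simp

variable {R A : Type u} [CommRing R] [CommRing A] [Algebra R A]

/-- pad a presentation by variables mapped to zero -/
noncomputable def padHom {n : ℕ} (φ : MvPolynomial (Fin n) R →ₐ[R] A) (q : ℕ) :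
    MvPolynomial (Fin (n + q)) R →ₐ[R] A :=
  φ.comp (aeval (Fin.append X 0))

lemma padHom_rename {n : ℕ} (φ : MvPolynomial (Fin n) R →ₐ[R] A) (q : ℕ)
    (x : MvPolynomial (Fin n) R) : padHom φ q (rename (Fin.castAdd q) x) = φ x := by
  simp only [padHom, AlgHom.comp_apply, aeval_rename]
  congr 1
  have : (Fin.append X (0 : Fin q → MvPolynomial (Fin n) R)) ∘ Fin.castAdd q = X := by
    funext k; simp
  rw [this, aeval_X_left, AlgHom.id_apply]

lemma padHom_X_natAdd {n : ℕ} (φ : MvPolynomial (Fin n) R →ₐ[R] A) (q : ℕ) (j : Fin q) :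
    padHom φ q (X (Fin.natAdd n j)) = 0 := by
  simp [padHom]

lemma padHom_surjective {n : ℕ} (φ : MvPolynomial (Fin n) R →ₐ[R] A) (hφ : Function.Surjective φ)
    (q : ℕ) : Function.Surjective (padHom φ q) := fun x => by
  obtain ⟨x', rfl⟩ := hφ x
  exact ⟨_, padHom_rename φ q x'⟩

lemma ker_padHom {n m : ℕ} (φ : MvPolynomial (Fin n) R →ₐ[R] A) (q : ℕ)
    (f : Fin m → MvPolynomial (Fin n) R)
    (hker : RingHom.ker φ.toRingHom = Ideal.span (Set.range f)) :
    RingHom.ker (padHom φ q).toRingHom = Ideal.span (Set.range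
      (Fin.append (fun l => rename (Fin.castAdd q) (f l)) fun j => X (Fin.natAdd n j))) := by
  set J := Ideal.span (Set.range
    (Fin.append (fun l => rename (Fin.castAdd q) (f l)) fun j : Fin q =>
      (X (Fin.natAdd n j) : MvPolynomial (Fin (n + q)) R))) with hJ
  refine le_antisymm (fun z hz => ?_) (Ideal.span_le.2 ?_)
  · let θ : MvPolynomial (Fin (n + q)) R →ₐ[R] MvPolynomial (Fin n) R := aeval (Fin.append X 0)
    have h1 : ∀ z, z - rename (Fin.castAdd q) (θ z) ∈ J := by
      intro z
      have : (Ideal.Quotient.mkₐ R J) =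
          (Ideal.Quotient.mkₐ R J).comp ((rename (Fin.castAdd q)).comp θ) := by
        refine MvPolynomial.algHom_ext fun i => ?_
        refine Fin.addCases (fun k => ?_) (fun j => ?_) i
        · simp [θ]
        · simp only [AlgHom.comp_apply, θ, aeval_X, Fin.append_right, Pi.zero_apply, map_zero]
          exact Ideal.Quotient.eq_zero_iff_mem.2
            (Ideal.subset_span ⟨Fin.natAdd m j, by simp⟩)
      exact Ideal.Quotient.eq.1 (AlgHom.congr_fun this z)
    have h2 : θ z ∈ RingHom.ker φ.toRingHom := hz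
    rw [hker] at h2
    have h3 := Ideal.mem_map_of_mem (rename (R := R) (Fin.castAdd q : Fin n → Fin (n + q))).toRingHom h2
    rw [Ideal.map_span, ← Set.range_comp] at h3
    have h4 : rename (Fin.castAdd q) (θ z) ∈ J := by
      refine Ideal.span_mono ?_ h3
      rintro _ ⟨l, rfl⟩
      exact ⟨Fin.castAdd q l, by simp⟩
    simpa using add_mem (h1 z) h4
  · rintro _ ⟨i, rfl⟩
    refine Fin.addCases (fun l => ?_) (fun j => ?_) i
    · rw [Fin.append_left]
      show padHom φ q _ = 0
      rw [padHom_rename]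
      have : f l ∈ RingHom.ker φ.toRingHom := hker ▸ Ideal.subset_span ⟨l, rfl⟩
      exact this
    · rw [Fin.append_right]
      exact padHom_X_natAdd φ q j

variable {S} [Algebra R S] [Algebra A S] [IsScalarTower R A S]

lemma grad_padHom_rename {n : ℕ} (φ : MvPolynomial (Fin n) R →ₐ[R] A) (q : ℕ)
    (x : MvPolynomial (Fin n) R) :
    grad ((IsScalarTower.toAlgHom R A S).comp (padHom φ q)) (rename (Fin.castAdd q) x) =
      Fin.append (grad ((IsScalarTower.toAlgHom R A S).comp φ) x) 0 := by
  have h0 : ∀ j : Fin q, pderiv (Fin.natAdd n j) (rename (Fin.castAdd q) x) = 0 := fun j => by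
    induction x using MvPolynomial.induction_on with
    | C r => simp
    | add a b ha hb => simp [ha, hb]
    | mul_X a i ha =>
      have hne : Fin.castAdd q i ≠ Fin.natAdd n j := fun h => by
        have h1 := congrArg Fin.val h
        simp at h1
        omega
      simp [pderiv_mul, ha, pderiv_X_of_ne hne]
  funext i
  refine Fin.addCases (fun k => ?_) (fun j => ?_) i
  · rw [Fin.append_left, grad_apply, pderiv_rename (Fin.castAdd_injective n q)]
    show algebraMap A S (padHom φ q _) = algebraMap A S (φ _)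
    rw [padHom_rename]
    rfl
  · rw [Fin.append_right, grad_apply, h0, map_zero]
    rfl

lemma exists_numerators {n : ℕ} (φ : MvPolynomial (Fin n) R →ₐ[R] A) (hφ : Function.Surjective φ)
    (a : A) [IsLocalization.Away a S] {ι : Type*} [Finite ι] (s : ι → S) :
    ∃ (t : ℕ) (m : ι → MvPolynomial (Fin n) R), ∀ i,
      algebraMap A S a ^ t * s i = algebraMap A S (φ (m i)) := by
  obtain ⟨⟨_, t, rfl⟩, hb⟩ :=
    IsLocalization.exist_integer_multiples_of_finite (Submonoid.powers a) s
  choose x hx using hb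
  choose m hm using fun i => hφ (x i)
  refine ⟨t, m, fun i => ?_⟩
  rw [hm, hx i, Algebra.smul_def, map_pow]

/-- lifts of a basis of the (stabilised) conormal module -/
theorem exists_frame {n m : ℕ} (φ : MvPolynomial (Fin n) R →ₐ[R] A) (hφ : Function.Surjective φ)
    (f : Fin m → MvPolynomial (Fin n) R)
    (hker : RingHom.ker φ.toRingHom = Ideal.span (Set.range f)) (a : A) [IsLocalization.Away a S]
    (a' : MvPolynomial (Fin n) R) (ha : φ a' = a)
    (e₀ : ℕ) (h : Fin n → MvPolynomial (Fin n) R) (hh : ∀ k, φ (h k) = 0)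
    (hret : ∀ x, φ x = 0 →
      a' ^ e₀ * x - ∑ k, pderiv k x * h k ∈ RingHom.ker φ.toRingHom ^ 2)
    (p q : ℕ) (e : (Ω[S⁄R] × (Fin p → S)) ≃ₗ[S] (Fin q → S)) :
    ∃ (g : Fin (n + p) → MvPolynomial (Fin (n + q)) R)
      (L : (Fin (n + q) → S) →ₗ[S] (Fin (n + p) → S)),
      (∀ i, padHom φ q (g i) = 0) ∧
      (∀ i, L (grad ((IsScalarTower.toAlgHom R A S).comp (padHom φ q)) (g i)) = Pi.single i 1) ∧
      (∀ l, grad ((IsScalarTower.toAlgHom R A S).comp (padHom φ q))
          (Fin.append (fun l => rename (Fin.castAdd q) (f l)) (fun j => X (Fin.natAdd n j)) l) ∈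
        Submodule.span S (Set.range fun i =>
          grad ((IsScalarTower.toAlgHom R A S).comp (padHom φ q)) (g i))) := by
  classical
  let χ : MvPolynomial (Fin n) R →ₐ[R] S := (IsScalarTower.toAlgHom R A S).comp φ
  let χ' := (IsScalarTower.toAlgHom R A S).comp (padHom φ q)
  have hu : IsUnit (algebraMap A S a ^ e₀) := (IsLocalization.Away.algebraMap_isUnit a).pow e₀
  let C : (Fin n → S) →ₗ[S] (Fin n → S) :=
    (↑hu.unit⁻¹ : S) • Fintype.linearCombination S fun k => grad χ (h k)
  have hχ0 : ∀ x, φ x = 0 → χ x = 0 := fun x hx => by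
    show algebraMap A S (φ x) = 0
    rw [hx, map_zero]
  have hsum : ∀ x, φ x = 0 → algebraMap A S a ^ e₀ • grad χ x =
      ∑ k, χ (pderiv k x) • grad χ (h k) := by
    intro x hx
    have h1 := grad_eq_zero_of_mem_sq χ _ (fun y hy => hχ0 y hy) (hret x hx)
    rw [map_sub, map_sum, grad_mul, hχ0 x hx, zero_smul, add_zero, sub_eq_zero] at h1
    have e1 : χ (a' ^ e₀) = algebraMap A S a ^ e₀ := by
      show algebraMap A S (φ (a' ^ e₀)) = _
      rw [map_pow, ha, map_pow]
    rw [e1] at h1
    rw [h1]
    refine Finset.sum_congr rfl fun k _ => ?_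
    rw [grad_mul, hχ0 _ (hh k), zero_smul, add_zero]
  have hC : ∀ x, φ x = 0 → C (grad χ x) = grad χ x := by
    intro x hx
    show (↑hu.unit⁻¹ : S) • ∑ k, grad χ x k • grad χ (h k) = _
    simp only [grad_apply]
    rw [← hsum x hx, smul_smul, IsUnit.val_inv_mul, one_smul]
  have hCC : ∀ v, C (C v) = C v := fun v => by
    show C ((↑hu.unit⁻¹ : S) • ∑ k, v k • grad χ (h k)) = _
    rw [map_smul, map_sum]
    simp only [map_smul, hC _ (hh _)]
    rfl
  let π : (Fin n → S) →ₗ[S] (Fin n → S) := LinearMap.id - C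
  obtain ⟨Θ, G, hGΘ, hΘG, hG0, -⟩ := kaehler_split (Submonoid.powers a) φ hφ π
    (fun x hx => by
      show grad χ x - C (grad χ x) = 0
      rw [hC x hx, sub_self])
    (fun v G hG => by
      show G (v - C v) = G v
      rw [map_sub, show G (C v) = 0 from ?_, sub_zero]
      show G ((↑hu.unit⁻¹ : S) • ∑ k, v k • grad χ (h k)) = 0
      rw [map_smul, map_sum]
      simp only [map_smul]
      simp [χ, hG _ (hh _)])
  have hGC : ∀ v, G (C v) = 0 := fun v => by
    show G ((↑hu.unit⁻¹ : S) • ∑ k, v k • grad χ (h k)) = 0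
    rw [map_smul, map_sum]
    simp [χ, hG0 _ (hh _)]
  let K : Submodule S (Fin n → S) := LinearMap.range C
  have hCK : ∀ κ : K, C (κ : Fin n → S) = κ := by
    rintro ⟨_, v, rfl⟩
    exact hCC v
  have hπΘ : ∀ ω, C (Θ ω) = 0 := fun ω => by
    have h1 : Θ ω = π (Θ ω) := by rw [← hΘG, hGΘ]
    have h2 : Θ ω = Θ ω - C (Θ ω) := h1
    exact sub_eq_self.1 h2.symm
  let E₁ : (Fin n → S) ≃ₗ[S] (K × Ω[S⁄R]) := LinearEquiv.ofLinearMap
    (LinearMap.prod C.rangeRestrict G) (LinearMap.coprod K.subtype Θ)
    (LinearMap.ext fun x => Prod.ext (Subtype.ext <| by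
        show C ((x.1 : Fin n → S) + Θ x.2) = _
        rw [map_add, hCK, hπΘ, add_zero]; rfl)
      (by
        show G ((x.1 : Fin n → S) + Θ x.2) = _
        rw [map_add, hGΘ, ← hCK x.1, hGC, zero_add]; rfl))
    (LinearMap.ext fun v => by
      show C v + Θ (G v) = v
      rw [hΘG]
      simp [π])
  let E : (K × (Fin q → S)) ≃ₗ[S] (Fin (n + p) → S) :=
    (LinearEquiv.prodCongr (LinearEquiv.refl S K) e.symm) ≪≫ₗ
      (LinearEquiv.prodAssoc S K (Ω[S⁄R]) (Fin p → S)).symm ≪≫ₗ
      (LinearEquiv.prodCongr E₁.symm (LinearEquiv.refl S (Fin p → S))) ≪≫ₗ appendEquiv S n p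
  let ι : (K × (Fin q → S)) →ₗ[S] (Fin (n + q) → S) :=
    (appendEquiv S n q).toLinearMap ∘ₗ LinearMap.prodMap K.subtype LinearMap.id
  let P : (Fin (n + q) → S) →ₗ[S] (K × (Fin q → S)) :=
    LinearMap.prodMap C.rangeRestrict LinearMap.id ∘ₗ (appendEquiv S n q).symm.toLinearMap
  have hPι : ∀ x, P (ι x) = x := fun x => by
    show LinearMap.prodMap C.rangeRestrict LinearMap.id
      ((appendEquiv S n q).symm ((appendEquiv S n q) ((x.1 : Fin n → S), x.2))) = x
    rw [LinearEquiv.symm_apply_apply]
    exact Prod.ext (Subtype.ext (hCK x.1)) rfl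
  let b : Fin (n + p) → K × (Fin q → S) := fun i => E.symm (Pi.single i 1)
  obtain ⟨t, num, hnum⟩ := exists_numerators φ hφ a
    (fun ik : Fin (n + p) × (Fin n ⊕ Fin q) => Sum.elim ((b ik.1).1 : Fin n → S) (b ik.1).2 ik.2)
  let g : Fin (n + p) → MvPolynomial (Fin (n + q)) R := fun i =>
    rename (Fin.castAdd q) (∑ k, num (i, Sum.inl k) * h k) +
      ∑ j, rename (Fin.castAdd q) (a' ^ e₀ * num (i, Sum.inr j)) * X (Fin.natAdd n j)
  have hu' : IsUnit (algebraMap A S a ^ (t + e₀)) :=
    (IsLocalization.Away.algebraMap_isUnit a).pow _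
  have hg : ∀ i, padHom φ q (g i) = 0 := fun i => by
    simp [g, padHom_rename, padHom_X_natAdd, hh]
  have hgrad : ∀ i, grad χ' (g i) = algebraMap A S a ^ (t + e₀) • ι (b i) := by
    intro i
    have h1 : grad χ (∑ k, num (i, Sum.inl k) * h k) =
        algebraMap A S a ^ (t + e₀) • ((b i).1 : Fin n → S) := by
      rw [map_sum]
      have : ∀ k, grad χ (num (i, Sum.inl k) * h k) =
          algebraMap A S a ^ t • ((b i).1 : Fin n → S) k • grad χ (h k) := fun k => by
        rw [grad_mul, hχ0 _ (hh k), zero_smul, add_zero, smul_smul]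
        congr 1
        exact (hnum (i, Sum.inl k)).symm
      simp only [this]
      rw [← Finset.smul_sum, pow_add, mul_smul]
      congr 1
      conv_rhs => rw [← hCK (b i).1]
      show _ = algebraMap A S a ^ e₀ • ((↑hu.unit⁻¹ : S) • ∑ k, ((b i).1 : Fin n → S) k • grad χ (h k))
      rw [smul_smul, IsUnit.mul_val_inv, one_smul]
    have h2 : grad χ' (∑ j, rename (Fin.castAdd q) (a' ^ e₀ * num (i, Sum.inr j)) * X (Fin.natAdd n j))
        = Fin.append 0 (algebraMap A S a ^ (t + e₀) • (b i).2) := by
      have hX : ∀ j : Fin q, χ' (X (Fin.natAdd n j)) = 0 := fun j => by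
        show algebraMap A S (padHom φ q _) = 0
        rw [padHom_X_natAdd, map_zero]
      rw [map_sum]
      simp only [grad_mul, hX, zero_smul, add_zero, grad_X]
      funext l
      refine Fin.addCases (fun k => ?_) (fun j => ?_) l
      · rw [Fin.append_left, Finset.sum_apply]
        refine Finset.sum_eq_zero fun j _ => ?_
        have hne : Fin.castAdd q k ≠ Fin.natAdd n j := fun h => by
          have h1 := congrArg Fin.val h
          simp at h1
          omega
        rw [Pi.smul_apply, Pi.single_eq_of_ne hne, smul_zero]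
      · rw [Fin.append_right, Finset.sum_apply, Finset.sum_eq_single j]
        · rw [Pi.smul_apply, Pi.single_eq_same, smul_eq_mul, mul_one, Pi.smul_apply, smul_eq_mul]
          show algebraMap A S (padHom φ q _) = _
          rw [padHom_rename, map_mul, map_mul, map_pow, map_pow, ha, ← hnum (i, Sum.inr j), pow_add]
          show _ = algebraMap A S a ^ t * algebraMap A S a ^ e₀ * (b i).2 j
          simp only [Sum.elim_inr]
          ring
        · intro j' _ hne
          have hne' : Fin.natAdd n j ≠ Fin.natAdd n j' := fun h => hne ((Fin.natAdd_injective q n h).symm)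
          rw [Pi.smul_apply, Pi.single_eq_of_ne hne', smul_zero]
        · simp
    show grad χ' (_ + _) = _
    rw [map_add, h2, grad_padHom_rename, h1]
    show appendEquiv S n q (_, 0) + appendEquiv S n q (0, _) = _
    rw [← map_add, ← map_smul]
    show _ = appendEquiv S n q (algebraMap A S a ^ (t + e₀) • ((b i).1 : Fin n → S),
      algebraMap A S a ^ (t + e₀) • (b i).2)
    simp
  refine ⟨g, (↑hu'.unit⁻¹ : S) • (E.toLinearMap ∘ₗ P), hg, fun i => ?_, fun l => ?_⟩
  · show (↑hu'.unit⁻¹ : S) • E (P (grad χ' (g i))) = _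
    rw [hgrad, map_smul, hPι, map_smul, smul_smul, IsUnit.val_inv_mul, one_smul]
    exact E.apply_symm_apply _
  · have hspan : ∀ x, ι x ∈ Submodule.span S (Set.range fun i => grad χ' (g i)) := by
      intro x
      have hx : x = ∑ i, E x i • b i := by
        apply E.injective
        rw [map_sum]
        simp only [map_smul, b, LinearEquiv.apply_symm_apply]
        exact pi_eq_sum_univ' (E x)
      rw [hx, map_sum]
      refine Submodule.sum_mem _ fun i _ => ?_
      rw [map_smul]
      refine Submodule.smul_mem _ _ ((Submodule.smul_mem_iff_of_isUnit _ hu').1 ?_)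
      rw [← hgrad]
      exact Submodule.subset_span ⟨i, rfl⟩
    refine Fin.addCases (fun l => ?_) (fun j => ?_) l
    · rw [Fin.append_left, grad_padHom_rename]
      have hf : φ (f l) = 0 := by
        have : f l ∈ RingHom.ker φ.toRingHom := hker ▸ Ideal.subset_span ⟨l, rfl⟩
        exact this
      exact hspan (⟨grad χ (f l), ⟨grad χ (f l), hC _ hf⟩⟩, 0)
    · rw [Fin.append_right, grad_X]
      have : ι (0, Pi.single j 1) = Pi.single (Fin.natAdd n j) 1 := by
        funext l
        refine Fin.addCases (fun k => ?_) (fun j' => ?_) l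
        · show Fin.append (0 : Fin n → S) (Pi.single j 1) (Fin.castAdd q k) = _
          have hne : Fin.castAdd q k ≠ Fin.natAdd n j := fun h => by
            have h1 := congrArg Fin.val h
            simp at h1
            omega
          rw [Fin.append_left, Pi.single_eq_of_ne hne]
          rfl
        · show Fin.append (0 : Fin n → S) (Pi.single j 1) (Fin.natAdd n j') = _
          rw [Fin.append_right]
          by_cases hj : j' = j
          · subst hj; simp
          · rw [Pi.single_eq_of_ne hj, Pi.single_eq_of_ne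
              (fun h => hj (Fin.natAdd_injective q n h))]
      rw [← this]
      exact hspan _

end Smoothing
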