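import Groth.Agent.Lib.RegLoc.Basic
import Groth.Agent.Lib.CMFree.Params
import Mathlib.RingTheory.Localization.AtPrime.Basic
import Mathlib.RingTheory.KrullDimension.Zero
import Mathlib.RingTheory.Noetherian.Basic

set_option autoImplicit false
set_option backward.isDefEq.respectTransparency false

/-! Parameters with the annihilator condition. -/

open IsLocalRing RingTheory.Sequence

namespace Smoothing

universe u

/-- in a regular local ring a parameter is regular modulo powers of the previous ones -/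
lemma mem_of_mul_mem_span_pow {R : Type u} [CommRing R] [IsRegularLocalRing R] {d : ℕ}
    (hd : ringKrullDim R = d) (x : Fin d → R) (hx : Ideal.span (Set.range x) = maximalIdeal R)
    {e : ℕ} (he : 0 < e) (k : Fin d) (z : R)
    (hz : x k * z ∈ Ideal.span (Set.range fun j : {j : Fin d // (j : ℕ) < k} => x j ^ e)) :
    z ∈ Ideal.span (Set.range fun j : {j : Fin d // (j : ℕ) < k} => x j ^ e) := by
  let y : Fin d → R := fun j => if (j : ℕ) < k then x j ^ e else x j
  have hyle : Ideal.ofList (List.ofFn y) ≤ maximalIdeal R := by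
    rw [Ideal.ofList, Ideal.span_le]
    intro r hr
    obtain ⟨i, rfl⟩ := List.mem_ofFn.1 hr
    have hxi : x i ∈ maximalIdeal R := hx ▸ Ideal.subset_span ⟨i, rfl⟩
    show y i ∈ maximalIdeal R
    dsimp only [y]
    split
    · exact Ideal.pow_mem_of_mem _ hxi e he
    · exact hxi
  have hne : Ideal.ofList (List.ofFn y) ≠ ⊤ := fun h =>
    (maximalIdeal.isMaximal R).ne_top (top_le_iff.1 (h ▸ hyle))
  have hdim : ringKrullDim (R ⧸ Ideal.ofList (List.ofFn y)) + (List.ofFn y).length ≤ ringKrullDim R := by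
    haveI : Ring.KrullDimLE 0 (R ⧸ Ideal.ofList (List.ofFn y)) := by
      rw [Ring.krullDimLE_zero_iff]
      intro P hP
      let P' := P.comap (Ideal.Quotient.mk (Ideal.ofList (List.ofFn y)))
      haveI : P'.IsPrime := Ideal.IsPrime.comap _
      have hmP : maximalIdeal R ≤ P' := by
        rw [← hx, Ideal.span_le]
        rintro _ ⟨j, rfl⟩
        have hyj : y j ∈ P' := by
          show Ideal.Quotient.mk _ (y j) ∈ P
          rw [Ideal.Quotient.eq_zero_iff_mem.2 (show y j ∈ Ideal.ofList (List.ofFn y) from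
            Ideal.subset_span (List.mem_ofFn.2 ⟨j, rfl⟩))]
          exact P.zero_mem
        dsimp only [y] at hyj
        split at hyj
        · exact Ideal.IsPrime.mem_of_pow_mem inferInstance e hyj
        · exact hyj
      have : P' = maximalIdeal R :=
        le_antisymm (IsLocalRing.le_maximalIdeal (Ideal.IsPrime.ne_top inferInstance)) hmP
      rw [← Ideal.map_comap_of_surjective _ Ideal.Quotient.mk_surjective P]
      haveI : P'.IsMaximal := this ▸ maximalIdeal.isMaximal R
      refine Ideal.IsMaximal.map_of_surjective_of_ker_le Ideal.Quotient.mk_surjective (m := P') ?_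
      rw [Ideal.mk_ker]
      exact hyle.trans (le_of_eq (by assumption : P' = maximalIdeal R).symm)
    rw [List.length_ofFn, hd]
    calc ringKrullDim (R ⧸ Ideal.ofList (List.ofFn y)) + (d : WithBot ℕ∞)
        ≤ 0 + (d : WithBot ℕ∞) := add_le_add (Ring.krullDimLE_iff.1 inferInstance) le_rfl
      _ = d := zero_add _
  have hw := (GrothLib.CMFree.isRegular_of_ringKrullDim_quotient R _ hne hdim).toIsWeaklyRegular
  have hk := (isWeaklyRegular_iff_Fin R _).1 hw ⟨k, by rw [List.length_ofFn]; exact k.2⟩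
  have hJ : Ideal.ofList ((List.ofFn y).take k) =
      Ideal.span (Set.range fun j : {j : Fin d // (j : ℕ) < k} => x j ^ e) := by
    refine congrArg Ideal.span (Set.ext fun r => ?_)
    simp only [Set.mem_setOf_eq, List.mem_take_iff_getElem, List.getElem_ofFn, Set.mem_range]
    constructor
    · rintro ⟨i, hi, rfl⟩
      have hik : i < (k : ℕ) := lt_of_lt_of_le hi (min_le_left _ _)
      refine ⟨⟨⟨i, hik.trans k.2⟩, hik⟩, ?_⟩
      exact (if_pos hik).symm
    · rintro ⟨⟨j, hj⟩, rfl⟩
      exact ⟨j, by simpa using hj, if_pos hj⟩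
  simp only [Fin.getElem_fin, List.getElem_ofFn, Fin.eta] at hk
  rw [show y k = x k from if_neg (lt_irrefl _)] at hk
  rw [← hJ] at hz ⊢
  have h0 : Submodule.Quotient.mk z =
      (0 : R ⧸ (Ideal.ofList ((List.ofFn y).take k) • ⊤ : Submodule R R)) := hk (by
    show x k • Submodule.Quotient.mk z = x k • 0
    rw [smul_zero, ← Submodule.Quotient.mk_smul, Submodule.Quotient.mk_eq_zero, smul_eq_mul,
      smul_eq_mul, Ideal.mul_top]
    exact hz)
  rwa [Submodule.Quotient.mk_eq_zero, smul_eq_mul, Ideal.mul_top] at h0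

/-- scaling to the annihilator condition -/
lemma exists_scale {Λ L : Type u} [CommRing Λ] [IsNoetherianRing Λ] [CommRing L] [Algebra Λ L]
    (q : Ideal Λ) [q.IsPrime] [IsLocalization.AtPrime L q] (J : Ideal Λ) (a : Λ)
    (ha : ∀ y : L, algebraMap Λ L a * y ∈ J.map (algebraMap Λ L) → y ∈ J.map (algebraMap Λ L))
    (s : Λ) (hs : s ∉ q) :
    ∃ u : Λ, u ∉ q ∧ s ∣ u ∧ ∀ x : Λ, (u * a) ^ 2 * x ∈ J → u * a * x ∈ J := by
  classical
  let K : Ideal Λ := J.colon ({a ^ 2} : Set Λ)
  have hK : ∀ x, x ∈ K ↔ a ^ 2 * x ∈ J := fun x => by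
    rw [Submodule.mem_colon_singleton, smul_eq_mul, mul_comm]
  obtain ⟨G, hG⟩ := (IsNoetherian.noetherian K : K.FG)
  have hG' : ∀ x ∈ G, ∃ t : q.primeCompl, (t : Λ) * x ∈ J := by
    intro x hx
    have hxK : a ^ 2 * x ∈ J := (hK x).1 (hG ▸ Submodule.subset_span hx)
    have h1 := Ideal.mem_map_of_mem (algebraMap Λ L) hxK
    rw [map_mul, pow_two, map_mul, mul_assoc] at h1
    have h2 := ha _ (ha _ h1)
    obtain ⟨t, ht, hh⟩ := (IsLocalization.algebraMap_mem_map_algebraMap_iff q.primeCompl L J x).1 h2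
    exact ⟨⟨t, ht⟩, hh⟩
  choose t ht using hG'
  let t₀ : q.primeCompl := ∏ x : G, t x.1 x.2
  have htK : ∀ x, a ^ 2 * x ∈ J → (t₀ : Λ) * x ∈ J := by
    intro x hx
    have hle : K ≤ J.colon ({(t₀ : Λ)} : Set Λ) := by
      rw [← hG]
      refine Submodule.span_le.2 fun y hy => ?_
      show y ∈ J.colon ({(t₀ : Λ)} : Set Λ)
      rw [Submodule.mem_colon_singleton, smul_eq_mul]
      obtain ⟨d, hd⟩ : t y hy ∣ t₀ :=
        Finset.dvd_prod_of_mem (fun x : G => t x.1 x.2) (Finset.mem_univ (⟨y, hy⟩ : G))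
      rw [hd, Submonoid.coe_mul, ← mul_assoc, mul_comm y]
      exact Ideal.mul_mem_right _ _ (ht y hy)
    have h1 := hle ((hK x).2 hx)
    rwa [Submodule.mem_colon_singleton, smul_eq_mul, mul_comm] at h1
  let v : Λ := s * t₀
  have hv : v ∉ q := fun h => ((inferInstance : q.IsPrime).mem_or_mem h).elim hs t₀.2
  let Lk : ℕ →o Ideal Λ :=
    ⟨fun m => J.colon ({v ^ m} : Set Λ), monotone_nat_of_le_succ fun m x hx => by
      rw [Submodule.mem_colon_singleton, smul_eq_mul] at hx ⊢
      rw [pow_succ, ← mul_assoc]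
      exact Ideal.mul_mem_right _ _ hx⟩
  obtain ⟨M, hM⟩ := (monotone_stabilizes_iff_noetherian.2 (inferInstance : IsNoetherian Λ Λ)) Lk
  refine ⟨v ^ (M + 1), fun h => hv ((inferInstance : q.IsPrime).mem_of_pow_mem _ h),
    (dvd_mul_right s (t₀ : Λ)).trans (dvd_pow_self v (by omega)), fun x hx => ?_⟩
  have h1 : (t₀ : Λ) * (v ^ (2 * (M + 1)) * x) ∈ J := htK _ (by
    have : a ^ 2 * (v ^ (2 * (M + 1)) * x) = (v ^ (M + 1) * a) ^ 2 * x := by ring
    rw [this]
    exact hx)
  have h2 : x ∈ Lk (2 * (M + 1) + 1) := by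
    show x ∈ J.colon ({_} : Set Λ)
    rw [Submodule.mem_colon_singleton, smul_eq_mul]
    have : x * v ^ (2 * (M + 1) + 1) = s * ((t₀ : Λ) * (v ^ (2 * (M + 1)) * x)) := by
      simp only [v]; ring
    rw [this]
    exact Ideal.mul_mem_left _ _ h1
  rw [← hM (2 * (M + 1) + 1) (by omega), hM (M + 1) (by omega)] at h2
  change x ∈ J.colon ({v ^ (M + 1)} : Set Λ) at h2
  rw [Submodule.mem_colon_singleton, smul_eq_mul] at h2
  have : v ^ (M + 1) * a * x = a * (x * v ^ (M + 1)) := by ring
  rw [this]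
  exact Ideal.mul_mem_left _ _ h2

theorem exists_parameters_exp {Λ : Type u} [CommRing Λ] [IsNoetherianRing Λ] (I q : Ideal Λ)
    [q.IsPrime] (n e d : ℕ) (hn : 0 < n) (he : 0 < e)
    (hpow : (q ^ n).map (algebraMap Λ (Localization.AtPrime q)) ≤
      I.map (algebraMap Λ (Localization.AtPrime q)))
    [IsRegularLocalRing (Localization.AtPrime q)]
    (hd : ringKrullDim (Localization.AtPrime q) = d) :
    ∃ (π : Fin d → Λ),
      Ideal.span (Set.range fun i => algebraMap Λ (Localization.AtPrime q) (π i)) =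
        q.map (algebraMap Λ (Localization.AtPrime q)) ∧
      (∀ i, π i ^ n ∈ I) ∧
      ∀ i : Fin d, ∀ x : Λ ⧸ Ideal.span (Set.range fun j : {j : Fin d // (j : ℕ) < (i : ℕ)} => π j ^ e),
        Ideal.Quotient.mk _ (π i) ^ 2 * x = 0 → Ideal.Quotient.mk _ (π i) * x = 0 := by
  classical
  let L := Localization.AtPrime q
  have hmax : q.map (algebraMap Λ L) = maximalIdeal L := Localization.AtPrime.map_eq_maximalIdeal
  have hfr : (maximalIdeal L).spanFinrank = d := by
    have h := IsRegularLocalRing.spanFinrank_maximalIdeal (R := L)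
    rw [hd] at h
    exact_mod_cast h
  obtain ⟨z, hz⟩ := GrothLib.RegLoc.exists_generators_fin (maximalIdeal L)
  let z' : Fin d → L := z ∘ finCongr hfr.symm
  have hz' : Ideal.span (Set.range z') = maximalIdeal L := by
    rw [(finCongr hfr.symm).surjective.range_comp]; exact hz
  have hsurj : ∀ i, ∃ a : Λ, ∃ t : q.primeCompl, z' i * algebraMap Λ L t = algebraMap Λ L a := fun i =>
    let ⟨⟨a, t⟩, h⟩ := IsLocalization.surj q.primeCompl (z' i)
    ⟨a, t, h⟩
  choose a t hat using hsurj
  have hunit : ∀ u : Λ, u ∉ q → IsUnit (algebraMap Λ L u) := fun u hu =>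
    IsLocalization.map_units L (⟨u, hu⟩ : q.primeCompl)
  have haq : ∀ i, a i ∈ q := fun i => by
    by_contra hc
    have h1 : z' i ∈ maximalIdeal L := hz' ▸ Ideal.subset_span ⟨i, rfl⟩
    have h2 : algebraMap Λ L (a i) ∈ maximalIdeal L := hat i ▸ Ideal.mul_mem_right _ _ h1
    exact h2 (hunit _ hc)
  have hspan : ∀ u : Fin d → Λ, (∀ i, u i ∉ q) →
      Ideal.span (Set.range fun i => algebraMap Λ L (u i * a i)) = maximalIdeal L := by
    intro u hu
    refine le_antisymm (Ideal.span_le.2 ?_) ?_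
    · rintro _ ⟨i, rfl⟩
      rw [← hmax]
      exact Ideal.mem_map_of_mem _ (Ideal.mul_mem_left _ _ (haq i))
    · rw [← hz', Ideal.span_le]
      rintro _ ⟨i, rfl⟩
      refine (Ideal.unit_mul_mem_iff_mem _ ((hunit _ (t i).2).mul (hunit _ (hu i)))).1 ?_
      have : algebraMap Λ L (t i) * algebraMap Λ L (u i) * z' i = algebraMap Λ L (u i * a i) := by
        rw [map_mul, ← hat i]; ring
      rw [this]
      exact Ideal.subset_span ⟨i, rfl⟩
  -- a multiplier into `I`
  obtain ⟨G, hG⟩ := (IsNoetherian.noetherian (q ^ n) : (q ^ n).FG)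
  have hG' : ∀ x ∈ G, ∃ s : q.primeCompl, (s : Λ) * x ∈ I := by
    intro x hx
    obtain ⟨s, hs, hh⟩ := (IsLocalization.algebraMap_mem_map_algebraMap_iff q.primeCompl L I x).1
      (hpow (Ideal.mem_map_of_mem _ (hG ▸ Submodule.subset_span hx)))
    exact ⟨⟨s, hs⟩, hh⟩
  choose s hs using hG'
  let s₀ : q.primeCompl := ∏ x : G, s x.1 x.2
  have hs₀ : ∀ x ∈ q ^ n, (s₀ : Λ) * x ∈ I := by
    intro x hx
    have hle : q ^ n ≤ I.colon ({(s₀ : Λ)} : Set Λ) := by
      rw [← hG]
      refine Submodule.span_le.2 fun y hy => ?_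
      show y ∈ I.colon ({(s₀ : Λ)} : Set Λ)
      rw [Submodule.mem_colon_singleton, smul_eq_mul]
      obtain ⟨c, hc⟩ : s y hy ∣ s₀ :=
        Finset.dvd_prod_of_mem (fun x : G => s x.1 x.2) (Finset.mem_univ (⟨y, hy⟩ : G))
      rw [hc, Submonoid.coe_mul, ← mul_assoc, mul_comm y]
      exact Ideal.mul_mem_right _ _ (hs y hy)
    have h1 := hle hx
    rwa [Submodule.mem_colon_singleton, smul_eq_mul, mul_comm] at h1
  have key : ∀ k, k ≤ d → ∃ u : Fin d → Λ, (∀ i, u i ∉ q) ∧
      ∀ j : Fin d, (j : ℕ) < k → (s₀ : Λ) ∣ u j ∧ ∀ x : Λ,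
        (u j * a j) ^ 2 * x ∈ Ideal.span (Set.range fun l : {l : Fin d // (l : ℕ) < j} => (u l * a l) ^ e) →
          u j * a j * x ∈ Ideal.span (Set.range fun l : {l : Fin d // (l : ℕ) < j} => (u l * a l) ^ e) := by
    intro k
    induction k with
    | zero =>
      exact fun _ => ⟨fun _ => 1, fun _ => Ideal.one_notMem q,
        fun j hj => absurd hj (Nat.not_lt_zero _)⟩
    | succ k ih =>
      intro hk
      obtain ⟨u, hu, hu'⟩ := ih (k.le_succ.trans hk)
      let kk : Fin d := ⟨k, hk⟩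
      let J : Ideal Λ :=
        Ideal.span (Set.range fun l : {l : Fin d // (l : ℕ) < kk} => (u l * a l) ^ e)
      have hJmap : J.map (algebraMap Λ L) = Ideal.span (Set.range
          fun l : {l : Fin d // (l : ℕ) < kk} => algebraMap Λ L (u l * a l) ^ e) := by
        rw [Ideal.map_span, ← Set.range_comp]
        exact congrArg Ideal.span (congrArg Set.range (funext fun l => map_pow _ _ _))
      obtain ⟨v, hv, hsv, hv'⟩ := exists_scale (L := L) q J (a kk) (fun y hy => by
        rw [hJmap] at hy ⊢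
        refine mem_of_mul_mem_span_pow hd (fun i => algebraMap Λ L (u i * a i)) (hspan u hu) he kk y ?_
        show algebraMap Λ L (u kk * a kk) * y ∈ _
        rw [map_mul, mul_assoc]
        exact Ideal.mul_mem_left _ _ hy) s₀ s₀.2
      have hupd : ∀ l : Fin d, (l : ℕ) < k → Function.update u kk v l = u l := fun l hl =>
        Function.update_of_ne (fun h => by rw [h] at hl; exact lt_irrefl k hl) _ _
      refine ⟨Function.update u kk v, fun i => ?_, fun j hj => ?_⟩
      · by_cases h : i = kk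
        · rw [h, Function.update_self]; exact hv
        · rw [Function.update_of_ne h]; exact hu i
      · have heq : (Set.range fun l : {l : Fin d // (l : ℕ) < j} =>
            (Function.update u kk v l * a l) ^ e) =
            Set.range fun l : {l : Fin d // (l : ℕ) < j} => (u l * a l) ^ e :=
          congrArg Set.range (funext fun l => by
            rw [hupd l.1 (lt_of_lt_of_le l.2 (Nat.lt_succ_iff.1 hj))])
        rw [heq]
        rcases Nat.lt_succ_iff_lt_or_eq.1 hj with h | h
        · rw [hupd j h]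
          exact hu' j h
        · obtain rfl : j = kk := Fin.ext h
          rw [Function.update_self]
          exact ⟨hsv, hv'⟩
  obtain ⟨u, hu, hu'⟩ := key d le_rfl
  refine ⟨fun i => u i * a i, (hspan u hu).trans hmax.symm, fun i => ?_, fun i x hx => ?_⟩
  · rw [mul_pow]
    obtain ⟨c, hc⟩ := (hu' i i.2).1.trans (dvd_pow_self (u i) hn.ne')
    rw [hc, mul_assoc, mul_left_comm]
    exact Ideal.mul_mem_left _ _ (hs₀ _ (Ideal.pow_mem_pow (haq i) n))
  · obtain ⟨x, rfl⟩ := Ideal.Quotient.mk_surjective x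
    rw [← map_pow, ← map_mul, Ideal.Quotient.eq_zero_iff_mem] at hx
    rw [← map_mul, Ideal.Quotient.eq_zero_iff_mem]
    exact (hu' i i.2).2 x hx

theorem exists_parameters {Λ : Type u} [CommRing Λ] [IsNoetherianRing Λ] (I q : Ideal Λ)
    [q.IsPrime] (n e d : ℕ) (hn : 0 < n) (he : 0 < e)
    (hpow : (q ^ n).map (algebraMap Λ (Localization.AtPrime q)) ≤
      I.map (algebraMap Λ (Localization.AtPrime q)))
    [IsRegularLocalRing (Localization.AtPrime q)]
    (hd : ringKrullDim (Localization.AtPrime q) = d) :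
    ∃ (N : ℕ) (π : Fin d → Λ), 0 < N ∧
      Ideal.span (Set.range fun i => algebraMap Λ (Localization.AtPrime q) (π i)) =
        q.map (algebraMap Λ (Localization.AtPrime q)) ∧
      (∀ i, π i ^ N ∈ I) ∧
      ∀ i : Fin d, ∀ x : Λ ⧸ Ideal.span (Set.range fun j : {j : Fin d // (j : ℕ) < (i : ℕ)} => π j ^ e),
        Ideal.Quotient.mk _ (π i) ^ 2 * x = 0 → Ideal.Quotient.mk _ (π i) * x = 0 := by
  obtain ⟨π, h⟩ := exists_parameters_exp I q n e d hn he hpow hd
  exact ⟨n, π, hn, h⟩

end Smoothing
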