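import Groth.Agent.Lib.Smoothing.Standard
import Mathlib.RingTheory.Smooth.Flat

set_option autoImplicit false
set_option backward.isDefEq.respectTransparency false

/-! Smoothness at a prime from a square system of leading relations. -/

open MvPolynomial

namespace Smoothing

universe u

variable {R : Type u} [CommRing R]

theorem isSmoothAt_of_kill {B : Type u} [CommRing B] [Algebra R B] {N k c : ℕ}
    (g : Fin k → MvPolynomial (Fin N) R) (φ : MvPolynomial (Fin N) R →ₐ[R] B)
    (hφ : Function.Surjective φ) (hker : RingHom.ker φ.toRingHom = Ideal.span (Set.range g))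
    (Q : Ideal B) [Q.IsPrime] (rows : Fin c ↪ Fin k) (cols : Fin c ↪ Fin N)
    (hΔ : φ (jacobianMinor g rows cols) ∉ Q)
    (hkill : ∀ ℓ, ∃ t, φ t ∉ Q ∧
      t * g ℓ ∈ Ideal.span (Set.range (g ∘ rows)) ⊔ Ideal.span (Set.range g) ^ 2) :
    Algebra.IsSmoothAt R Q := by
  classical
  haveI : Algebra.FinitePresentation R B :=
    Algebra.FinitePresentation.of_surjective hφ
      (hker ▸ ⟨Finset.univ.image g, by simp⟩)
  choose t ht ht' using hkill
  let T := ∏ ℓ, t ℓ
  have hT : φ T ∉ Q := by
    rw [map_prod]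
    exact Q.primeCompl.prod_mem fun i _ => ht i
  refine isSmoothAt_of_isStrictlyStandard (a := φ T * φ (jacobianMinor g rows cols))
    (isStrictlyStandard_of_isElementaryStandard ?_) Q
    fun h => (‹Q.IsPrime›.mem_or_mem h).elim hT hΔ
  refine isElementaryStandard_of_rows_cols g φ hφ hker _ (φ T) rows cols rfl fun a₁ ha₁ ℓ _ => ?_
  have h1 : a₁ - T * jacobianMinor g rows cols ∈ Ideal.span (Set.range g) := by
    rw [← hker, RingHom.mem_ker]
    show φ (a₁ - T * jacobianMinor g rows cols) = 0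
    rw [map_sub, map_mul, ha₁, sub_self]
  obtain ⟨e, he⟩ : t ℓ ∣ T := Finset.dvd_prod_of_mem _ (Finset.mem_univ ℓ)
  have : a₁ * g ℓ = (a₁ - T * jacobianMinor g rows cols) * g ℓ +
      e * jacobianMinor g rows cols * (t ℓ * g ℓ) := by
    rw [he]; ring
  rw [this]
  refine add_mem (Ideal.mem_sup_right ?_) (Ideal.mul_mem_left _ _ (ht' ℓ))
  rw [pow_two]
  exact Ideal.mul_mem_mul h1 (Ideal.subset_span ⟨ℓ, rfl⟩)

lemma flat_localization_of_standard {B : Type u} [CommRing B] [Algebra R B] (q : Ideal B) [q.IsPrime]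
    (L : Type u) [CommRing L] [Algebra B L] [IsLocalization.AtPrime L q] [Algebra R L]
    [IsScalarTower R B L] (b : B) (hb : b ∉ q)
    [Algebra.IsStandardSmooth R (Localization.Away b)] : Module.Flat R L := by
  let Bb := Localization.Away b
  haveI : Module.Flat R Bb := inferInstance
  let e : Bb →ₐ[B] L :=
    IsLocalization.liftAlgHom (M := Submonoid.powers b) (f := Algebra.ofId B L) (by
      rintro ⟨_, i, rfl⟩
      rw [map_pow]
      exact ((IsLocalization.map_units L (⟨b, hb⟩ : q.primeCompl))).pow i)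
  letI : Algebra Bb L := e.toRingHom.toAlgebra
  haveI : IsScalarTower B Bb L := IsScalarTower.of_algebraMap_eq fun x => (e.commutes x).symm
  haveI : IsScalarTower R Bb L :=
    IsScalarTower.of_algebraMap_eq fun x => ((e.restrictScalars R).commutes x).symm
  haveI : IsLocalization (q.primeCompl.map (algebraMap B Bb)) L :=
    IsLocalization.isLocalization_of_submonoid_le Bb L (Submonoid.powers b) q.primeCompl
      (Submonoid.powers_le.2 hb)
  haveI : Module.Flat Bb L := IsLocalization.flat L (q.primeCompl.map (algebraMap B Bb))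
  exact Module.Flat.trans R Bb L

theorem exists_local_of_square {N c : ℕ} (lead : Fin c → MvPolynomial (Fin N) R)
    (cols : Fin c ↪ Fin N) (q : Ideal (MvPolynomial (Fin N) R)) [q.IsPrime]
    (hlead : ∀ i, lead i ∈ q) (hΔ : jacobianMinor lead id cols ∉ q) :
    ∃ (L : Type u) (_ : CommRing L) (_ : Algebra R L) (γ : MvPolynomial (Fin N) R →ₐ[R] L),
      IsLocalRing L ∧ Module.Flat R L ∧ (∀ i, γ (lead i) = 0) ∧ (∀ x ∉ q, IsUnit (γ x)) ∧
      (∀ x ∈ q, ¬ IsUnit (γ x)) ∧
      ∀ x, γ x = 0 → ∃ t ∉ q, t * x ∈ Ideal.span (Set.range lead) := by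
  classical
  let J := Ideal.span (Set.range lead)
  let mk : MvPolynomial (Fin N) R →ₐ[R] MvPolynomial (Fin N) R ⧸ J := Ideal.Quotient.mkₐ R J
  have hJq : RingHom.ker (Ideal.Quotient.mk J) ≤ q := by
    rw [Ideal.mk_ker, Ideal.span_le]
    rintro _ ⟨i, rfl⟩
    exact hlead i
  let qB : Ideal (MvPolynomial (Fin N) R ⧸ J) := q.map (Ideal.Quotient.mk J)
  haveI : qB.IsPrime := Ideal.map_isPrime_of_surjective Ideal.Quotient.mk_surjective hJq
  have hmem : ∀ x, mk x ∈ qB ↔ x ∈ q := fun x => by
    refine ⟨fun h => ?_, fun h => Ideal.mem_map_of_mem _ h⟩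
    have h2 : x ∈ qB.comap (Ideal.Quotient.mk J) := h
    rw [Ideal.comap_map_of_surjective' _ Ideal.Quotient.mk_surjective, sup_eq_left.2 hJq] at h2
    exact h2
  haveI : Algebra.FinitePresentation R (MvPolynomial (Fin N) R ⧸ J) :=
    Algebra.FinitePresentation.quotient ⟨Finset.univ.image lead, by simp [J]⟩
  have hstd : IsElementaryStandard R (MvPolynomial (Fin N) R ⧸ J) (mk (jacobianMinor lead id cols)) := by
    refine isElementaryStandard_of_rows_cols lead mk Ideal.Quotient.mk_surjective Ideal.mk_ker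
      (mk (jacobianMinor lead id cols)) 1 (Function.Embedding.refl _) cols ?_
      fun _ _ ℓ hℓ => absurd rfl (hℓ ℓ)
    rw [one_mul]
    rfl
  haveI := Groth.Agent.S2032.result _ hstd
  let L := Localization.AtPrime qB
  haveI : Module.Flat R L :=
    flat_localization_of_standard qB L (mk (jacobianMinor lead id cols)) fun h => hΔ ((hmem _).1 h)
  refine ⟨L, inferInstance, inferInstance, (IsScalarTower.toAlgHom R _ L).comp mk, inferInstance,
    inferInstance, fun i => ?_, fun x hx => ?_, fun x hx hu => ?_, fun x hx => ?_⟩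
  · show algebraMap _ L (Ideal.Quotient.mk J (lead i)) = 0
    rw [Ideal.Quotient.eq_zero_iff_mem.2 ((Ideal.subset_span ⟨i, rfl⟩ : lead i ∈ J)), map_zero]
  · exact IsLocalization.map_units L (⟨mk x, fun h => hx ((hmem x).1 h)⟩ : qB.primeCompl)
  · exact (IsLocalization.AtPrime.isUnit_to_map_iff L qB (mk x)).1 hu ((hmem x).2 hx)
  · obtain ⟨⟨s, hs⟩, h⟩ := (IsLocalization.map_eq_zero_iff qB.primeCompl L _).1 hx
    obtain ⟨t, rfl⟩ := Ideal.Quotient.mk_surjective s
    refine ⟨t, fun ht => hs ((hmem t).2 ht), Ideal.Quotient.eq_zero_iff_mem.1 ?_⟩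
    rw [map_mul]
    exact h

end Smoothing
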