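import Groth.Agent.Lib.Smoothing.DesingLift

set_option autoImplicit false
set_option backward.isDefEq.respectTransparency false

/-! Descending resolvability from the quotient by eighth powers. -/

open scoped TensorProduct

namespace Smoothing

universe u

lemma isStrictlyStandard_of_algEquiv {R A A' : Type u} [CommRing R] [CommRing A] [Algebra R A]
    [CommRing A'] [Algebra R A'] (e : A ≃ₐ[R] A') {a : A} (h : IsStrictlyStandard R A a) :
    IsStrictlyStandard R A' (e a) := by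
  obtain ⟨P, hmem, hk⟩ := h
  refine ⟨⟨P.n, P.m, P.c, P.hcn, P.hcm, P.rel, e.toAlgHom.comp P.hom, e.surjective.comp P.surj, ?_⟩,
    ?_, ?_⟩
  · rw [← P.ker_eq]
    ext x
    exact ⟨fun hx => e.injective (hx.trans (map_zero e).symm),
      fun hx => (congrArg e hx).trans (map_zero e)⟩
  · have h1 := Ideal.mem_map_of_mem e.toAlgHom.toRingHom hmem
    rw [Ideal.map_span, ← Set.range_comp] at h1
    exact h1
  · intro a' ha' j hj
    exact hk a' (e.injective ha') j hj

lemma isRadical_singularIdeal (R A : Type u) [CommRing R] [CommRing A] [Algebra R A] :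
    (singularIdeal R A).IsRadical := by
  rintro x ⟨k, hk⟩
  rw [singularIdeal, PrimeSpectrum.mem_vanishingIdeal] at hk ⊢
  exact fun p hp => p.2.mem_of_pow_mem k (hk p hp)

/-- the singular ideal maps into the singular ideal of the reduction modulo an ideal of the base -/
lemma singularIdeal_le_comap_quotient {R A : Type u} [CommRing R] [CommRing A] [Algebra R A]
    [Algebra.FinitePresentation R A] (K : Ideal R)
    [Algebra (R ⧸ K) (A ⧸ K.map (algebraMap R A))]
    [IsScalarTower R (R ⧸ K) (A ⧸ K.map (algebraMap R A))] :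
    singularIdeal R A ≤
      (singularIdeal (R ⧸ K) (A ⧸ K.map (algebraMap R A))).comap (Ideal.Quotient.mk _) := by
  let f : (R ⧸ K) ⊗[R] A →ₐ[R ⧸ K] A ⧸ K.map (algebraMap R A) :=
    Algebra.TensorProduct.lift (Algebra.ofId _ _) (Ideal.Quotient.mkₐ R _) fun _ _ => Commute.all _ _
  have hf : ∀ a : A, f (1 ⊗ₜ a) = Ideal.Quotient.mk _ a := fun a => by simp [f]
  let g : A →ₐ[R] (R ⧸ K) ⊗[R] A := Algebra.TensorProduct.includeRight
  let g' : A ⧸ K.map (algebraMap R A) →ₐ[R] (R ⧸ K) ⊗[R] A := Ideal.Quotient.liftₐ _ g fun x hx => by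
    have h : K.map (algebraMap R A) ≤ RingHom.ker g.toRingHom := by
      rw [Ideal.map_le_iff_le_comap]
      intro r hr
      show g (algebraMap R A r) = 0
      rw [g.commutes, IsScalarTower.algebraMap_apply R (R ⧸ K) ((R ⧸ K) ⊗[R] A),
        Ideal.Quotient.algebraMap_eq, Ideal.Quotient.eq_zero_iff_mem.2 hr, map_zero]
    exact h hx
  have hleft : ∀ z, g' (f z) = z := by
    intro z
    induction z using TensorProduct.induction_on with
    | zero => simp
    | tmul s a =>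
      obtain ⟨r, rfl⟩ := Ideal.Quotient.mk_surjective s
      have h1 : (Ideal.Quotient.mk K r) ⊗ₜ[R] a = r • ((1 : R ⧸ K) ⊗ₜ[R] a) := by
        rw [TensorProduct.smul_tmul', Algebra.smul_def, mul_one, Ideal.Quotient.algebraMap_eq]
      rw [h1, show f (r • ((1 : R ⧸ K) ⊗ₜ[R] a)) = r • f (1 ⊗ₜ a) from
        map_smul (f.restrictScalars R) r _, map_smul, hf]
      rfl
    | add x y hx hy => rw [map_add, map_add, hx, hy]
  have hsurj : Function.Surjective f := fun y => by
    obtain ⟨a, rfl⟩ := Ideal.Quotient.mk_surjective y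
    exact ⟨_, hf a⟩
  let e := AlgEquiv.ofBijective f ⟨fun x y h => by rw [← hleft x, h, hleft], hsurj⟩
  haveI : Algebra.FinitePresentation (R ⧸ K) (A ⧸ K.map (algebraMap R A)) :=
    Algebra.FinitePresentation.equiv e
  rw [(singularIdeal_eq (R := R) (A := A)).1,
    Ideal.IsRadical.radical_le_iff ((isRadical_singularIdeal _ _).comap _), Ideal.span_le]
  intro a ha
  show Ideal.Quotient.mk _ a ∈ singularIdeal _ _
  rw [(singularIdeal_eq (R := R ⧸ K) (A := A ⧸ K.map (algebraMap R A))).1, ← hf]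
  exact Ideal.le_radical (Ideal.subset_span
    (isStrictlyStandard_of_algEquiv e ((isStandard_baseChange (R' := R ⧸ K) a).2 ha)))

/-- the singular ideal does not change along an isomorphism of bases -/
lemma singularIdeal_le_of_bijective (S T C : Type u) [CommRing S] [CommRing T] [CommRing C]
    [Algebra S T] [Algebra S C] [Algebra T C] [IsScalarTower S T C]
    (hb : Function.Bijective (algebraMap S T)) :
    singularIdeal T C ≤ singularIdeal S C := by
  intro x hx
  rw [singularIdeal, PrimeSpectrum.mem_vanishingIdeal] at hx ⊢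
  intro p hp
  refine hx p fun hsm => hp ?_
  haveI : Algebra.FormallySmooth S T :=
    Algebra.FormallySmooth.of_equiv (AlgEquiv.ofBijective (Algebra.ofId S T) hb)
  haveI : Algebra.FormallySmooth T (Localization.AtPrime p.asIdeal) := hsm
  exact Algebra.FormallySmooth.comp S T _

/-- resolvability modulo an ideal of the base, with the ideals pulled back to `Λ` -/
def ResolvableModulo {R A Λ : Type u} [CommRing R] [CommRing A] [Algebra R A] [CommRing Λ]
    [Algebra R Λ] (φ : A →ₐ[R] Λ) (𝔮 : Ideal Λ) (I : Ideal R) : Prop :=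
  ∃ (C : Type u) (_ : CommRing C) (_ : Algebra R C) (_ : Algebra (R ⧸ I) C)
    (_ : IsScalarTower R (R ⧸ I) C), Algebra.FinitePresentation (R ⧸ I) C ∧
    ∃ (γ : A →ₐ[R] C) (h : C →ₐ[R] Λ ⧸ I.map (algebraMap R Λ)),
      (∀ a, h (γ a) = Ideal.Quotient.mk _ (φ a)) ∧
      singRad R φ ≤ (((singularIdeal (R ⧸ I) C).map h).radical).comap (Ideal.Quotient.mk _) ∧
      ¬ (((singularIdeal (R ⧸ I) C).map h).radical).comap (Ideal.Quotient.mk _) ≤ 𝔮

section

variable {R A Λ : Type u} [CommRing R] [IsNoetherianRing R] [CommRing A] [Algebra R A]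
  [Algebra.FinitePresentation R A] [CommRing Λ] [Algebra R Λ] (φ : A →ₐ[R] Λ) (𝔮 : Ideal Λ)

omit [IsNoetherianRing R] in
theorem resolvableModulo_of_resolvable (K : Ideal R)
    (φK : (A ⧸ K.map (algebraMap R A)) →ₐ[R ⧸ K] (Λ ⧸ K.map (algebraMap R Λ)))
    (hφK : ∀ a : A, φK (Ideal.Quotient.mk _ a) = Ideal.Quotient.mk _ (φ a))
    (hK𝔮 : K.map (algebraMap R Λ) ≤ 𝔮)
    (hres : Resolvable (R ⧸ K) φK (𝔮.map (Ideal.Quotient.mk (K.map (algebraMap R Λ))))) :
    ResolvableModulo φ 𝔮 K := by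
  obtain ⟨C, _, _, hC, g, h, hgh, hle, hne⟩ := hres
  letI : Algebra R C := ((algebraMap (R ⧸ K) C).comp (algebraMap R (R ⧸ K))).toAlgebra
  haveI : IsScalarTower R (R ⧸ K) C := IsScalarTower.of_algebraMap_eq fun _ => rfl
  haveI := hC
  refine ⟨C, inferInstance, inferInstance, inferInstance, inferInstance, hC,
    (g.restrictScalars R).comp (Ideal.Quotient.mkₐ R _), h.restrictScalars R, fun a => ?_, ?_,
    fun hJ => hne ?_⟩
  · show h (g (Ideal.Quotient.mk _ a)) = _
    rw [← hφK, ← hgh]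
    rfl
  · rw [singRad, Ideal.IsRadical.radical_le_iff ((Ideal.radical_isRadical _).comap _),
      Ideal.map_le_iff_le_comap]
    intro a ha
    show Ideal.Quotient.mk _ (φ a) ∈ (((singularIdeal (R ⧸ K) C).map h).radical)
    rw [← hφK]
    exact hle (Ideal.le_radical (Ideal.mem_map_of_mem φK (singularIdeal_le_comap_quotient K ha)))
  · intro x hx
    obtain ⟨l, rfl⟩ := Ideal.Quotient.mk_surjective x
    exact Ideal.mem_map_of_mem _ (hJ hx)

omit [IsNoetherianRing R] [Algebra.FinitePresentation R A] in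
theorem resolvable_of_resolvableModulo_bot (I : Ideal R) (hI : I = ⊥)
    (h : ResolvableModulo φ 𝔮 I) : Resolvable R φ 𝔮 := by
  obtain ⟨C, _, _, _, _, hC, γ, h, hfac, hle, hne⟩ := h
  haveI := hC
  haveI : Algebra.FinitePresentation R (R ⧸ I) :=
    Algebra.FinitePresentation.quotient (by rw [hI]; exact Submodule.fg_bot)
  have hbij : Function.Bijective (algebraMap R (R ⧸ I)) :=
    ⟨(injective_iff_map_eq_zero _).2 fun r hr => by
      simpa [hI] using Ideal.Quotient.eq_zero_iff_mem.1 hr, Ideal.Quotient.mk_surjective⟩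
  let m : Λ →ₐ[R] Λ ⧸ I.map (algebraMap R Λ) := Ideal.Quotient.mkₐ R _
  have hm : Function.Bijective m :=
    ⟨(injective_iff_map_eq_zero _).2 fun x hx => by
      simpa [hI] using Ideal.Quotient.eq_zero_iff_mem.1 hx, Ideal.Quotient.mk_surjective⟩
  let e := AlgEquiv.ofBijective m hm
  have hH := singularIdeal_le_of_bijective R (R ⧸ I) C hbij
  have hJ : (((singularIdeal (R ⧸ I) C).map h).radical).comap (Ideal.Quotient.mk _) ≤
      singRad R (e.symm.toAlgHom.comp h) := by
    rintro x ⟨k, hk⟩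
    refine ⟨k, ?_⟩
    rw [← map_pow] at hk
    have h1 := Ideal.mem_map_of_mem e.symm.toAlgHom.toRingHom (Ideal.map_mono hH hk)
    have h2 : e.symm (Ideal.Quotient.mk _ (x ^ k)) = x ^ k := e.symm_apply_apply (x ^ k)
    rw [show e.symm.toAlgHom.toRingHom (Ideal.Quotient.mk _ (x ^ k)) = x ^ k from h2] at h1
    have h3 : Ideal.map e.symm.toAlgHom.toRingHom (Ideal.map h (singularIdeal R C)) =
        Ideal.map (e.symm.toAlgHom.comp h) (singularIdeal R C) := Ideal.map_map h.toRingHom _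
    exact h3 ▸ h1
  refine ⟨C, inferInstance, inferInstance, Algebra.FinitePresentation.trans R (R ⧸ I) C,
    γ, e.symm.toAlgHom.comp h, AlgHom.ext fun a => ?_, hle.trans hJ, fun h' => hne (hJ.trans h')⟩
  show e.symm (h (γ a)) = φ a
  rw [hfac]
  exact e.symm_apply_apply (φ a)

theorem resolvableModulo_step (π : R) (I I' : Ideal R) (hI' : I' = I ⊔ Ideal.span {π ^ 8})
    (hR : ∀ x : R ⧸ I, Ideal.Quotient.mk I π ^ 2 * x = 0 → Ideal.Quotient.mk I π * x = 0)
    (hΛ : ∀ x : Λ, algebraMap R Λ π ^ 2 * x ∈ I.map (algebraMap R Λ) →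
      algebraMap R Λ π * x ∈ I.map (algebraMap R Λ))
    (hstd : IsStrictlyStandard R A (algebraMap R A π))
    (h : ResolvableModulo φ 𝔮 I') : ResolvableModulo φ 𝔮 I := by
  obtain ⟨C, _, _, _, _, hC, γ, g, hfac, hle, hne⟩ := h
  haveI := hC
  let R' := R ⧸ I
  let Λ' := Λ ⧸ I.map (algebraMap R Λ)
  let p : R' := Ideal.Quotient.mk I π
  have hle' : I ≤ I' := hI' ▸ le_sup_left
  -- `C` as an algebra over `R'/p⁸`
  letI : Algebra R' C :=
    ((algebraMap (R ⧸ I') C).comp (Ideal.Quotient.factor hle')).toAlgebra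
  haveI : IsScalarTower R R' C := IsScalarTower.of_algebraMap_eq fun r => by
    rw [IsScalarTower.algebraMap_apply R (R ⧸ I') C]
    rfl
  have hπI' : π ^ 8 ∈ I' := hI' ▸ Ideal.mem_sup_right (Ideal.mem_span_singleton_self _)
  let e : R' ⧸ Ideal.span {p ^ 8} →+* R ⧸ I' :=
    Ideal.Quotient.lift _ (Ideal.Quotient.factor hle') fun x hx => by
      obtain ⟨c, rfl⟩ := Ideal.mem_span_singleton'.1 hx
      rw [map_mul, map_pow, Ideal.Quotient.factor_mk, ← map_pow,
        Ideal.Quotient.eq_zero_iff_mem.2 hπI', mul_zero]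
  have he : Function.Bijective e := by
    refine ⟨(injective_iff_map_eq_zero e).2 fun x hx => ?_, fun y => ?_⟩
    · obtain ⟨x, rfl⟩ := Ideal.Quotient.mk_surjective x
      obtain ⟨r, rfl⟩ := Ideal.Quotient.mk_surjective x
      change Ideal.Quotient.mk I' r = 0 at hx
      rw [Ideal.Quotient.eq_zero_iff_mem, hI'] at hx
      obtain ⟨i, hi, j, hj, rfl⟩ := Submodule.mem_sup.1 hx
      obtain ⟨c, rfl⟩ := Ideal.mem_span_singleton'.1 hj
      refine Ideal.Quotient.eq_zero_iff_mem.2 ?_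
      rw [map_add, Ideal.Quotient.eq_zero_iff_mem.2 hi, zero_add, map_mul, map_pow]
      exact Ideal.mul_mem_left _ _ (Ideal.mem_span_singleton_self _)
    · obtain ⟨r, rfl⟩ := Ideal.Quotient.mk_surjective y
      exact ⟨Ideal.Quotient.mk _ (Ideal.Quotient.mk _ r), rfl⟩
  letI : Algebra (R' ⧸ Ideal.span {p ^ 8}) (R ⧸ I') := e.toAlgebra
  letI : Algebra (R' ⧸ Ideal.span {p ^ 8}) C := ((algebraMap (R ⧸ I') C).comp e).toAlgebra
  haveI : IsScalarTower (R' ⧸ Ideal.span {p ^ 8}) (R ⧸ I') C :=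
    IsScalarTower.of_algebraMap_eq fun _ => rfl
  haveI : IsScalarTower R' (R' ⧸ Ideal.span {p ^ 8}) C :=
    IsScalarTower.of_algebraMap_eq (R := R') (S := R' ⧸ Ideal.span {p ^ 8}) (A := C) fun _ => rfl
  haveI : Algebra.FinitePresentation (R' ⧸ Ideal.span {p ^ 8}) (R ⧸ I') :=
    Algebra.FinitePresentation.equiv
      (AlgEquiv.ofBijective (Algebra.ofId (R' ⧸ Ideal.span {p ^ 8}) (R ⧸ I')) he)
  haveI : Algebra.FinitePresentation (R' ⧸ Ideal.span {p ^ 8}) C :=
    Algebra.FinitePresentation.trans _ (R ⧸ I') C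
  have hH := singularIdeal_le_of_bijective (R' ⧸ Ideal.span {p ^ 8}) (R ⧸ I') C he
  -- `Λ'` over `R'`
  letI : Algebra R' Λ' := (Ideal.quotientMap _ (algebraMap R Λ) Ideal.le_comap_map).toAlgebra
  haveI : IsScalarTower R R' Λ' := IsScalarTower.of_algebraMap_eq fun _ => rfl
  have hp' : algebraMap R' Λ' p = Ideal.Quotient.mk _ (algebraMap R Λ π) := rfl
  have hΛ' : ∀ x : Λ', p ^ 2 • x = 0 → p • x = 0 := by
    intro x hx
    obtain ⟨x, rfl⟩ := Ideal.Quotient.mk_surjective x
    rw [Algebra.smul_def, map_pow, hp', ← map_pow, ← map_mul, Ideal.Quotient.eq_zero_iff_mem] at hx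
    rw [Algebra.smul_def, hp', ← map_mul, Ideal.Quotient.eq_zero_iff_mem]
    exact hΛ x hx
  let A' := R' ⊗[R] A
  let φ' : A' →ₐ[R'] Λ' := Algebra.TensorProduct.lift (Algebra.ofId R' Λ')
    ((Ideal.Quotient.mkₐ R _).comp φ) fun _ _ => Commute.all _ _
  let γ' : A' →ₐ[R'] C :=
    Algebra.TensorProduct.lift (Algebra.ofId R' C) γ fun _ _ => Commute.all _ _
  have hstd' : IsStrictlyStandard R' A' (algebraMap R' A' p) := by
    have h1 := (isStandard_baseChange (R' := R') (algebraMap R A π)).2 hstd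
    have : (1 : R') ⊗ₜ[R] algebraMap R A π = algebraMap R' A' p := by
      rw [Algebra.TensorProduct.algebraMap_apply]
      show _ = algebraMap R R' π ⊗ₜ[R] (1 : A)
      rw [Algebra.algebraMap_eq_smul_one π, Algebra.algebraMap_eq_smul_one π,
        TensorProduct.smul_tmul]
    rwa [this] at h1
  let mk8 := Ideal.Quotient.mk (Ideal.span {algebraMap R' Λ' (p ^ 8)})
  have hker : ∀ x ∈ I'.map (algebraMap R Λ), mk8 (Ideal.Quotient.mk _ x) = 0 := by
    intro x hx
    rw [hI', Ideal.map_sup, Ideal.map_span, Set.image_singleton] at hx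
    obtain ⟨i, hi, j, hj, rfl⟩ := Submodule.mem_sup.1 hx
    obtain ⟨c, rfl⟩ := Ideal.mem_span_singleton'.1 hj
    refine Ideal.Quotient.eq_zero_iff_mem.2 ?_
    rw [map_add, Ideal.Quotient.eq_zero_iff_mem.2 hi, zero_add, map_mul, map_pow (algebraMap R' Λ'),
      hp', map_pow (algebraMap R Λ), map_pow]
    exact Ideal.mul_mem_left _ _ (Ideal.mem_span_singleton_self _)
  let ε : Λ ⧸ I'.map (algebraMap R Λ) →ₐ[R] Λ' ⧸ Ideal.span {algebraMap R' Λ' (p ^ 8)} :=
    Ideal.Quotient.liftₐ _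
      ((Ideal.Quotient.mkₐ R _).comp (Ideal.Quotient.mkₐ R (I.map (algebraMap R Λ)))) hker
  have hε : ∀ x, ε (Ideal.Quotient.mk _ x) = mk8 (Ideal.Quotient.mk _ x) := fun _ => rfl
  let g' : C →ₐ[R'] Λ' ⧸ Ideal.span {algebraMap R' Λ' (p ^ 8)} :=
    AlgHom.mk (ε.comp g).toRingHom fun r' => by
      obtain ⟨r, rfl⟩ := Ideal.Quotient.mk_surjective r'
      show (ε.comp g) (algebraMap R' C (algebraMap R R' r)) = _
      rw [← IsScalarTower.algebraMap_apply R R' C, AlgHom.commutes]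
      exact IsScalarTower.algebraMap_apply R R' _ r
  have hfac' : ∀ a, g' (γ' a) = mk8 (φ' a) := by
    have heq : g'.comp γ' = (Ideal.Quotient.mkₐ R' _).comp φ' :=
      Algebra.TensorProduct.ext (Subsingleton.elim _ _) (AlgHom.ext fun a => by
        show g' (γ' (1 ⊗ₜ a)) = mk8 (φ' (1 ⊗ₜ a))
        rw [Algebra.TensorProduct.lift_tmul, Algebra.TensorProduct.lift_tmul, map_one, map_one,
          one_mul, one_mul]
        show ε (g (γ a)) = _
        rw [hfac, hε]
        rfl)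
    exact fun a => AlgHom.congr_fun heq a
  obtain ⟨B, _, _, hB, α, β, hαβ, hsmB, hsing⟩ :=
    desingularize_lifting p hR hΛ' φ' hstd' γ' g' hfac'
  letI : Algebra R B := ((algebraMap R' B).comp (algebraMap R R')).toAlgebra
  haveI : IsScalarTower R R' B := IsScalarTower.of_algebraMap_eq fun _ => rfl
  have hpJ : algebraMap R' Λ' (p ^ 8) ∈ ((singularIdeal R' B).map β).radical := by
    rw [map_pow]
    refine Ideal.pow_mem_of_mem _ (Ideal.le_radical ?_) 8 (by norm_num)
    rw [← β.commutes]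
    refine Ideal.mem_map_of_mem _ ?_
    rw [singularIdeal, PrimeSpectrum.mem_vanishingIdeal]
    intro P hP
    by_contra hc
    exact hP (hsmB P.asIdeal hc)
  have hJ : (((singularIdeal (R ⧸ I') C).map g).radical).comap (Ideal.Quotient.mk _) ≤
      (((singularIdeal R' B).map β).radical).comap (Ideal.Quotient.mk _) := by
    rintro x ⟨k, hk⟩
    rw [← map_pow] at hk
    have h1 := Ideal.mem_map_of_mem ε.toRingHom hk
    rw [show Ideal.map ε.toRingHom (Ideal.map g (singularIdeal (R ⧸ I') C)) =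
      Ideal.map g'.toRingHom (singularIdeal (R ⧸ I') C) from Ideal.map_map g.toRingHom _] at h1
    have h2 : ε (Ideal.Quotient.mk _ (x ^ k)) ∈
        (((singularIdeal R' B).map β).radical).map mk8 := hsing (Ideal.map_mono hH h1)
    rw [hε] at h2
    obtain ⟨y, hy, hyx⟩ := (Ideal.mem_map_iff_of_surjective mk8 Ideal.Quotient.mk_surjective).1 h2
    have h3 : Ideal.Quotient.mk _ (x ^ k) - y ∈ ((singularIdeal R' B).map β).radical :=
      (Ideal.span_singleton_le_iff_mem _).2 hpJ (Ideal.Quotient.eq.1 hyx.symm)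
    have h4 : Ideal.Quotient.mk _ (x ^ k) ∈ ((singularIdeal R' B).map β).radical := by
      have := add_mem h3 hy
      rwa [sub_add_cancel] at this
    rw [map_pow] at h4
    exact Ideal.radical_isRadical _ ⟨k, h4⟩
  refine ⟨B, inferInstance, inferInstance, inferInstance, inferInstance, hB,
    (α.restrictScalars R).comp Algebra.TensorProduct.includeRight, β.restrictScalars R, fun a => ?_,
    hle.trans hJ, fun h' => hne (hJ.trans h')⟩
  show β (α (1 ⊗ₜ a)) = _
  rw [show β (α (1 ⊗ₜ a)) = φ' (1 ⊗ₜ a) from AlgHom.congr_fun hαβ _,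
    Algebra.TensorProduct.lift_tmul, map_one, one_mul]
  rfl

theorem resolvable_mod_pow_eight {r : ℕ} (π : Fin r → R)
    (hπ𝔮 : ∀ i, algebraMap R Λ (π i) ∈ 𝔮)
    (hR : ∀ i : Fin r, ∀ x : R ⧸ Ideal.span (Set.range fun j : {j : Fin r // (j : ℕ) < (i : ℕ)} =>
        π j ^ 8),
      Ideal.Quotient.mk _ (π i) ^ 2 * x = 0 → Ideal.Quotient.mk _ (π i) * x = 0)
    (hΛ : ∀ i : Fin r, ∀ x : Λ ⧸ Ideal.span (Set.range fun j : {j : Fin r // (j : ℕ) < (i : ℕ)} =>
        algebraMap R Λ (π j) ^ 8),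
      Ideal.Quotient.mk _ (algebraMap R Λ (π i)) ^ 2 * x = 0 →
        Ideal.Quotient.mk _ (algebraMap R Λ (π i)) * x = 0)
    (hstd : ∀ i, IsStrictlyStandard R A (algebraMap R A (π i)))
    (K : Ideal R) (hK : K = Ideal.span (Set.range fun i => π i ^ 8))
    (φK : (A ⧸ K.map (algebraMap R A)) →ₐ[R ⧸ K] (Λ ⧸ K.map (algebraMap R Λ)))
    (hφK : ∀ a : A, φK (Ideal.Quotient.mk _ a) = Ideal.Quotient.mk _ (φ a))
    (hres : Resolvable (R ⧸ K) φK (𝔮.map (Ideal.Quotient.mk (K.map (algebraMap R Λ))))) :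
    Resolvable R φ 𝔮 := by
  let I : ℕ → Ideal R := fun k =>
    Ideal.span (Set.range fun j : {j : Fin r // (j : ℕ) < k} => π j ^ 8)
  have hIr : I r = K := by
    rw [hK]
    refine congrArg Ideal.span (Set.ext fun x => ⟨?_, ?_⟩)
    · rintro ⟨j, rfl⟩; exact ⟨j.1, rfl⟩
    · rintro ⟨j, rfl⟩; exact ⟨⟨j, j.2⟩, rfl⟩
  have hI0 : I 0 = ⊥ := by
    refine Ideal.span_eq_bot.2 ?_
    rintro _ ⟨⟨j, hj⟩, rfl⟩
    exact absurd hj (Nat.not_lt_zero _)
  have hIsucc : ∀ i : Fin r, I ((i : ℕ) + 1) = I i ⊔ Ideal.span {π i ^ 8} := by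
    intro i
    refine le_antisymm (Ideal.span_le.2 ?_) (sup_le (Ideal.span_mono ?_) ?_)
    · rintro _ ⟨⟨j, hj⟩, rfl⟩
      rcases Nat.lt_succ_iff_lt_or_eq.1 hj with h | h
      · exact Ideal.mem_sup_left (Ideal.subset_span ⟨⟨j, h⟩, rfl⟩)
      · obtain rfl : j = i := Fin.ext h
        exact Ideal.mem_sup_right (Ideal.mem_span_singleton_self _)
    · rintro _ ⟨⟨j, hj⟩, rfl⟩
      exact ⟨⟨j, Nat.lt_succ_of_lt hj⟩, rfl⟩
    · rw [Ideal.span_singleton_le_iff_mem]
      exact Ideal.subset_span ⟨⟨i, Nat.lt_succ_self _⟩, rfl⟩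
  have hImap : ∀ k, (I k).map (algebraMap R Λ) =
      Ideal.span (Set.range fun j : {j : Fin r // (j : ℕ) < k} => algebraMap R Λ (π j) ^ 8) := by
    intro k
    rw [Ideal.map_span, ← Set.range_comp]
    exact congrArg Ideal.span (congrArg Set.range (funext fun j => map_pow _ _ _))
  have hK𝔮 : K.map (algebraMap R Λ) ≤ 𝔮 := by
    rw [← hIr, hImap, Ideal.span_le]
    rintro _ ⟨j, rfl⟩
    exact Ideal.pow_mem_of_mem _ (hπ𝔮 j.1) 8 (by norm_num)
  have key : ∀ k, k ≤ r → ResolvableModulo φ 𝔮 (I k) → ResolvableModulo φ 𝔮 (I 0) := by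
    intro k
    induction k with
    | zero => exact fun _ h => h
    | succ k ih =>
      intro hk h
      refine ih (k.le_succ.trans hk) (resolvableModulo_step φ 𝔮 (π ⟨k, hk⟩) (I k) (I (k + 1))
        (hIsucc ⟨k, hk⟩) (hR ⟨k, hk⟩) (fun x hx => ?_) (hstd _) h)
      rw [hImap] at hx ⊢
      have := hΛ ⟨k, hk⟩ (Ideal.Quotient.mk _ x) (by
        rw [← map_pow, ← map_mul, Ideal.Quotient.eq_zero_iff_mem]; exact hx)
      rwa [← map_mul, Ideal.Quotient.eq_zero_iff_mem] at this
  refine resolvable_of_resolvableModulo_bot φ 𝔮 _ hI0 (key r le_rfl ?_)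
  rw [hIr]
  exact resolvableModulo_of_resolvable φ 𝔮 K φK hφK hK𝔮 hres

end

end Smoothing
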