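import Groth.Agent.Lib.Smoothing.DesingStrict
import Groth.Agent.Lib.Smoothing.SingularIdeal
import Mathlib.RingTheory.Localization.Integer
import Mathlib.RingTheory.Polynomial.Basic

set_option autoImplicit false
set_option backward.isDefEq.respectTransparency false

/-! Delocalization at a prime of the target. -/

open scoped TensorProduct

namespace Smoothing

universe u

/-- smoothness at a prime from a comparison with a formally smooth algebra -/
lemma isSmoothAt_of_map {R C L : Type u} [CommRing R] [CommRing C] [Algebra R C] [CommRing L]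
    [Algebra R L] [Algebra.FormallySmooth R L] (f : C →ₐ[R] L) (P : Ideal C) [P.IsPrime]
    (M : Submonoid C) (hMP : M ≤ P.primeCompl) (hunit : ∀ m ∈ M, IsUnit (f m))
    (hsurj : ∀ y, ∃ t m, m ∈ M ∧ y * f m = f t)
    (hker : ∀ k, f k = 0 → ∃ m ∈ M, m * k = 0) : Algebra.IsSmoothAt R P := by
  letI : Algebra C L := f.toRingHom.toAlgebra
  haveI : IsScalarTower R C L := IsScalarTower.of_algebraMap_eq fun r => (f.commutes r).symm
  haveI : IsLocalization M L :=
    { map_units := fun ⟨m, hm⟩ => hunit m hm
      surj := fun y => by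
        obtain ⟨t, m, hm, h⟩ := hsurj y
        exact ⟨(t, ⟨m, hm⟩), h⟩
      exists_of_eq := fun {x y} hxy => by
        obtain ⟨m, hm, h⟩ := hker (x - y) (by rw [map_sub]; exact sub_eq_zero.2 hxy)
        exact ⟨⟨m, hm⟩, sub_eq_zero.1 (by rw [← mul_sub]; exact h)⟩ }
  let CP := Localization.AtPrime P
  let e : L →+* CP := IsLocalization.lift (M := M) (g := algebraMap C CP) fun m =>
    IsLocalization.map_units CP (⟨m, hMP m.2⟩ : P.primeCompl)
  letI : Algebra L CP := e.toAlgebra
  haveI : IsScalarTower C L CP := IsScalarTower.of_algebraMap_eq fun x => (IsLocalization.lift_eq _ x).symm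
  haveI : IsScalarTower R L CP := IsScalarTower.of_algebraMap_eq fun r => by
    rw [IsScalarTower.algebraMap_apply R C L, ← IsScalarTower.algebraMap_apply C L CP,
      ← IsScalarTower.algebraMap_apply R C CP]
  haveI : IsLocalization (P.primeCompl.map (algebraMap C L)) CP :=
    IsLocalization.isLocalization_of_submonoid_le L CP M P.primeCompl hMP
  haveI : Algebra.FormallySmooth L CP :=
    Algebra.FormallySmooth.of_isLocalization (P.primeCompl.map (algebraMap C L))
  exact Algebra.FormallySmooth.comp R L CP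

/-- adjoining a unit -/
abbrev AdjoinUnit (S : Type u) [CommRing S] : Type u := Localization.Away (Polynomial.X : Polynomial S)

lemma adjoinUnit_injective (S : Type u) [CommRing S] :
    Function.Injective (algebraMap (Polynomial S) (AdjoinUnit S)) :=
  IsLocalization.injective _ (Submonoid.powers_le.2 Polynomial.monic_X.mem_nonZeroDivisors)

lemma formallySmooth_adjoinUnit (R S : Type u) [CommRing R] [CommRing S] [Algebra R S]
    [Algebra.FormallySmooth R S] : Algebra.FormallySmooth R (AdjoinUnit S) := by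
  haveI : Algebra.FormallySmooth S (AdjoinUnit S) := by
    haveI : Algebra.FormallySmooth (Polynomial S) (AdjoinUnit S) :=
      Algebra.FormallySmooth.of_isLocalization (Submonoid.powers Polynomial.X)
    exact Algebra.FormallySmooth.comp S (Polynomial S) (AdjoinUnit S)
  exact Algebra.FormallySmooth.comp R S (AdjoinUnit S)

theorem weak_delocalize {R A Λ Λq B : Type u} [CommRing R] [IsNoetherianRing R] [CommRing A]
    [Algebra R A] [Algebra.FiniteType R A] [CommRing Λ] [Algebra R Λ] (φ : A →ₐ[R] Λ)
    (𝔮 : Ideal Λ) [𝔮.IsPrime] [CommRing Λq] [Algebra Λ Λq] [IsLocalization.AtPrime Λq 𝔮]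
    [Algebra R Λq] [IsScalarTower R Λ Λq]
    (Rₛ : Type u) [CommRing Rₛ] [Algebra R Rₛ] (S : Submonoid R) [IsLocalization S Rₛ]
    [CommRing B] [Algebra R B] [Algebra Rₛ B] [IsScalarTower R Rₛ B] [Algebra.FiniteType Rₛ B]
    [Algebra.FormallySmooth R B] (g : A →ₐ[R] B) (h : B →ₐ[R] Λq)
    (hgh : ∀ a, h (g a) = algebraMap Λ Λq (φ a)) (hS : ∀ s ∈ S, algebraMap R Λ s ∉ 𝔮)
    {ι : Type} [Finite ι] (ν : ι → Λ) (hν : ∀ i, algebraMap Λ Λq (ν i) = 0) :
    ∃ (C : Type u) (_ : CommRing C) (_ : Algebra R C), Algebra.FinitePresentation R C ∧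
      ∃ (γ : A →ₐ[R] C) (χ : C →ₐ[R] Λ), χ.comp γ = φ ∧
        Algebra.IsSmoothAt R (𝔮.comap χ) ∧
        ∀ (Q : Ideal Λ) [Q.IsPrime], (∃ i, ν i ∉ Q) → Algebra.IsSmoothAt R (Q.comap φ) →
          Algebra.IsSmoothAt R (Q.comap χ) := by
  classical
  obtain ⟨n, π, hπ⟩ := Algebra.FiniteType.iff_quotient_mvPolynomial''.1 ‹Algebra.FiniteType Rₛ B›
  let b : Fin n → B := fun i => π (MvPolynomial.X i)
  obtain ⟨lam, hlam⟩ :=
    IsLocalization.exist_integer_multiples_of_finite 𝔮.primeCompl fun i => h (b i)
  choose lb hlb using hlam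
  let T := MvPolynomial (Option (Fin n) ⊕ ι) A
  -- the first stage
  let Z : AdjoinUnit B := algebraMap (Polynomial B) _ Polynomial.X
  let cB : B →ₐ[R] AdjoinUnit B := IsScalarTower.toAlgHom R B (AdjoinUnit B)
  let θ : T →ₐ[R] AdjoinUnit B := MvPolynomial.aevalTower (cB.comp g)
    (Sum.elim (fun o => o.elim Z fun i => cB (b i) * Z) 0)
  let χ₁ : T →ₐ[R] Λ := MvPolynomial.aevalTower φ
    (Sum.elim (fun o => o.elim (lam : Λ) lb) ν)
  have hθC : ∀ a : A, θ (MvPolynomial.C a) = cB (g a) := fun a =>
    MvPolynomial.aevalTower_C _ _ a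
  have hθX : ∀ v, θ (MvPolynomial.X v) =
      Sum.elim (fun o : Option (Fin n) => o.elim Z fun i => cB (b i) * Z) 0 v :=
    fun v => MvPolynomial.aevalTower_X _ _ v
  have hχC : ∀ a : A, χ₁ (MvPolynomial.C a) = φ a := fun a => MvPolynomial.aevalTower_C _ _ a
  have hχX : ∀ v, χ₁ (MvPolynomial.X v) =
      Sum.elim (fun o : Option (Fin n) => o.elim (lam : Λ) lb) ν v :=
    fun v => MvPolynomial.aevalTower_X _ _ v
  have hu : IsUnit ((Polynomial.eval₂RingHom h.toRingHom (algebraMap Λ Λq lam)) Polynomial.X) := by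
    rw [Polynomial.coe_eval₂RingHom, Polynomial.eval₂_X]
    exact IsLocalization.map_units Λq lam
  let ev : AdjoinUnit B →+* Λq := IsLocalization.Away.lift (Polynomial.X : Polynomial B) hu
  have hevZ : ev Z = algebraMap Λ Λq lam := by
    rw [IsLocalization.Away.lift_eq, Polynomial.coe_eval₂RingHom, Polynomial.eval₂_X]
  have hevB : ∀ x, ev (cB x) = h x := fun x => by
    show ev (algebraMap B (AdjoinUnit B) x) = h x
    rw [IsScalarTower.algebraMap_apply B (Polynomial B) (AdjoinUnit B), IsLocalization.Away.lift_eq,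
      Polynomial.algebraMap_eq, Polynomial.coe_eval₂RingHom, Polynomial.eval₂_C]
    rfl
  have hev : ∀ t, ev (θ t) = algebraMap Λ Λq (χ₁ t) := by
    intro t
    have : ev.comp θ.toRingHom = (algebraMap Λ Λq).comp χ₁.toRingHom := by
      refine MvPolynomial.ringHom_ext (fun a => ?_) (fun v => ?_)
      · show ev (θ (MvPolynomial.C a)) = algebraMap Λ Λq (χ₁ (MvPolynomial.C a))
        rw [hθC, hχC]
        exact (hevB _).trans (hgh a)
      · show ev (θ (MvPolynomial.X v)) = algebraMap Λ Λq (χ₁ (MvPolynomial.X v))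
        rw [hθX, hχX]
        rcases v with (_ | i) | i
        · exact hevZ
        · show ev (cB (b i) * Z) = algebraMap Λ Λq (lb i)
          rw [map_mul, hevB, hevZ, hlb i, Algebra.smul_def, mul_comm]
        · show ev 0 = algebraMap Λ Λq (ν i)
          rw [map_zero, hν]
    exact RingHom.congr_fun this t
  haveI : IsNoetherianRing A := Algebra.FiniteType.isNoetherianRing R A
  let K : Ideal T := RingHom.ker θ.toRingHom
  obtain ⟨G, hG⟩ := (IsNoetherian.noetherian K : K.FG)
  have hG' : ∀ k ∈ G, ∃ μ : 𝔮.primeCompl, (μ : Λ) * χ₁ k = 0 := by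
    intro k hk
    have h1 : θ k = 0 := by
      have : k ∈ K := hG ▸ Submodule.subset_span hk
      exact this
    refine (IsLocalization.map_eq_zero_iff 𝔮.primeCompl Λq _).1 ?_
    rw [← hev, h1, map_zero]
  choose μ' hμ' using hG'
  let μ : 𝔮.primeCompl := ∏ k : G, μ' k.1 k.2
  have hμ : ∀ k ∈ K, (μ : Λ) * χ₁ k = 0 := by
    intro k hk
    have hle : K ≤ Ideal.comap χ₁ (LinearMap.ker (LinearMap.mulLeft Λ (μ : Λ))) := by
      rw [← hG]
      refine Submodule.span_le.2 fun x hx => ?_
      show (μ : Λ) * χ₁ x = 0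
      obtain ⟨d, hd⟩ : μ' x hx ∣ μ :=
        Finset.dvd_prod_of_mem (fun k : G => μ' k.1 k.2) (Finset.mem_univ (⟨x, hx⟩ : G))
      rw [hd, Submonoid.coe_mul, mul_right_comm, hμ' x hx, zero_mul]
    exact hle hk
  -- the second stage
  let L := AdjoinUnit (AdjoinUnit B)
  let cL : AdjoinUnit B →ₐ[R] L := IsScalarTower.toAlgHom R _ L
  let W : L := algebraMap (Polynomial (AdjoinUnit B)) L Polynomial.X
  let T' := Polynomial T
  let θ' : T' →ₐ[R] L :=
    (IsScalarTower.toAlgHom R (Polynomial (AdjoinUnit B)) L).comp (Polynomial.mapAlgHom θ)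
  have hθ'C : ∀ t, θ' (Polynomial.C t) = cL (θ t) := fun t => by
    show algebraMap (Polynomial (AdjoinUnit B)) L (Polynomial.map θ.toRingHom (Polynomial.C t)) = _
    rw [Polynomial.map_C]
    exact (IsScalarTower.algebraMap_apply (AdjoinUnit B) (Polynomial (AdjoinUnit B)) L _).symm
  have hθ'X : θ' Polynomial.X = W := by
    show algebraMap (Polynomial (AdjoinUnit B)) L (Polynomial.map θ.toRingHom Polynomial.X) = _
    rw [Polynomial.map_X]
  let χ' : T' →ₐ[R] Λ :=
    AlgHom.mk (Polynomial.eval₂RingHom χ₁.toRingHom (μ : Λ)) fun r => by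
      show Polynomial.eval₂ χ₁.toRingHom (μ : Λ) (algebraMap R T' r) = _
      rw [IsScalarTower.algebraMap_apply R T T', Polynomial.algebraMap_eq, Polynomial.eval₂_C]
      exact χ₁.commutes r
  have hχ'C : ∀ t, χ' (Polynomial.C t) = χ₁ t := fun t => Polynomial.eval₂_C _ _
  have hχ'X : χ' Polynomial.X = (μ : Λ) := Polynomial.eval₂_X _ _
  let η : T' →ₐ[R] T := (Polynomial.aeval (R := T) (0 : T)).restrictScalars R
  have hθ'ker : ∀ k, θ' k = 0 → k ∈ K.map Polynomial.C := by
    intro k hk
    have h1 : Polynomial.map θ.toRingHom k = 0 :=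
      adjoinUnit_injective (AdjoinUnit B) (hk.trans (map_zero _).symm)
    rw [← Polynomial.ker_mapRingHom]
    exact h1
  have hμ' : ∀ k ∈ K.map Polynomial.C, (μ : Λ) * χ' k = 0 := by
    intro k hk
    have hle : K.map Polynomial.C ≤ Ideal.comap χ' (LinearMap.ker (LinearMap.mulLeft Λ (μ : Λ))) := by
      rw [Ideal.map_le_iff_le_comap]
      intro t ht
      show (μ : Λ) * χ' (Polynomial.C t) = 0
      rw [hχ'C]
      exact hμ t ht
    exact hle hk
  let J : Ideal T' :=
    RingHom.ker θ'.toRingHom ⊓ RingHom.ker η.toRingHom ⊓ RingHom.ker χ'.toRingHom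
  let C := T' ⧸ J
  haveI : Algebra.FiniteType R T := Algebra.FiniteType.trans (S := A) inferInstance inferInstance
  haveI : Algebra.FiniteType R T' := Algebra.FiniteType.trans (S := T) inferInstance inferInstance
  have hCft : Algebra.FiniteType R C :=
    Algebra.FiniteType.of_surjective (Ideal.Quotient.mkₐ R J) Ideal.Quotient.mk_surjective
  haveI : Algebra.FinitePresentation R C := (Algebra.FinitePresentation.of_finiteType (R := R) (A := T' ⧸ J)).1 hCft
  let mk : T' →ₐ[R] C := Ideal.Quotient.mkₐ R J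
  let χ : C →ₐ[R] Λ := Ideal.Quotient.liftₐ J χ' fun x hx => hx.2
  have hχ : ∀ t, χ (mk t) = χ' t := fun _ => rfl
  let fθ : C →ₐ[R] L := Ideal.Quotient.liftₐ J θ' fun x hx => hx.1.1
  let fη : C →ₐ[R] T := Ideal.Quotient.liftₐ J η fun x hx => hx.1.2
  let γ : A →ₐ[R] C :=
    mk.comp ((IsScalarTower.toAlgHom R T T').comp (IsScalarTower.toAlgHom R A T))
  refine ⟨C, inferInstance, inferInstance, inferInstance, γ, χ, AlgHom.ext fun a => ?_, ?_, ?_⟩
  · show χ' (Polynomial.C (MvPolynomial.C a)) = φ a
    rw [hχ'C]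
    exact MvPolynomial.aevalTower_C _ _ a
  · -- smoothness at the special prime
    haveI : Algebra.FormallySmooth R (AdjoinUnit B) := formallySmooth_adjoinUnit R B
    haveI : Algebra.FormallySmooth R L := formallySmooth_adjoinUnit R (AdjoinUnit B)
    haveI : (𝔮.comap χ).IsPrime := Ideal.IsPrime.comap _
    let M : Submonoid C :=
      (IsUnit.submonoid L).comap fθ.toRingHom.toMonoidHom ⊓ (𝔮.comap χ).primeCompl
    have hWu : IsUnit W := IsLocalization.Away.algebraMap_isUnit _
    have hXM : mk Polynomial.X ∈ M := by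
      refine ⟨?_, ?_⟩
      · show IsUnit (θ' Polynomial.X)
        rw [hθ'X]; exact hWu
      · show ¬ (χ' Polynomial.X ∈ 𝔮)
        rw [hχ'X]; exact μ.2
    refine isSmoothAt_of_map fθ _ M inf_le_right (fun m hm => ?_) ?_ ?_
    · exact hm.1
    · -- denominators
      let U : Subalgebra R L :=
        { carrier := {y | ∃ t m, m ∈ M ∧ y * fθ m = fθ t}
          mul_mem' := fun {y z} ⟨t, m, hm, hy⟩ ⟨t', m', hm', hz⟩ => ⟨t * t', m * m', mul_mem hm hm', by
            rw [map_mul, map_mul, ← hy, ← hz]; ring⟩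
          one_mem' := ⟨1, 1, one_mem M, by simp⟩
          add_mem' := fun {y z} ⟨t, m, hm, hy⟩ ⟨t', m', hm', hz⟩ =>
            ⟨t * m' + t' * m, m * m', mul_mem hm hm', by
              rw [map_add, map_mul, map_mul, map_mul, ← hy, ← hz]; ring⟩
          zero_mem' := ⟨0, 1, one_mem M, by simp⟩
          algebraMap_mem' := fun r => ⟨algebraMap R C r, 1, one_mem M, by
            rw [map_one, mul_one, fθ.commutes]⟩ }
      have hinv : ∀ y z : L, y * z = 1 → (∃ m ∈ M, fθ m = y) → z ∈ U := by
        rintro y z hyz ⟨m, hm, rfl⟩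
        exact ⟨1, m, hm, by rw [mul_comm, hyz, map_one]⟩
      have hrange : ∀ c : C, fθ c ∈ U := fun c => ⟨c, 1, one_mem M, by simp⟩
      have hW : W ∈ U := hθ'X ▸ hrange (mk Polynomial.X)
      have hW' : IsLocalization.Away.invSelf (S := L) (Polynomial.X : Polynomial (AdjoinUnit B)) ∈ U :=
        hinv W _ (IsLocalization.Away.mul_invSelf _) ⟨_, hXM, hθ'X⟩
      have hcLθ : ∀ t, cL (θ t) ∈ U := fun t => hθ'C t ▸ hrange (mk (Polynomial.C t))
      have hzθ : θ (MvPolynomial.X (Sum.inl none)) = Z := hθX _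
      have hxθ : ∀ i, θ (MvPolynomial.X (Sum.inl (some i))) = cB (b i) * Z := fun i => hθX _
      have hZ : cL Z ∈ U := hzθ ▸ hcLθ _
      have hzM : mk (Polynomial.C (MvPolynomial.X (Sum.inl none))) ∈ M := by
        refine ⟨?_, ?_⟩
        · show IsUnit (θ' _)
          rw [hθ'C, hzθ]
          exact (IsLocalization.Away.algebraMap_isUnit (S := AdjoinUnit B) Polynomial.X).map cL
        · show ¬ (χ' _ ∈ 𝔮)
          rw [hχ'C]
          rw [hχX]
          exact lam.2
      have hZ' : cL (IsLocalization.Away.invSelf (S := AdjoinUnit B) (Polynomial.X : Polynomial B)) ∈ U :=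
        hinv (cL Z) _ (by rw [← map_mul, IsLocalization.Away.mul_invSelf, map_one])
          ⟨_, hzM, (hθ'C _).trans (congrArg cL hzθ)⟩
      have hb : ∀ i, cL (cB (b i)) ∈ U := fun i => by
        have := mul_mem (hcLθ (MvPolynomial.X (Sum.inl (some i)))) hZ'
        rwa [hxθ, map_mul, mul_assoc, ← map_mul, IsLocalization.Away.mul_invSelf, map_one,
          mul_one] at this
      have hRs : ∀ x : Rₛ, cL (cB (algebraMap Rₛ B x)) ∈ U := by
        intro x
        obtain ⟨⟨r, s⟩, hx⟩ := IsLocalization.surj S x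
        have hsu : IsUnit (algebraMap R B s) := by
          rw [IsScalarTower.algebraMap_apply R Rₛ B]
          exact (IsLocalization.map_units Rₛ s).map _
        refine ⟨mk (algebraMap R T' r), mk (algebraMap R T' s), ⟨?_, ?_⟩, ?_⟩
        · show IsUnit (θ' (algebraMap R T' s))
          rw [θ'.commutes, ← (cL.comp cB).commutes]
          exact hsu.map _
        · show ¬ (χ' (algebraMap R T' s) ∈ 𝔮)
          rw [χ'.commutes]
          exact hS s s.2
        · have hx' := congrArg (fun z => cL (cB (algebraMap Rₛ B z))) hx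
          show _ * θ' (algebraMap R T' s) = θ' (algebraMap R T' r)
          rw [θ'.commutes, θ'.commutes]
          simpa [map_mul, ← IsScalarTower.algebraMap_apply, cL.commutes, cB.commutes] using hx'
      have hB : ∀ x : B, cL (cB x) ∈ U := by
        intro x
        obtain ⟨p, rfl⟩ := hπ x
        induction p using MvPolynomial.induction_on with
        | C a =>
          rw [← MvPolynomial.algebraMap_eq, π.commutes]
          exact hRs a
        | add p q hp hq => rw [map_add, map_add, map_add]; exact add_mem hp hq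
        | mul_X p i hp => rw [map_mul, map_mul, map_mul]; exact mul_mem hp (hb i)
      have hB1 : ∀ x : AdjoinUnit B, cL x ∈ U := by
        intro x
        obtain ⟨k, p, hx⟩ := IsLocalization.Away.surj (Polynomial.X : Polynomial B) x
        have hp : cL (algebraMap (Polynomial B) (AdjoinUnit B) p) ∈ U := by
          clear hx
          induction p using Polynomial.induction_on with
          | C a =>
            rw [← Polynomial.algebraMap_eq, ← IsScalarTower.algebraMap_apply]
            exact hB a
          | add p q hp hq => rw [map_add, map_add]; exact add_mem hp hq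
          | monomial j a hp =>
            rw [pow_succ, ← mul_assoc, map_mul, map_mul]
            exact mul_mem hp hZ
        have := mul_mem hp (pow_mem hZ' k)
        rwa [← hx, map_mul, map_pow cL, mul_assoc, ← mul_pow, ← map_mul,
          IsLocalization.Away.mul_invSelf, map_one, one_pow, mul_one] at this
      intro y
      suffices y ∈ U from this
      obtain ⟨k, p, hx⟩ := IsLocalization.Away.surj (Polynomial.X : Polynomial (AdjoinUnit B)) y
      have hp : algebraMap (Polynomial (AdjoinUnit B)) L p ∈ U := by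
        clear hx
        induction p using Polynomial.induction_on with
        | C a =>
          rw [← Polynomial.algebraMap_eq, ← IsScalarTower.algebraMap_apply]
          exact hB1 a
        | add p q hp hq => rw [map_add]; exact add_mem hp hq
        | monomial j a hp =>
          rw [pow_succ, ← mul_assoc, map_mul]
          exact mul_mem hp hW
      have := mul_mem hp (pow_mem hW' k)
      rwa [← hx, mul_assoc, ← mul_pow, IsLocalization.Away.mul_invSelf, one_pow, mul_one] at this
    · intro c hc
      obtain ⟨k, rfl⟩ := Ideal.Quotient.mk_surjective c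
      refine ⟨mk Polynomial.X, hXM, ?_⟩
      show mk Polynomial.X * mk k = 0
      rw [← map_mul]
      refine Ideal.Quotient.eq_zero_iff_mem.2 ⟨⟨?_, ?_⟩, ?_⟩
      · show θ' (Polynomial.X * k) = 0
        rw [map_mul, show θ' k = 0 from hc, mul_zero]
      · show η (Polynomial.X * k) = 0
        rw [map_mul, show η Polynomial.X = 0 from Polynomial.aeval_X _, zero_mul]
      · show χ' (Polynomial.X * k) = 0
        rw [map_mul, hχ'X]
        exact hμ' k (hθ'ker k hc)
  · -- smoothness where `A` is smooth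
    rintro Q _ ⟨i, hi⟩ hsm
    have hνμ : (μ : Λ) * ν i = 0 := by
      have : MvPolynomial.X (Sum.inr i) ∈ K := by
        show θ (MvPolynomial.X (Sum.inr i)) = 0
        exact hθX _
      have h1 := hμ _ this
      rwa [hχX] at h1
    have hμQ : (μ : Λ) ∈ Q :=
      (‹Q.IsPrime›.mem_or_mem (hνμ ▸ Q.zero_mem)).resolve_right hi
    let PT : Ideal T := Q.comap χ₁
    haveI : PT.IsPrime := Ideal.IsPrime.comap _
    have hmod : ∀ k : T', χ₁ (η k) - χ' k ∈ Q := by
      intro k
      have : (Ideal.Quotient.mk Q).comp (χ₁.comp η).toRingHom =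
          (Ideal.Quotient.mk Q).comp χ'.toRingHom := by
        refine Polynomial.ringHom_ext (fun t => ?_) ?_
        · show Ideal.Quotient.mk Q (χ₁ (η (Polynomial.C t))) = Ideal.Quotient.mk Q (χ' (Polynomial.C t))
          rw [hχ'C, show η (Polynomial.C t) = t from Polynomial.aeval_C _ _]
        · show Ideal.Quotient.mk Q (χ₁ (η Polynomial.X)) = Ideal.Quotient.mk Q (χ' Polynomial.X)
          rw [hχ'X, show η Polynomial.X = 0 from Polynomial.aeval_X _, map_zero, map_zero,
            Ideal.Quotient.eq_zero_iff_mem.2 hμQ]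
      exact Ideal.Quotient.eq.1 (RingHom.congr_fun this k)
    have hiff : ∀ k : T', η k ∈ PT ↔ mk k ∈ Q.comap χ := fun k => by
      show χ₁ (η k) ∈ Q ↔ χ' k ∈ Q
      constructor <;> intro hk
      · simpa using sub_mem hk (hmod k)
      · simpa using add_mem (hmod k) hk
    haveI : (Q.comap φ).IsPrime := Ideal.IsPrime.comap _
    have hPA : PT.comap (algebraMap A T) = Q.comap φ := by
      ext a
      show χ₁ (MvPolynomial.C a) ∈ Q ↔ φ a ∈ Q
      rw [hχC]
    haveI : Algebra.IsSmoothAt A PT := Algebra.FormallySmooth.comp A T (Localization.AtPrime PT)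
    haveI : Algebra.IsSmoothAt R (PT.comap (algebraMap A T)) := by
      convert hsm using 1 <;> first | exact hPA | rfl
    have hTsm : Algebra.IsSmoothAt R PT := isSmoothAt_trans (R := R) (D := A) PT
    let LT := Localization.AtPrime PT
    haveI : Algebra.FormallySmooth R LT := hTsm
    haveI : (Q.comap χ).IsPrime := Ideal.IsPrime.comap _
    refine isSmoothAt_of_map ((IsScalarTower.toAlgHom R T LT).comp fη) _ (Q.comap χ).primeCompl
      le_rfl ?_ ?_ ?_
    · intro m hm
      obtain ⟨k, rfl⟩ := Ideal.Quotient.mk_surjective m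
      exact IsLocalization.map_units LT (⟨η k, fun hk => hm ((hiff k).1 hk)⟩ : PT.primeCompl)
    · intro y
      obtain ⟨⟨t, s⟩, hy⟩ := IsLocalization.surj PT.primeCompl y
      have hη : ∀ t, η (Polynomial.C t) = t := fun t => Polynomial.aeval_C _ _
      refine ⟨mk (Polynomial.C t), mk (Polynomial.C (s : T)), fun hmem => s.2 ?_, ?_⟩
      · rw [← hη (s : T)]
        exact (hiff _).2 hmem
      · show y * algebraMap T LT (η (Polynomial.C (s : T))) = algebraMap T LT (η (Polynomial.C t))
        rw [hη, hη]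
        exact hy
    · intro c hc
      obtain ⟨k, rfl⟩ := Ideal.Quotient.mk_surjective c
      obtain ⟨s, hs⟩ := (IsLocalization.map_eq_zero_iff PT.primeCompl LT (η k)).1 hc
      let vs : T' := Polynomial.C (MvPolynomial.X (Sum.inr i)) * Polynomial.C (s : T)
      have hvs : mk vs ∈ (Q.comap χ).primeCompl := by
        show ¬ χ' vs ∈ Q
        rw [map_mul, hχ'C, hχ'C]
        intro hmem
        rcases ‹Q.IsPrime›.mem_or_mem hmem with h1 | h1
        · exact hi (by rw [hχX] at h1; exact h1)
        · exact s.2 h1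
      refine ⟨mk vs, hvs, ?_⟩
      show mk vs * mk k = 0
      rw [← map_mul]
      have hη0 : η (vs * k) = 0 := by
        rw [map_mul, map_mul, show η (Polynomial.C (s : T)) = s from Polynomial.aeval_C _ _,
          mul_assoc, hs, mul_zero]
      refine Ideal.Quotient.eq_zero_iff_mem.2 ⟨⟨?_, hη0⟩, ?_⟩
      · show θ' (vs * k) = 0
        rw [map_mul, map_mul, hθ'C, show θ (MvPolynomial.X (Sum.inr i)) = 0 from hθX _, map_zero,
          zero_mul, zero_mul]
      · show χ' (vs * k) = 0
        have hdiv : Polynomial.C ((s : T)) * k ∈ Ideal.span {(Polynomial.X : T')} := by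
          rw [Ideal.mem_span_singleton, Polynomial.X_dvd_iff, Polynomial.coeff_C_mul,
            Polynomial.coeff_zero_eq_aeval_zero]
          exact hs
        obtain ⟨c, hc'⟩ := Ideal.mem_span_singleton'.1 hdiv
        rw [mul_assoc, ← hc', map_mul, map_mul, hχ'C, hχ'X]
        have h0 : χ₁ (MvPolynomial.X (Sum.inr i)) = ν i := hχX _
        rw [h0]
        linear_combination (χ' c) * hνμ

end Smoothing
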