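import Groth.Agent.Lib.Smoothing.Frame
import Groth.Agent.Lib.Smoothing.StablyFree
import Groth.Agent.Lib.Smoothing.ConormalRetraction

set_option autoImplicit false
set_option backward.isDefEq.respectTransparency false

open MvPolynomial

namespace Smoothing

universe u

lemma span_minors_eq_top {S : Type*} [CommRing S] {c n : ℕ} (M : Matrix (Fin c) (Fin n) S)
    (L : (Fin n → S) →ₗ[S] (Fin c → S)) (hL : ∀ i, L (M i) = Pi.single i 1) :
    Ideal.span (Set.range fun cols : Fin c → Fin n => (M.submatrix id cols).det) = ⊤ := by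
  classical
  by_contra hne
  obtain ⟨m, hm, hle⟩ := Ideal.exists_le_maximal _ hne
  letI : Field (S ⧸ m) := Ideal.Quotient.field m
  let φ := Ideal.Quotient.mk m
  let w : Fin c → Fin n → S ⧸ m := fun i k => φ (M i k)
  have hli : LinearIndependent (S ⧸ m) w := by
    rw [Fintype.linearIndependent_iff]
    intro μ hμ i
    choose μ' hμ' using fun i => Ideal.Quotient.mk_surjective (μ i)
    have hv : ∀ k, φ ((∑ i, μ' i • M i) k) = 0 := fun k => by
      have := congrFun hμ k
      simp only [Finset.sum_apply, Pi.smul_apply, smul_eq_mul, w, ← hμ', Pi.zero_apply] at this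
      simpa [Finset.sum_apply, map_sum, φ] using this
    have h2 : (∑ j, μ' j • M j) = ∑ k, (∑ j, μ' j • M j) k • Pi.single k (1 : S) :=
      pi_eq_sum_univ' _
    have h3 : L (∑ j, μ' j • M j) i = μ' i := by
      rw [map_sum]
      simp [map_smul, hL, Finset.sum_apply, Pi.single_apply]
    rw [h2, map_sum, Finset.sum_apply] at h3
    rw [← hμ' i, ← h3, map_sum]
    refine Finset.sum_eq_zero fun k _ => ?_
    rw [map_smul, Pi.smul_apply, smul_eq_mul, map_mul, hv k, zero_mul]
  obtain ⟨c', rows, cols, hspan, hdet⟩ := exists_minor w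
  have h1 : c' ≤ c := by simpa using Fintype.card_le_of_embedding rows
  have h2 : c ≤ c' := by
    have := hli.of_comp (Submodule.span (S ⧸ m) (Set.range fun i => w (rows i))).subtype
      (v := fun l => (⟨w l, hspan l⟩ : Submodule.span (S ⧸ m) (Set.range fun i => w (rows i))))
    have h3 := this.fintype_card_le_finrank
    rw [finrank_span_eq_card (b := fun i => w (rows i)) (hli.comp rows rows.injective)] at h3
    simpa using h3
  obtain rfl : c' = c := le_antisymm h1 h2
  let σ : Fin c' ≃ Fin c' := Equiv.ofBijective rows (Finite.injective_iff_bijective.1 rows.injective)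
  apply hdet
  have hmem : (M.submatrix id (cols ∘ σ.symm)).det ∈ m := hle (Ideal.subset_span ⟨_, rfl⟩)
  have : (Matrix.of fun j k => w (rows j) (cols k)) =
      ((M.submatrix id (cols ∘ σ.symm)).map φ).submatrix σ σ := by
    ext j k
    simp [w, σ]
  rw [this, Matrix.det_submatrix_equiv_self, ← RingHom.mapMatrix_apply, ← RingHom.map_det]
  exact Ideal.Quotient.eq_zero_iff_mem.2 hmem

lemma isStrictlyStandard_zero {R A : Type u} [CommRing R] [CommRing A] [Algebra R A]
    [Algebra.FinitePresentation R A] : IsStrictlyStandard R A 0 := by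
  classical
  obtain ⟨n, φ, hφ, ⟨s, hs⟩⟩ := Algebra.FinitePresentation.out (R := R) (A := A)
  let f : Fin s.card → MvPolynomial (Fin n) R := fun i => (s.equivFin.symm i : _)
  have hker : RingHom.ker φ.toRingHom = Ideal.span (Set.range f) := by
    have : Set.range f = (s : Set (MvPolynomial (Fin n) R)) := by
      ext x
      exact ⟨fun ⟨i, hi⟩ => hi ▸ (s.equivFin.symm i).2, fun hx => ⟨s.equivFin ⟨x, hx⟩, by simp [f]⟩⟩
    rw [this]
    exact hs.symm
  refine ⟨⟨n, s.card, 0, Nat.zero_le _, Nat.zero_le _, f, φ, hφ, hker⟩, Ideal.zero_mem _,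
    fun a₁ ha₁ j _ => Ideal.mem_sup_right ?_⟩
  have h1 : a₁ ∈ Ideal.span (Set.range f) := by
    rw [← hker, RingHom.mem_ker]
    exact ha₁
  rw [pow_two]
  exact Ideal.mul_mem_mul h1 (Ideal.subset_span ⟨j, rfl⟩)

variable {R A : Type u} [CommRing R] [CommRing A] [Algebra R A]

theorem pow_isStrictlyStandard [Algebra.FinitePresentation R A] (a : A)
    [Algebra.FormallySmooth R (Localization.Away a)] (p q : ℕ)
    (e : (Ω[Localization.Away a⁄R] × (Fin p → Localization.Away a)) ≃ₗ[Localization.Away a]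
      (Fin q → Localization.Away a)) :
    ∃ e₀ : ℕ, ∀ k : ℕ, e₀ ≤ k → IsStrictlyStandard R A (a ^ k) := by
  classical
  let S := Localization.Away a
  rcases subsingleton_or_nontrivial S with hS | hS
  · have h0 : algebraMap A S 1 = 0 := Subsingleton.elim _ _
    obtain ⟨⟨_, k₀, rfl⟩, hk₀⟩ := (IsLocalization.map_eq_zero_iff (Submonoid.powers a) S _).1 h0
    refine ⟨k₀, fun k hk => ?_⟩
    have h1 : a ^ k₀ = 0 := by simpa using hk₀
    rw [pow_eq_zero_of_le hk h1]
    exact isStrictlyStandard_zero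
  obtain ⟨n, φ, hφ, hfg⟩ := Algebra.FinitePresentation.out (R := R) (A := A)
  obtain ⟨s, hs⟩ := id hfg
  let f : Fin s.card → MvPolynomial (Fin n) R := fun i => (s.equivFin.symm i : _)
  have hker : RingHom.ker φ.toRingHom = Ideal.span (Set.range f) := by
    have : Set.range f = (s : Set (MvPolynomial (Fin n) R)) := by
      ext x
      exact ⟨fun ⟨i, hi⟩ => hi ▸ (s.equivFin.symm i).2, fun hx => ⟨s.equivFin ⟨x, hx⟩, by simp [f]⟩⟩
    rw [this]
    exact hs.symm
  obtain ⟨a', ha⟩ := hφ a
  obtain ⟨e₀, h, hh, hret⟩ := exists_conormal_retraction φ hφ hfg a a' ha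
  obtain ⟨g, L, hg, hL, hgen⟩ := exists_frame (S := S) φ hφ f hker a a' ha e₀ h hh hret p q e
  let φ' := padHom φ q
  have hφ' : Function.Surjective φ' := padHom_surjective φ hφ q
  let gens : Fin (s.card + q) → MvPolynomial (Fin (n + q)) R :=
    Fin.append (fun l => rename (Fin.castAdd q) (f l)) fun j => X (Fin.natAdd n j)
  have hker' : RingHom.ker φ'.toRingHom = Ideal.span (Set.range gens) := ker_padHom φ q f hker
  let rel : Fin ((n + p) + (s.card + q)) → MvPolynomial (Fin (n + q)) R := Fin.append g gens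
  have hrel : RingHom.ker φ'.toRingHom = Ideal.span (Set.range rel) := by
    refine le_antisymm ?_ (Ideal.span_le.2 ?_)
    · rw [hker']
      refine Ideal.span_mono ?_
      rintro _ ⟨l, rfl⟩
      exact ⟨Fin.natAdd _ l, by simp [rel]⟩
    · rintro _ ⟨l, rfl⟩
      refine Fin.addCases (fun i => ?_) (fun l => ?_) l
      · show rel _ ∈ RingHom.ker φ'.toRingHom
        simp only [rel, Fin.append_left]
        exact hg i
      · show rel _ ∈ RingHom.ker φ'.toRingHom
        simp only [rel, Fin.append_right]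
        rw [hker']
        exact Ideal.subset_span ⟨l, rfl⟩
  let χ' := (IsScalarTower.toAlgHom R A S).comp φ'
  have hcN : n + p ≤ n + q := by
    have hli : LinearIndependent S fun i => grad χ' (g i) := by
      refine LinearIndependent.of_comp L ?_
      have : (L ∘ fun i => grad χ' (g i)) = fun i => Pi.single i (1 : S) := funext hL
      rw [this]
      exact Pi.linearIndependent_single_one (Fin (n + p)) S
    simpa using hli.fintype_card_le_finrank
  -- the minors generate the unit ideal after inverting `a`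
  let M : Matrix (Fin (n + p)) (Fin (n + q)) S := Matrix.of fun i k => χ' (pderiv k (g i))
  have hmin := span_minors_eq_top M L hL
  let Imin : Ideal A := Ideal.span (Set.range fun cols : Fin (n + p) → Fin (n + q) =>
    φ' (jacobianMinor rel (Fin.castLE (Nat.le_add_right _ _)) cols))
  have hImin : Imin.map (algebraMap A S) = ⊤ := by
    rw [Ideal.map_span, ← Set.range_comp, ← hmin]
    congr 2
    funext cols
    show χ' (jacobianMinor rel _ cols) = _
    rw [jacobianMinor, AlgHom.map_det]
    congr 1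
    refine Matrix.ext fun j k => ?_
    show χ' (pderiv (cols k) (rel (Fin.castLE _ j))) = χ' (pderiv (cols k) (g j))
    have : Fin.castLE (Nat.le_add_right (n + p) (s.card + q)) j = Fin.castAdd (s.card + q) j := rfl
    rw [this]
    simp [rel]
  obtain ⟨E₁, hE₁⟩ : ∃ E₁ : ℕ, a ^ E₁ ∈ Imin := by
    have h1 : algebraMap A S 1 ∈ Imin.map (algebraMap A S) := hImin ▸ Submodule.mem_top
    rw [IsLocalization.algebraMap_mem_map_algebraMap_iff (Submonoid.powers a)] at h1
    obtain ⟨_, ⟨E₁, rfl⟩, hE⟩ := h1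
    exact ⟨E₁, by simpa using hE⟩
  -- the tail is killed
  obtain ⟨a'', ha''⟩ := hφ' a
  obtain ⟨e₁, h', hh', hret'⟩ := exists_conormal_retraction φ' hφ' ⟨Finset.univ.image gens, by
    rw [Finset.coe_image, Finset.coe_univ, Set.image_univ]
    exact hker'.symm⟩ a a'' ha''
  have hχ'0 : ∀ x, φ' x = 0 → χ' x = 0 := fun x hx => by
    show algebraMap A S (φ' x) = 0
    rw [hx, map_zero]
  let J := Ideal.span (Set.range g)
  have htail : ∀ l, ∃ E : ℕ, a'' ^ E * gens l ∈ J ⊔ RingHom.ker φ'.toRingHom ^ 2 := by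
    intro l
    obtain ⟨μ, hμ⟩ := (Submodule.mem_span_range_iff_exists_fun S).1 (hgen l)
    obtain ⟨t, num, hnum⟩ := exists_numerators φ' hφ' a μ
    have hl : φ' (gens l) = 0 := by
      have : gens l ∈ RingHom.ker φ'.toRingHom := hker' ▸ Ideal.subset_span ⟨l, rfl⟩
      exact this
    let w := a'' ^ t * gens l - ∑ i, num i * g i
    have hw : φ' w = 0 := by
      have hg' : ∀ i, φ' (g i) = 0 := hg
      simp [w, map_sum, hl, hg']
    have hgw : grad χ' w = 0 := by
      rw [map_sub, map_sum, grad_mul, hχ'0 _ hl, zero_smul, add_zero, sub_eq_zero]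
      show algebraMap A S (φ' (a'' ^ t)) • _ = _
      rw [map_pow, ha'', map_pow, show grad χ' (gens l) = ∑ i, μ i • grad χ' (g i) from hμ.symm,
        Finset.smul_sum]
      refine Finset.sum_congr rfl fun i _ => ?_
      rw [grad_mul, hχ'0 _ (hg i), zero_smul, add_zero, smul_smul, hnum i]
      rfl
    have hk : ∀ k, ∃ d : ℕ, a'' ^ d * pderiv k w ∈ RingHom.ker φ'.toRingHom := fun k => by
      have h1 : algebraMap A S (φ' (pderiv k w)) = 0 := congrFun hgw k
      obtain ⟨⟨_, d, rfl⟩, hd⟩ := (IsLocalization.map_eq_zero_iff (Submonoid.powers a) S _).1 h1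
      refine ⟨d, ?_⟩
      rw [RingHom.mem_ker]
      show φ' _ = 0
      rw [map_mul, map_pow, ha'']
      exact hd
    choose d hd using hk
    let D := ∑ k, d k
    have h3 : a'' ^ D * ∑ k, pderiv k w * h' k ∈ RingHom.ker φ'.toRingHom ^ 2 := by
      rw [Finset.mul_sum]
      refine Submodule.sum_mem _ fun k _ => ?_
      obtain ⟨d', hd'⟩ := Nat.exists_eq_add_of_le
        (Finset.single_le_sum (f := d) (fun i _ => Nat.zero_le _) (Finset.mem_univ k))
      rw [← mul_assoc, pow_two]
      refine Ideal.mul_mem_mul ?_ (hh' k)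
      show a'' ^ (∑ k, d k) * pderiv k w ∈ _
      rw [hd', pow_add, mul_right_comm]
      exact Ideal.mul_mem_right _ _ (hd k)
    refine ⟨D + e₁ + t, ?_⟩
    have h4 : a'' ^ (D + e₁ + t) * gens l = a'' ^ D * (a'' ^ e₁ * w - ∑ k, pderiv k w * h' k) +
        a'' ^ D * ∑ k, pderiv k w * h' k + a'' ^ (D + e₁) * ∑ i, num i * g i := by
      simp only [w]
      ring
    rw [h4]
    refine add_mem (add_mem (Ideal.mem_sup_right (Ideal.mul_mem_left _ _ (hret' w hw)))
      (Ideal.mem_sup_right h3)) (Ideal.mem_sup_left (Ideal.mul_mem_left _ _ ?_))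
    exact Submodule.sum_mem _ fun i _ => J.mul_mem_left _ (Ideal.subset_span ⟨i, rfl⟩)
  choose E₂ hE₂ using htail
  refine ⟨E₁ + ∑ l, E₂ l, fun k hk => ?_⟩
  let P : MarkedPresentation R A :=
    ⟨n + q, (n + p) + (s.card + q), n + p, hcN, Nat.le_add_right _ _, rel, φ', hφ', hrel⟩
  refine ⟨P, ?_, ?_⟩
  · show a ^ k ∈ Imin
    have : a ^ k = a ^ (k - E₁) * a ^ E₁ := by
      rw [← pow_add, Nat.sub_add_cancel ((Nat.le_add_right _ _).trans hk)]
    rw [this]
    exact Imin.mul_mem_left _ hE₁
  · intro (a₁ : MvPolynomial (Fin (n + q)) R) ha₁ (j : Fin ((n + p) + (s.card + q)))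
      (hj : n + p ≤ (j : ℕ))
    obtain ⟨l, rfl⟩ : ∃ l, j = Fin.natAdd (n + p) l :=
      ⟨⟨j - (n + p), by omega⟩, by ext; simp; omega⟩
    show a₁ * rel (Fin.natAdd (n + p) l) ∈ Ideal.span (rel '' _) ⊔ Ideal.span (Set.range rel) ^ 2
    rw [← hrel, show rel (Fin.natAdd (n + p) l) = gens l by simp [rel]]
    have hJ : J ≤ Ideal.span (rel '' {j' | (j' : ℕ) < n + p}) := Ideal.span_mono (by
      rintro _ ⟨i, rfl⟩
      exact ⟨Fin.castAdd _ i, i.2, by simp [rel]⟩)
    have hEk : E₂ l ≤ k :=
      (Finset.single_le_sum (f := E₂) (fun i _ => Nat.zero_le _) (Finset.mem_univ l)).trans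
        ((Nat.le_add_left _ _).trans hk)
    have h1 : a₁ - a'' ^ k ∈ RingHom.ker φ'.toRingHom := by
      rw [RingHom.mem_ker]
      show φ' _ = 0
      rw [map_sub, map_pow, ha'', show φ' a₁ = a ^ k from ha₁, sub_self]
    have : a₁ * gens l = (a₁ - a'' ^ k) * gens l + a'' ^ (k - E₂ l) * (a'' ^ E₂ l * gens l) := by
      rw [← mul_assoc, ← pow_add, Nat.sub_add_cancel hEk]
      ring
    rw [this]
    refine add_mem (Ideal.mem_sup_right ?_) ?_
    · rw [pow_two]
      exact Ideal.mul_mem_mul h1 (by rw [hker']; exact Ideal.subset_span ⟨l, rfl⟩)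
    · exact SetLike.le_def.1 (sup_le_sup_right (α := Ideal (MvPolynomial (Fin (n + q)) R)) hJ _)
        (Ideal.mul_mem_left _ _ (hE₂ l))

end Smoothing
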