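import Groth.Agent.Lib.Smoothing.LocalStandard
import Groth.Agent.Lib.Smoothing.Gradient
import Groth.Agent.Lib.GeomReg.Basic
import Groth.Agent.Lib.J2.Criterion
import Groth.Agent.Lib.CMFree.Regular
import Mathlib.RingTheory.DiscreteValuationRing.Basic
import Mathlib.RingTheory.Kaehler.Basic

set_option autoImplicit false
set_option backward.isDefEq.respectTransparency false

/-! Smoothness at the special point when the differentials are free. -/

open MvPolynomial
open scoped TensorProduct

namespace Smoothing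

universe u

/-- smoothness at a point whose residue map kills the cokernel of the relations -/
lemma exists_mul_rel_mem {R A : Type u} [CommRing R] [CommRing A] [Algebra R A] {n m c : ℕ}
    (f : Fin m → MvPolynomial (Fin n) R) (φ : MvPolynomial (Fin n) R →ₐ[R] A)
    (hφ : Function.Surjective φ) (hker : RingHom.ker φ.toRingHom = Ideal.span (Set.range f))
    (q : Ideal A) [q.IsPrime] [Algebra.IsSmoothAt R q] (rows : Fin c ↪ Fin m)
    (Q : Ideal (MvPolynomial (Fin n) R)) [Q.IsPrime] (hQ : Q = q.comap φ.toRingHom)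
    (hrows : ∀ l, (fun k => algebraMap _ Q.ResidueField (pderiv k (f l))) ∈
      Submodule.span Q.ResidueField (Set.range fun i k =>
        algebraMap _ Q.ResidueField (pderiv k (f (rows i))))) (l : Fin m) :
    ∃ t ∉ Q, t * f l ∈ Ideal.span (Set.range (f ∘ rows)) ⊔ Ideal.span (Set.range f) ^ 2 := by
  haveI : Algebra.FormallySmooth R (Localization.AtPrime q) := ‹Algebra.IsSmoothAt R q›
  obtain ⟨B, _, _, γ, σ, K, hB, hK2, hK, hσK, hσ, hγQ, hu, hback⟩ :=
    exists_split_thickening φ hφ q Q hQ (Localization.AtPrime Q) (Localization.AtPrime q)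
  have hfl : ∀ j, φ (f j) = 0 := fun j => by
    have : f j ∈ RingHom.ker φ.toRingHom := hker ▸ Ideal.subset_span ⟨j, rfl⟩
    exact this
  have hfQ : ∀ j, f j ∈ Q := fun j => by
    rw [hQ]
    show φ (f j) ∈ q
    rw [hfl]
    exact q.zero_mem
  have hKsp : K = Ideal.span (Set.range fun j => γ (f j)) := by
    rw [hK, hker, Ideal.map_span, ← Set.range_comp]
    rfl
  have hnak := le_map_span_rows f rows Q hfQ hrows γ σ K hK2 hKsp hσK (fun j => hσ _ (hfl j))
    (fun x hx => hγQ x hx) hu
  have h2 : γ (f l) ∈ (Ideal.span (Set.range (f ∘ rows))).map γ.toRingHom := by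
    rw [Ideal.map_span, ← Set.range_comp]
    exact hnak (hKsp ▸ Ideal.subset_span ⟨l, rfl⟩ : γ (f l) ∈ K)
  obtain ⟨t, ht, h⟩ := hback _ _ h2
  exact ⟨t, ht, hker ▸ h⟩

/-- a maximal minor of the relations is invertible when the differentials are free -/
lemma exists_rows_span {R Λ A : Type u} [CommRing R] [CommRing Λ] [IsDomain Λ]
    [IsDiscreteValuationRing Λ] [Algebra R Λ] [CommRing A] [Algebra R A] [Algebra A Λ]
    [IsScalarTower R A Λ] {n m : ℕ} (f : Fin m → MvPolynomial (Fin n) R)
    (φ : MvPolynomial (Fin n) R →ₐ[R] A) (hφ : Function.Surjective φ)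
    (hker : RingHom.ker φ.toRingHom = Ideal.span (Set.range f))
    (hfree : Module.Free Λ (Λ ⊗[A] Ω[A⁄R])) (χ : MvPolynomial (Fin n) R →ₐ[R] Λ)
    (hχ : ∀ p, χ p = algebraMap A Λ (φ p)) :
    ∃ (c : ℕ) (rows : Fin c ↪ Fin m) (cols : Fin c ↪ Fin n),
      χ (jacobianMinor f rows cols) ∉ IsLocalRing.maximalIdeal Λ ∧
      ∀ l, grad χ (f l) ∈ Submodule.span Λ (Set.range fun i => grad χ (f (rows i))) := by
  classical
  let res := IsLocalRing.residue Λ
  obtain ⟨c, rows, cols, hrows, hdet⟩ := exists_minor fun l k => res (grad χ (f l) k)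
  obtain ⟨ϖ, hϖ⟩ := IsDiscreteValuationRing.exists_irreducible Λ
  have hm : IsLocalRing.maximalIdeal Λ = Ideal.span {ϖ} := hϖ.maximalIdeal_eq
  let M : Submodule Λ (Fin n → Λ) := Submodule.span Λ (Set.range fun l => grad χ (f l))
  have hfl : ∀ j, φ (f j) = 0 := fun j => by
    have : f j ∈ RingHom.ker φ.toRingHom := hker ▸ Ideal.subset_span ⟨j, rfl⟩
    exact this
  -- the cokernel is torsion free
  let w : (Fin n → Λ) →ₗ[Λ] Λ ⊗[A] Ω[A⁄R] :=
    Fintype.linearCombination Λ fun k => (1 : Λ) ⊗ₜ[A] KaehlerDifferential.D R A (φ (X k))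
  have hD : ∀ p, (1 : Λ) ⊗ₜ[A] KaehlerDifferential.D R A (φ p) = w (grad χ p) := by
    intro p
    induction p using MvPolynomial.induction_on with
    | C r =>
      rw [← MvPolynomial.algebraMap_eq, grad_algebraMap, map_zero, φ.commutes,
        Derivation.map_algebraMap, TensorProduct.tmul_zero]
    | add p q hp hq => simp only [map_add, TensorProduct.tmul_add, hp, hq]
    | mul_X p i hp =>
      rw [grad_mul, map_add, map_smul, map_smul, grad_X, ← hp, map_mul, Derivation.leibniz,
        TensorProduct.tmul_add, TensorProduct.tmul_smul, TensorProduct.tmul_smul, hχ, hχ,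
        algebraMap_smul, algebraMap_smul]
      congr 2
      simp [w, Fintype.linearCombination_apply, Pi.single_apply]
  have hwM : ∀ v ∈ M, w v = 0 := by
    intro v hv
    have hle : M ≤ LinearMap.ker w := by
      refine Submodule.span_le.2 ?_
      rintro _ ⟨l, rfl⟩
      show w (grad χ (f l)) = 0
      rw [← hD, hfl, map_zero, TensorProduct.tmul_zero]
    exact hle hv
  have hsat : ∀ u, ϖ • u ∈ M → u ∈ M := by
    intro u hu
    have h1 : w u = 0 := by
      have h2 := hwM _ hu
      rw [map_smul] at h2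
      exact (smul_eq_zero.1 h2).resolve_left hϖ.ne_zero
    let Qm := (Fin n → Λ) ⧸ M
    haveI : IsScalarTower R A Qm := IsScalarTower.of_algebraMap_smul fun r x => by
      rw [← algebraMap_smul Λ (algebraMap R A r) x, ← IsScalarTower.algebraMap_apply,
        algebraMap_smul]
    have hgI : ∀ p, φ p = 0 → grad χ p ∈ M := by
      intro p hp
      have : p ∈ Ideal.span (Set.range f) := by rw [← hker]; exact hp
      obtain ⟨co, rfl⟩ := (Submodule.mem_span_range_iff_exists_fun _).1 this
      rw [map_sum]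
      refine Submodule.sum_mem _ fun j _ => ?_
      rw [smul_eq_mul, grad_mul, hχ (f j), hfl, map_zero, zero_smul, add_zero]
      exact M.smul_mem _ (Submodule.subset_span ⟨j, rfl⟩)
    let g := Function.surjInv hφ
    have hg : ∀ x, φ (g x) = x := Function.surjInv_eq hφ
    have hmk : ∀ x y, φ x = φ y → (Submodule.Quotient.mk (grad χ x) : Qm) = Submodule.Quotient.mk (grad χ y) :=
      fun x y h => (Submodule.Quotient.eq M).2 (by rw [← map_sub]; exact hgI _ (by rw [map_sub, h, sub_self]))
    let DA : Derivation R A Qm :=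
      { toFun := fun x => Submodule.Quotient.mk (grad χ (g x))
        map_add' := fun x y => by
          rw [hmk (g (x + y)) (g x + g y) (by simp [hg]), map_add]
          rfl
        map_smul' := fun r x => by
          rw [hmk (g (r • x)) (r • g x) (by simp [hg]), map_smul]
          rfl
        map_one_eq_zero' := by
          show (Submodule.Quotient.mk (grad χ (g 1)) : Qm) = 0
          rw [hmk (g 1) (algebraMap R _ 1) (by simp [hg]), grad_algebraMap]
          rfl
        leibniz' := fun x y => by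
          show (Submodule.Quotient.mk (grad χ (g (x * y))) : Qm) = _
          rw [hmk (g (x * y)) (g x * g y) (by simp [hg]), grad_mul, Submodule.Quotient.mk_add,
            Submodule.Quotient.mk_smul, Submodule.Quotient.mk_smul, hχ, hχ, hg, hg, algebraMap_smul,
            algebraMap_smul]
          rfl }
    let ℓ : Λ ⊗[A] Ω[A⁄R] →ₗ[Λ] Qm := DA.liftKaehlerDifferential.liftBaseChange Λ
    have hℓ : ℓ ∘ₗ w = M.mkQ := by
      refine (Pi.basisFun Λ (Fin n)).ext fun k => ?_
      simp only [w, Pi.basisFun_apply, LinearMap.comp_apply]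
      rw [Fintype.linearCombination_apply_single, one_smul]
      show ℓ _ = Submodule.Quotient.mk (Pi.single k 1)
      simp only [ℓ]
      rw [LinearMap.liftBaseChange_tmul, one_smul, Derivation.liftKaehlerDifferential_comp_D]
      show (Submodule.Quotient.mk (grad χ (g (φ (X k)))) : Qm) = _
      rw [hmk (g (φ (X k))) (X k) (hg _), grad_X]
    have := LinearMap.congr_fun hℓ u
    rw [LinearMap.comp_apply, h1, map_zero] at this
    exact (Submodule.Quotient.mk_eq_zero _).1 this.symm
  refine ⟨c, rows, cols, fun h => hdet ?_, ?_⟩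
  · rw [show χ (jacobianMinor f rows cols) = χ.toRingHom (jacobianMinor f rows cols) from rfl,
      jacobianMinor, RingHom.map_det] at h
    have h2 := (IsLocalRing.residue_eq_zero_iff _).2 h
    rw [RingHom.map_det] at h2
    exact h2
  · intro l
    let N := Submodule.span Λ (Set.range fun i => grad χ (f (rows i)))
    have hle : M ≤ N := by
      refine Submodule.le_of_le_smul_of_le_jacobson_bot (I := IsLocalRing.maximalIdeal Λ)
        (IsNoetherian.noetherian M) (by rw [IsLocalRing.jacobson_eq_maximalIdeal _ bot_ne_top]) ?_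
      refine Submodule.span_le.2 ?_
      rintro _ ⟨j, rfl⟩
      obtain ⟨ν, hν⟩ := (Submodule.mem_span_range_iff_exists_fun _).1 (hrows j)
      choose nu hnu using fun i => IsLocalRing.residue_surjective (ν i)
      let d := grad χ (f j) - ∑ i, nu i • grad χ (f (rows i))
      have hd : ∀ k, ϖ ∣ d k := fun k => by
        have h1 : res (d k) = 0 := by
          simp only [d, Pi.sub_apply, Finset.sum_apply, Pi.smul_apply, smul_eq_mul, map_sub, map_sum,
            map_mul, res, hnu]
          rw [sub_eq_zero]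
          simpa [res] using (congrFun hν k).symm
        rw [IsLocalRing.residue_eq_zero_iff, hm, Ideal.mem_span_singleton] at h1
        exact h1
      choose u hu using hd
      have hdu : d = ϖ • u := funext hu
      have hsumN : ∑ i, nu i • grad χ (f (rows i)) ∈ N :=
        Submodule.sum_mem _ fun i _ => N.smul_mem _ (Submodule.subset_span ⟨i, rfl⟩)
      have hNM : N ≤ M := Submodule.span_mono (by rintro _ ⟨i, rfl⟩; exact ⟨rows i, rfl⟩)
      have huM : u ∈ M := hsat u (hdu ▸ sub_mem (Submodule.subset_span ⟨j, rfl⟩) (hNM hsumN))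
      have : grad χ (f j) = ∑ i, nu i • grad χ (f (rows i)) + ϖ • u := by
        rw [← hdu]; simp [d]
      show grad χ (f j) ∈ _
      rw [this]
      exact Submodule.add_mem_sup hsumN
        (Submodule.smul_mem_smul (hm ▸ Ideal.mem_span_singleton_self ϖ) huM)
    exact hle (Submodule.subset_span ⟨l, rfl⟩)

theorem isSmoothAt_specialPoint {R Λ A : Type u} [CommRing R] [IsDomain R]
    [IsDiscreteValuationRing R] [CommRing Λ] [IsDomain Λ] [IsDiscreteValuationRing Λ] [Algebra R Λ]
    [CommRing A] [Algebra R A] [Algebra.FiniteType R A] [Algebra A Λ] [IsScalarTower R A Λ]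
    [(RingHom.ker (algebraMap A Λ)).IsPrime]
    (hq : Algebra.IsSmoothAt R (RingHom.ker (algebraMap A Λ)))
    (hfree : Module.Free Λ (Λ ⊗[A] Ω[A⁄R])) :
    Algebra.IsSmoothAt R ((IsLocalRing.maximalIdeal Λ).comap (algebraMap A Λ)) := by
  classical
  let q := RingHom.ker (algebraMap A Λ)
  haveI : Algebra.IsSmoothAt R q := hq
  let p := (IsLocalRing.maximalIdeal Λ).comap (algebraMap A Λ)
  haveI : Algebra.FinitePresentation R A := Algebra.FinitePresentation.of_finiteType.1 ‹_›
  obtain ⟨n, φ, hφ, ⟨s, hs⟩⟩ := Algebra.FinitePresentation.out (R := R) (A := A)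
  let f : Fin s.card → MvPolynomial (Fin n) R := fun i => (s.equivFin.symm i : _)
  have hker : RingHom.ker φ.toRingHom = Ideal.span (Set.range f) := by
    have : Set.range f = (s : Set (MvPolynomial (Fin n) R)) := by
      ext x
      exact ⟨fun ⟨i, hi⟩ => hi ▸ (s.equivFin.symm i).2,
        fun hx => ⟨s.equivFin ⟨x, hx⟩, by simp [f]⟩⟩
    rw [this]
    exact hs.symm
  let χ : MvPolynomial (Fin n) R →ₐ[R] Λ := (IsScalarTower.toAlgHom R A Λ).comp φ
  obtain ⟨c, rows, cols, hΔ, hspan⟩ := exists_rows_span f φ hφ hker hfree χ fun _ => rfl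
  let Q : Ideal (MvPolynomial (Fin n) R) := q.comap φ.toRingHom
  have hmemQ : ∀ x, x ∈ Q ↔ χ x = 0 := fun _ => Iff.rfl
  let Δ := jacobianMinor f rows cols
  -- the rows span at the generic point
  have hrowsQ : ∀ l, (fun k => algebraMap _ Q.ResidueField (pderiv k (f l))) ∈
      Submodule.span Q.ResidueField (Set.range fun i k =>
        algebraMap _ Q.ResidueField (pderiv k (f (rows i)))) := by
    intro l
    obtain ⟨ν, hν⟩ := (Submodule.mem_span_range_iff_exists_fun _).1 (hspan l)
    let Mat : Matrix (Fin c) (Fin c) (MvPolynomial (Fin n) R) :=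
      Matrix.of fun i j => pderiv (cols j) (f (rows i))
    let co : Fin c → MvPolynomial (Fin n) R :=
      Matrix.vecMul (fun j => pderiv (cols j) (f l)) Mat.adjugate
    have hco : ∀ i, χ (co i) = χ Δ * ν i := by
      intro i
      have h1 : ∀ j, χ (pderiv (cols j) (f l)) = ∑ i', ν i' * χ (Mat i' j) := fun j => by
        have h2 := congrFun hν (cols j)
        simp only [Finset.sum_apply, Pi.smul_apply, smul_eq_mul, grad_apply] at h2
        exact h2.symm
      have h3 : ∀ i', ∑ j, χ (Mat i' j) * χ (Mat.adjugate j i) = if i' = i then χ Δ else 0 := by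
        intro i'
        have h4 := congrArg χ (congrFun (congrFun (Matrix.mul_adjugate Mat) i') i)
        rw [Matrix.mul_apply, map_sum] at h4
        simp only [map_mul] at h4
        rw [h4, Matrix.smul_apply, Matrix.one_apply, smul_eq_mul]
        split <;> simp [Δ, jacobianMinor, Mat]
      simp only [co, Matrix.vecMul, dotProduct, map_sum, map_mul, h1, Finset.sum_mul]
      rw [Finset.sum_comm]
      simp only [mul_assoc, ← Finset.mul_sum, h3]
      simp [mul_comm]
    let ρ : MvPolynomial (Fin n) R →+* Q.ResidueField := algebraMap _ _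
    have hρΔ : ρ Δ ≠ 0 := fun h => hΔ (by
      rw [Ideal.algebraMap_residueField_eq_zero, hmemQ] at h
      rw [h]
      exact zero_mem _)
    refine (Submodule.mem_span_range_iff_exists_fun _).2 ⟨fun i => ρ (co i) / ρ Δ, funext fun k => ?_⟩
    have h5 : ρ (Δ * pderiv k (f l) - ∑ i, co i * pderiv k (f (rows i))) = 0 := by
      rw [Ideal.algebraMap_residueField_eq_zero, hmemQ, map_sub, map_mul, map_sum, sub_eq_zero]
      have h2 := congrFun hν k
      simp only [Finset.sum_apply, Pi.smul_apply, smul_eq_mul, grad_apply] at h2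
      rw [← h2, Finset.mul_sum]
      exact Finset.sum_congr rfl fun i _ => by rw [map_mul, hco]; ring
    rw [map_sub, map_mul, map_sum, sub_eq_zero] at h5
    simp only [Finset.sum_apply, Pi.smul_apply, smul_eq_mul]
    apply mul_left_cancel₀ hρΔ
    rw [h5, Finset.mul_sum]
    exact Finset.sum_congr rfl fun i _ => by rw [map_mul]; field_simp; rfl
  have hkillq := exists_mul_rel_mem f φ hφ hker q rows Q rfl hrowsQ
  -- the complete intersection through the special point
  let Jr : Ideal (MvPolynomial (Fin n) R) := Ideal.span (Set.range (f ∘ rows))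
  let B := MvPolynomial (Fin n) R ⧸ Jr
  let mkB : MvPolynomial (Fin n) R →ₐ[R] B := Ideal.Quotient.mkₐ R Jr
  have hJrI : Jr ≤ RingHom.ker φ.toRingHom := hker ▸ Ideal.span_mono (Set.range_comp_subset_range _ _)
  let θ : B →ₐ[R] A := Ideal.Quotient.liftₐ Jr φ fun x hx => hJrI hx
  let pB : Ideal B := p.comap θ
  haveI : pB.IsPrime := Ideal.IsPrime.comap _
  haveI : Algebra.FinitePresentation R B :=
    Algebra.FinitePresentation.quotient ⟨Finset.univ.image (f ∘ rows), by simp [Jr]; rfl⟩
  haveI hsmB : Algebra.IsSmoothAt R pB := by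
    refine isSmoothAt_of_kill (B := B) (f ∘ rows) mkB Ideal.Quotient.mk_surjective Ideal.mk_ker pB
      (Function.Embedding.refl _) cols ?_ fun ℓ => ⟨1, ?_, ?_⟩
    · exact hΔ
    · rw [map_one]; exact Ideal.one_notMem _
    · rw [one_mul]
      exact Ideal.mem_sup_left (Ideal.subset_span ⟨ℓ, rfl⟩)
  obtain ⟨b, hb, hbsm⟩ := Algebra.IsSmoothAt.exists_notMem_smooth R pB
  haveI := hbsm
  haveI : IsRegularRing (Localization.Away b) :=
    GrothLib.GeomReg.isRegularRing_of_smooth R (Localization.Away b)
  haveI : IsRegularLocalRing (Localization.AtPrime pB) := GrothLib.J2.isRegularLocalRing_of_away b pB hb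
  haveI : IsDomain (Localization.AtPrime pB) :=
    GrothLib.CMFree.isDomain_of_isRegularLocalRing (Localization.AtPrime pB)
  let qB : Ideal B := q.comap θ
  haveI : qB.IsPrime := Ideal.IsPrime.comap _
  -- the kernel vanishes at the generic point
  let J : Ideal B := RingHom.ker θ.toRingHom
  let Bq := Localization.AtPrime qB
  have hJeq : J = Ideal.span (Set.range fun l => mkB (f l)) := by
    refine le_antisymm (fun x hx => ?_) (Ideal.span_le.2 ?_)
    · obtain ⟨x, rfl⟩ := Ideal.Quotient.mk_surjective x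
      have : x ∈ Ideal.span (Set.range f) := by rw [← hker]; exact hx
      have h2 := Ideal.mem_map_of_mem mkB.toRingHom this
      rw [Ideal.map_span, ← Set.range_comp] at h2
      exact h2
    · rintro _ ⟨l, rfl⟩
      show φ (f l) = 0
      have : f l ∈ RingHom.ker φ.toRingHom := hker ▸ Ideal.subset_span ⟨l, rfl⟩
      exact this
  have hJq : J.map (algebraMap B Bq) = ⊥ := by
    refine Submodule.eq_bot_of_le_smul_of_le_jacobson_bot (R := Bq) (M := Bq) (IsLocalRing.maximalIdeal Bq)
      (J.map (algebraMap B Bq))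
      (IsNoetherian.noetherian _) ?_ (by rw [IsLocalRing.jacobson_eq_maximalIdeal]; exact bot_ne_top)
    rw [hJeq, Ideal.map_span, ← Set.range_comp, Ideal.span_le]
    rintro _ ⟨l, rfl⟩
    obtain ⟨t, ht, htl⟩ := hkillq l
    let η : MvPolynomial (Fin n) R →+* Bq := (algebraMap B Bq).comp mkB.toRingHom
    have hu : IsUnit (η t) :=
      IsLocalization.map_units Bq (⟨mkB t, ht⟩ : qB.primeCompl)
    refine (Ideal.unit_mul_mem_iff_mem _ hu).1 ?_
    have h2 := Ideal.mem_map_of_mem η htl
    rw [Ideal.map_sup, Ideal.map_pow, map_mul] at h2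
    have h3 : Jr.map η = ⊥ := by
      rw [← Ideal.map_map, show Jr.map mkB.toRingHom = ⊥ from Ideal.map_quotient_self Jr, Ideal.map_bot]
    rw [h3, bot_sup_eq, pow_two, Ideal.map_span, ← Set.range_comp] at h2
    refine (Submodule.smul_mono_left (N := Ideal.span (Set.range (η ∘ f))) ?_) h2
    rw [Ideal.span_le]
    rintro _ ⟨j, rfl⟩
    rw [← Localization.AtPrime.map_eq_maximalIdeal]
    refine Ideal.mem_map_of_mem _ ?_
    show φ (f j) ∈ q
    have : f j ∈ RingHom.ker φ.toRingHom := hker ▸ Ideal.subset_span ⟨j, rfl⟩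
    rw [show φ (f j) = 0 from this]
    exact q.zero_mem
  -- so it vanishes at the special point
  have hqp : ∀ x, x ∈ qB → x ∈ pB := fun x hx => by
    show algebraMap A Λ (θ x) ∈ IsLocalRing.maximalIdeal Λ
    rw [show algebraMap A Λ (θ x) = 0 from hx]
    exact zero_mem _
  haveI : p.IsPrime := Ideal.IsPrime.comap _
  refine isSmoothAt_of_kill f φ hφ hker p rows cols hΔ fun ℓ => ?_
  have hl : algebraMap B Bq (mkB (f ℓ)) = 0 := by
    have : algebraMap B Bq (mkB (f ℓ)) ∈ J.map (algebraMap B Bq) :=
      Ideal.mem_map_of_mem _ (hJeq ▸ Ideal.subset_span ⟨ℓ, rfl⟩)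
    rwa [hJq] at this
  obtain ⟨⟨s₁, hs₁⟩, h1⟩ := (IsLocalization.map_eq_zero_iff qB.primeCompl Bq _).1 hl
  have h2 := congrArg (algebraMap B (Localization.AtPrime pB)) h1
  rw [map_mul, map_zero, mul_eq_zero] at h2
  rcases h2 with h2 | h2
  · obtain ⟨⟨t, ht⟩, h3⟩ := (IsLocalization.map_eq_zero_iff pB.primeCompl _ _).1 h2
    have : t * s₁ ∈ qB := by rw [h3]; exact qB.zero_mem
    exact absurd (((inferInstance : qB.IsPrime).mem_or_mem this).elim (hqp t) fun h => absurd h hs₁) ht
  · obtain ⟨⟨t, ht⟩, h3⟩ := (IsLocalization.map_eq_zero_iff pB.primeCompl _ _).1 h2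
    obtain ⟨t, rfl⟩ := Ideal.Quotient.mk_surjective t
    refine ⟨t, ht, Ideal.mem_sup_left ?_⟩
    change Ideal.Quotient.mk Jr t * Ideal.Quotient.mk Jr (f ℓ) = 0 at h3
    rw [← map_mul] at h3
    exact Ideal.Quotient.eq_zero_iff_mem.1 h3

end Smoothing
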